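import Cfsg.Agent.Lib.OmegaMult.Descent

/-!
The kernel of a perfect central extension has at most two elements, and one in characteristic two.
-/

set_option autoImplicit false
set_option linter.unusedSectionVars false
set_option linter.unusedSimpArgs false
set_option linter.unusedVariables false

namespace Cfsg.Agent.OmegaMult

open QuadraticMap Module Cfsg.Agent.Orth Cfsg.Agent.TwoGenOrth
open scoped commutatorElement

variable {F V : Type*} [Field F] [AddCommGroup V] [Module F V] {Q : QuadraticForm F V}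

/-- The plane of a pair adjoined to a subspace. -/
def withPair (a a' : V) (T : Submodule F V) : Submodule F V := Submodule.span F {a, a'} ⊔ T

theorem mem_withPair_left {a a' : V} (T : Submodule F V) : a ∈ withPair a a' T :=
  Submodule.mem_sup_left (Submodule.subset_span (Set.mem_insert _ _))

theorem mem_withPair_right {a a' : V} (T : Submodule F V) : a' ∈ withPair a a' T :=
  Submodule.mem_sup_left (Submodule.subset_span (Set.mem_insert_of_mem _ rfl))

theorem withPair_shape {a a' : V} {T : Submodule F V} {x : V} (hx : x ∈ withPair a a' T) :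
    ∃ p q : F, ∃ t ∈ T, x = p • a + q • a' + t := by
  obtain ⟨y, hy, t, ht, rfl⟩ := Submodule.mem_sup.1 hx
  obtain ⟨p, q, rfl⟩ := Submodule.mem_span_pair.1 hy
  exact ⟨p, q, t, ht, rfl⟩

theorem withPair_good {a a' : V} {T : Submodule F V} (h : Pair Q a a') (hT : T ≤ pp Q a a') (hg : Good Q T) :
    Good Q (withPair a a' T) := by
  intro x hx hx0
  obtain ⟨p, q, t, ht, rfl⟩ := withPair_shape hx
  have ha : polar Q t a = 0 := (hT ht).1
  have ha' : polar Q t a' = 0 := (hT ht).2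
  by_cases hp : p = 0
  · by_cases hq : q = 0
    · subst hp hq
      have ht0 : t ≠ 0 := fun h0 => hx0 (by rw [h0]; simp)
      obtain ⟨y, hy, hty⟩ := hg t ht ht0
      refine ⟨y, Submodule.mem_sup_right hy, ?_⟩
      simpa using hty
    · refine ⟨a, mem_withPair_left T, ?_⟩
      rw [b_add_left, b_add_left, b_smul_left, b_smul_left, h.aa, h.b', ha]
      simpa using hq
  · refine ⟨a', mem_withPair_right T, ?_⟩
    rw [b_add_left, b_add_left, b_smul_left, b_smul_left, h.b, h.symm.aa, ha']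
    simpa using hp

theorem withPair_inf {a a' : V} {T : Submodule F V} (h : Pair Q a a') (hT : T ≤ pp Q a a') :
    withPair a a' T ⊓ pp Q a a' ≤ T := by
  rintro x ⟨hx, hxa, hxa'⟩
  obtain ⟨p, q, t, ht, rfl⟩ := withPair_shape hx
  rw [b_add_left, b_add_left, b_smul_left, b_smul_left, h.aa, h.b', (hT ht).1] at hxa
  rw [b_add_left, b_add_left, b_smul_left, b_smul_left, h.b, h.symm.aa, (hT ht).2] at hxa'
  have hp : p = 0 := by linear_combination hxa'
  have hq : q = 0 := by linear_combination hxa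
  rw [hp, hq]
  simpa using ht

theorem withPair_le {a a' : V} {T U : Submodule F V} (ha : a ∈ U) (ha' : a' ∈ U) (hT : T ≤ U) :
    withPair a a' T ≤ U := by
  refine sup_le (Submodule.span_le.2 ?_) hT
  rintro x (rfl | rfl) <;> assumption

theorem exists_aniso {T : Submodule F V} (hg : Good Q T) (hne : T ≠ ⊥) : ∃ x ∈ T, Q x ≠ 0 := by
  by_contra hcon
  push Not at hcon
  obtain ⟨x, hx, hx0⟩ := Submodule.exists_mem_ne_zero_of_ne_bot hne
  obtain ⟨y, hy, hxy⟩ := hg x hx hx0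
  refine hxy ?_
  have := q_add (Q := Q) x y
  rw [hcon _ (T.add_mem hx hy), hcon x hx, hcon y hy] at this
  linear_combination -this

theorem exists_span_pair [FiniteDimensional F V] {C : Submodule F V} (h : finrank F C ≤ 2) :
    ∃ x ∈ C, ∃ y ∈ C, C ≤ Submodule.span F {x, y} := by
  by_cases hC : C = ⊥
  · exact ⟨0, C.zero_mem, 0, C.zero_mem, by rw [hC]; exact bot_le⟩
  obtain ⟨x, hx, hx0⟩ := Submodule.exists_mem_ne_zero_of_ne_bot hC
  by_cases hle : C ≤ Submodule.span F {x}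
  · exact ⟨x, hx, x, hx, hle.trans (Submodule.span_mono (by simp))⟩
  obtain ⟨y, hy, hyx⟩ := SetLike.not_le_iff_exists.1 hle
  refine ⟨x, hx, y, hy, le_of_eq ?_⟩
  have hli : LinearIndependent F ![x, y] := (LinearIndependent.pair_iff' hx0).2 fun c hc =>
    hyx (hc ▸ Submodule.smul_mem _ _ (Submodule.mem_span_singleton_self x))
  have hr : Submodule.span F {x, y} ≤ C := Submodule.span_le.2 (by rintro z (rfl | rfl) <;> assumption)
  refine (Submodule.eq_of_le_of_finrank_le hr ?_).symm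
  have := finrank_span_eq_card hli
  rw [Matrix.range_cons, Matrix.range_cons, Matrix.range_empty, Set.union_empty, Set.singleton_union,
    Fintype.card_fin] at this
  rw [this]
  exact h

variable [FiniteDimensional F V] [Fintype F] {E : Type*} [Group E] {π : E →* oGroup Q}
variable (hπ : IsCov π) (hchi : Chi π)
include hπ hchi

theorem descend_of {S : Submodule F V} (hS : Good Q S) {e f u v x : V} (hef : Pair Q e f) (he : e ∈ S)
    (hf : f ∈ S) (hu : u ∈ S ⊓ pp Q e f) (hv : v ∈ S ⊓ pp Q e f) (huv : Pair Q u v) (hx : x ∈ S ⊓ pp Q e f)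
    (hxu : x ∈ pp Q u v) (hq : Q x ≠ 0) {k : E} (hk : k ∈ Loc π S) (hk1 : π k = 1) :
    k ∈ Loc π (S ⊓ pp Q e f) := by
  have D : Step π S e f x := ⟨hπ, hchi, hS, hef, he, hf, hx, hq⟩
  obtain ⟨l, hl, s, hs, rfl⟩ := D.kernel_shape hu hv huv hk hk1
  exact mul_mem hl (hL_mem_Loc hπ hchi (Quad.of_mem hef huv hu.2 hv.2) hu hv hx hxu hq hs)

theorem descend {S : Submodule F V} (hS : Good Q S) (hn : 5 ≤ finrank F S) {e f : V} (hef : Pair Q e f)
    (he : e ∈ S) (hf : f ∈ S) {k : E} (hk : k ∈ Loc π S) (hk1 : π k = 1) : k ∈ Loc π (S ⊓ pp Q e f) := by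
  have hA := good_inf hS hef he hf
  have h1 := finrank_inf_pp (Q := Q) S e f
  obtain ⟨u, hu, v, hv, huv⟩ := exists_pair hA (by omega)
  have h2 := finrank_inf_pp (Q := Q) (S ⊓ pp Q e f) u v
  obtain ⟨x, hx, hq⟩ := exists_aniso (good_inf hA huv hu hv) (ne_bot_of_finrank (by omega))
  exact descend_of hπ hchi hS hef he hf hu hv huv hx.1 hx.2 hq hk hk1

/-- The kernel lies in the subgroup of a small subspace through a given pair. -/
theorem exists_small {p p' : V} (hp : Pair Q p p') :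
    ∃ S : Submodule F V, Good Q S ∧ p ∈ S ∧ p' ∈ S ∧ finrank F (S ⊓ pp Q p p' : Submodule F V) ≤ 2 ∧
      ∀ k : E, π k = 1 → k ∈ Loc π S := by
  suffices H : ∀ (n : ℕ) (S : Submodule F V), finrank F S ≤ n → Good Q S → p ∈ S → p' ∈ S →
      (∀ k : E, π k = 1 → k ∈ Loc π S) →
      ∃ S : Submodule F V, Good Q S ∧ p ∈ S ∧ p' ∈ S ∧ finrank F (S ⊓ pp Q p p' : Submodule F V) ≤ 2 ∧
        ∀ k : E, π k = 1 → k ∈ Loc π S from
    H _ ⊤ le_rfl (good_top hπ.nd) Submodule.mem_top Submodule.mem_top fun k _ => by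
      rw [Loc_top hπ hchi]; exact Subgroup.mem_top k
  intro n
  induction n with
  | zero =>
    intro S hn hg hpS hp'S hk
    exact ⟨S, hg, hpS, hp'S, ((Submodule.finrank_mono inf_le_left).trans hn).trans (by omega), hk⟩
  | succ n ih =>
    intro S hn hg hpS hp'S hk
    by_cases hsmall : finrank F (S ⊓ pp Q p p' : Submodule F V) ≤ 2
    · exact ⟨S, hg, hpS, hp'S, hsmall, hk⟩
    have hA := good_inf hg hp hpS hp'S
    obtain ⟨e, he, f, hf, hef⟩ := exists_pair hA (by omega)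
    have h5 : 5 ≤ finrank F S := by
      have hlt : finrank F (withPair p p' (⊥ : Submodule F V) ⊔ (S ⊓ pp Q p p') : Submodule F V) ≤ finrank F S :=
        Submodule.finrank_mono (sup_le (withPair_le hpS hp'S bot_le) inf_le_left)
      have hdisj : withPair p p' (⊥ : Submodule F V) ⊓ (S ⊓ pp Q p p') = ⊥ :=
        le_bot_iff.1 (le_trans (le_inf inf_le_left (inf_le_right.trans inf_le_right)) (withPair_inf hp bot_le))
      have hsum := Submodule.finrank_sup_add_finrank_inf_eq (withPair p p' (⊥ : Submodule F V)) (S ⊓ pp Q p p')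
      rw [hdisj, finrank_bot, add_zero] at hsum
      have h2 : 2 ≤ finrank F (withPair p p' (⊥ : Submodule F V)) := by
        have hli : LinearIndependent F ![p, p'] := (LinearIndependent.pair_iff' hp.ne).2 fun c hc => by
          have := hp.b
          rw [← hc, b_smul_right, hp.aa, mul_zero] at this
          exact zero_ne_one this
        have := finrank_span_eq_card hli
        rw [Matrix.range_cons, Matrix.range_cons, Matrix.range_empty, Set.union_empty, Set.singleton_union,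
          Fintype.card_fin] at this
        exact le_of_eq_of_le this.symm (Submodule.finrank_mono le_sup_left)
      omega
    refine ih (S ⊓ pp Q e f) ?_ (good_inf hg hef he.1 hf.1)
      ⟨hpS, by rw [b_comm]; exact he.2.1, by rw [b_comm]; exact hf.2.1⟩
      ⟨hp'S, by rw [b_comm]; exact he.2.2, by rw [b_comm]; exact hf.2.2⟩
      fun k hk1 => descend hπ hchi hg h5 hef he.1 hf.1 (hk k hk1) hk1
    have hlt : S ⊓ pp Q e f < S := lt_of_le_not_ge inf_le_left fun hle => by
      have := (hle he.1).2.2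
      rw [hef.b] at this
      exact one_ne_zero this
    have := Submodule.finrank_lt_finrank_of_lt hlt
    omega

/-- The subgroup of a hyperbolic plane is trivial. -/
theorem Loc_plane {c c' : V} (h : Pair Q c c') : Loc π (withPair c c' (⊥ : Submodule F V)) = ⊥ := by
  rw [Loc, Subgroup.closure_eq_bot_iff]
  rintro _ ⟨a, y, ha, hy, hqa, hay, rfl⟩
  obtain ⟨p, q, t, ht, rfl⟩ := withPair_shape ha
  obtain ⟨r, s, t', ht', rfl⟩ := withPair_shape hy
  rw [Submodule.mem_bot] at ht ht'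
  subst ht ht'
  simp only [add_zero] at hqa hay ⊢
  rw [Set.mem_singleton_iff]
  have hpq : p * q = 0 := by
    rw [q_add, q_smul, q_smul, h.qa, h.qa', b_smul_left, b_smul_right, h.b] at hqa
    linear_combination hqa
  have hb : p * s + q * r = 0 := by
    rw [b_add_left, b_add_right, b_add_right, b_smul_left, b_smul_left, b_smul_left, b_smul_left, b_smul_right,
      b_smul_right, b_smul_right, b_smul_right, h.aa, h.symm.aa, h.b, h.b'] at hay
    linear_combination hay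
  have triv : ∀ {c : V}, Q c = 0 → ∀ p r : F, kappa π (p • c) (r • c) = 1 := fun {c} hc p r => by
    rw [kappa_smul_left hπ hchi hc (by rw [b_smul_right, b_self, hc, mul_zero, mul_zero]), smul_smul,
      kappa_self hπ hchi hc]
  rcases mul_eq_zero.1 hpq with rfl | rfl
  · rcases eq_or_ne q 0 with rfl | hq0
    · have hy0 : polar Q c (0 : V) = 0 := b_zero_right c
      rw [zero_smul, zero_smul, add_zero]
      have := kappa_smul_left hπ hchi (map_zero Q) (b_zero_left (r • c + s • c')) (0 : F)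
      rw [zero_smul, zero_smul] at this
      rw [this, kappa_zero hπ hchi (map_zero Q)]
    · have hr : r = 0 := by simpa [hq0] using hb
      rw [hr, zero_smul, zero_add, zero_add, triv h.qa']
  · rcases eq_or_ne p 0 with rfl | hp0
    · rw [zero_smul, zero_smul, add_zero]
      have := kappa_smul_left hπ hchi (map_zero Q) (b_zero_left (r • c + s • c')) (0 : F)
      rw [zero_smul, zero_smul] at this
      rw [this, kappa_zero hπ hchi (map_zero Q)]
    · have hs : s = 0 := by simpa [hp0] using hb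
      rw [hs, zero_smul, add_zero, add_zero, triv h.qa]

/-- The kernel consists of the identity and one torus element. -/
theorem kernel_bound {b b' c c' : V} (h : Quad Q b b' c c') {k : E} (hk1 : π k = 1) :
    k = 1 ∨ k = hL π b b' c c' (-1) * hL π b b' c' c (-1) := by
  have hT := good_top (Q := Q) hπ.nd
  have hn := hπ.dim
  have htop := finrank_top F V
  -- a pair orthogonal to the frame
  obtain ⟨B, hB⟩ : ∃ B, (⊤ : Submodule F V) ⊓ pp Q b b' = B := ⟨_, rfl⟩
  have hBg : Good Q B := hB ▸ good_inf hT h.pa Submodule.mem_top Submodule.mem_top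
  have hcB : c ∈ B := hB ▸ ⟨Submodule.mem_top, h.swap.ab, h.swap.ab'⟩
  have hc'B : c' ∈ B := hB ▸ ⟨Submodule.mem_top, h.swap.a'b, h.swap.a'b'⟩
  have hdB : finrank F V ≤ finrank F B + 2 := by
    rw [← hB, ← htop]; exact finrank_inf_pp _ _ _
  obtain ⟨p, hp, p', hp', hpp⟩ := exists_pair (good_inf hBg h.pb hcB hc'B)
    (by have := finrank_inf_pp (Q := Q) B c c'; omega)
  rw [← hB] at hp hp'
  obtain ⟨S, hSg, hpS, hp'S, hC, hS⟩ := exists_small hπ hchi hpp
  obtain ⟨x, hx, y, hy, hspan⟩ := exists_span_pair hC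
  -- move the core into the frame
  obtain ⟨A, hA⟩ : ∃ A, (⊤ : Submodule F V) ⊓ pp Q p p' = A := ⟨_, rfl⟩
  have hAg : Good Q A := hA ▸ good_inf hT hpp Submodule.mem_top Submodule.mem_top
  have hbA : b ∈ A := hA ▸ ⟨Submodule.mem_top, by rw [b_comm]; exact hp.1.2.1, by rw [b_comm]; exact hp'.1.2.1⟩
  have hb'A : b' ∈ A := hA ▸ ⟨Submodule.mem_top, by rw [b_comm]; exact hp.1.2.2, by rw [b_comm]; exact hp'.1.2.2⟩
  have hcA : c ∈ A := hA ▸ ⟨Submodule.mem_top, by rw [b_comm]; exact hp.2.1, by rw [b_comm]; exact hp'.2.1⟩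
  have hc'A : c' ∈ A := hA ▸ ⟨Submodule.mem_top, by rw [b_comm]; exact hp.2.2, by rw [b_comm]; exact hp'.2.2⟩
  obtain ⟨W2, hW2⟩ : ∃ W, withPair c c' (⊥ : Submodule F V) = W := ⟨_, rfl⟩
  obtain ⟨W4, hW4⟩ : ∃ W, withPair b b' W2 = W := ⟨_, rfl⟩
  obtain ⟨W6, hW6⟩ : ∃ W, withPair p p' W4 = W := ⟨_, rfl⟩
  have hW2pp : W2 ≤ pp Q b b' := hW2 ▸ withPair_le ⟨h.swap.ab, h.swap.ab'⟩ ⟨h.swap.a'b, h.swap.a'b'⟩ bot_le
  have hW4A : W4 ≤ A := hW4 ▸ withPair_le hbA hb'A (hW2 ▸ withPair_le hcA hc'A bot_le)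
  have hW4pp : W4 ≤ pp Q p p' := hW4A.trans (hA ▸ inf_le_right)
  have hg2 : Good Q W2 := hW2 ▸ withPair_good h.pb bot_le (fun x hx hx0 => absurd ((Submodule.mem_bot F).1 hx) hx0)
  have hg4 : Good Q W4 := hW4 ▸ withPair_good h.pa hW2pp hg2
  have hg6 : Good Q W6 := hW6 ▸ withPair_good hpp hW4pp hg4
  have hcW2 : c ∈ W2 := hW2 ▸ mem_withPair_left _
  have hc'W2 : c' ∈ W2 := hW2 ▸ mem_withPair_right _
  have hbW4 : b ∈ W4 := hW4 ▸ mem_withPair_left _
  have hb'W4 : b' ∈ W4 := hW4 ▸ mem_withPair_right _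
  have h24 : W2 ≤ W4 := hW4 ▸ le_sup_right
  have h46 : W4 ≤ W6 := hW6 ▸ le_sup_right
  have hmove : ∃ z : E, (π z).1 p = p ∧ (π z).1 p' = p' ∧ (π z).1 x ∈ W4 ∧ (π z).1 y ∈ W4 := by
    have fixA : ∀ l ∈ Loc π A, (π l).1 p = p ∧ (π l).1 p' = p' := fun l hl =>
      ⟨Loc_fix hπ hchi hl fun s hs => by rw [← hA] at hs; rw [b_comm]; exact hs.2.1,
        Loc_fix hπ hchi hl fun s hs => by rw [← hA] at hs; rw [b_comm]; exact hs.2.2⟩
    have hxA : x ∈ A := hA ▸ ⟨Submodule.mem_top, hx.2⟩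
    have hyA : y ∈ A := hA ▸ ⟨Submodule.mem_top, hy.2⟩
    have mov : ∀ {A' : Submodule F V}, Good Q A' → ∀ {u v w : V}, Pair Q u v → u ∈ A' → v ∈ A' → w ∈ A' →
        ∃ l ∈ Loc π A', ∃ a d : F, (π l).1 w = a • u + d • v := by
      intro A' hg u v w huv hu hv hw
      rcases eq_or_ne w 0 with rfl | hw0
      · exact ⟨1, one_mem _, 0, 0, by simp⟩
      · exact exists_move hπ hchi hg huv hu hv hw hw0
    obtain ⟨l₁, hl₁, a, d, e1⟩ := mov hAg h.pa hbA hb'A hxA
    obtain ⟨y₁, hy₁⟩ : ∃ y₁, (π l₁).1 y = y₁ := ⟨_, rfl⟩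
    have hy₁A : y₁ ∈ A := hy₁ ▸ (Loc_map hπ hchi hl₁ y).1 hyA
    obtain ⟨w, hw⟩ : ∃ w, y₁ - polar Q y₁ b' • b - polar Q y₁ b • b' = w := ⟨_, rfl⟩
    have hwA : w ∈ A ⊓ pp Q b b' := hw ▸ proj_mem' h.pa hbA hb'A hy₁A
    obtain ⟨l₂, hl₂, a₂, d₂, e2⟩ := mov (good_inf hAg h.pa hbA hb'A) h.pb
      ⟨hcA, h.swap.ab, h.swap.ab'⟩ ⟨hc'A, h.swap.a'b, h.swap.a'b'⟩ hwA
    have f1 : (π l₂).1 b = b := Loc_fix hπ hchi hl₂ fun s hs => by rw [b_comm]; exact hs.2.1
    have f2 : (π l₂).1 b' = b' := Loc_fix hπ hchi hl₂ fun s hs => by rw [b_comm]; exact hs.2.2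
    have f3 := fixA _ (Loc_mono inf_le_left hl₂)
    have f4 := fixA _ hl₁
    refine ⟨l₂ * l₁, ?_, ?_, ?_, ?_⟩ <;> simp only [map_mul, Subgroup.coe_mul, LinearEquiv.mul_apply]
    · rw [f4.1, f3.1]
    · rw [f4.2, f3.2]
    · rw [e1, map_add, map_smul, map_smul, f1, f2]
      exact W4.add_mem (W4.smul_mem _ hbW4) (W4.smul_mem _ hb'W4)
    · rw [hy₁, show y₁ = polar Q y₁ b' • b + polar Q y₁ b • b' + w by rw [← hw]; abel, map_add, map_add,
        map_smul, map_smul, f1, f2, e2]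
      exact W4.add_mem (W4.add_mem (W4.smul_mem _ hbW4) (W4.smul_mem _ hb'W4))
        (W4.add_mem (W4.smul_mem _ (h24 hcW2)) (W4.smul_mem _ (h24 hc'W2)))
  obtain ⟨z, zp, zp', zx, zy⟩ := hmove
  have hzS : ∀ s ∈ S, (π z).1 s ∈ W6 := by
    intro s hs
    have hs' := proj_mem' hpp hpS hp'S hs
    obtain ⟨a, d, he⟩ := Submodule.mem_span_pair.1 (hspan hs')
    rw [show s = polar Q s p' • p + polar Q s p • p' + (a • x + d • y) by rw [he]; abel]
    simp only [map_add, map_smul, zp, zp']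
    exact W6.add_mem (W6.add_mem (W6.smul_mem _ (hW6 ▸ mem_withPair_left _))
      (W6.smul_mem _ (hW6 ▸ mem_withPair_right _))) (W6.add_mem (W6.smul_mem _ (h46 zx)) (W6.smul_mem _ (h46 zy)))
  have hk6 : k ∈ Loc π W6 := by
    have := Loc_conj hπ hchi z hzS (hS k hk1)
    rwa [← central_mul_comm (hπ.central hk1) z, mul_assoc, mul_inv_cancel, mul_one] at this
  -- down to the frame
  have hcc : c + c' ∈ pp Q b b' := (pp Q b b').add_mem (hW2pp hcW2) (hW2pp hc'W2)
  have hQcc : Q (c + c') = 1 := by rw [q_add, h.pb.qa, h.pb.qa', h.pb.b]; ring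
  have hk4 : k ∈ Loc π W4 := by
    refine Loc_mono (hW6 ▸ withPair_inf hpp hW4pp) (descend_of hπ hchi (x := c + c') hg6 hpp
      (hW6 ▸ mem_withPair_left _) (hW6 ▸ mem_withPair_right _) ⟨h46 hbW4, hW4pp hbW4⟩ ⟨h46 hb'W4, hW4pp hb'W4⟩
      h.pa ⟨h46 (W4.add_mem (h24 hcW2) (h24 hc'W2)), hW4pp (W4.add_mem (h24 hcW2) (h24 hc'W2))⟩ hcc ?_ hk6 hk1)
    rw [hQcc]; exact one_ne_zero
  have D : Step π W4 b b' (c + c') := ⟨hπ, hchi, hg4, h.pa, hbW4, hb'W4,
    ⟨W4.add_mem (h24 hcW2) (h24 hc'W2), hcc⟩, by rw [hQcc]; exact one_ne_zero⟩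
  obtain ⟨l, hl, s, hs, rfl⟩ := D.kernel_shape (u := c) (v := c') ⟨h24 hcW2, hW2pp hcW2⟩
    ⟨h24 hc'W2, hW2pp hc'W2⟩ h.pb hk4 hk1
  have hl1 : l = 1 := by
    have := Loc_mono (hW4 ▸ withPair_inf h.pa hW2pp) hl
    rw [← hW2, Loc_plane hπ hchi h.pb, Subgroup.mem_bot] at this
    exact this
  subst hl1
  rw [one_mul] at hk1 ⊢
  have hq2 : Quad Q b b' c' c := ⟨h.pa, h.pb.symm, h.ab', h.ab, h.a'b', h.a'b⟩
  have e1 : (π (hL π b b' c c' s * hL π b b' c' c s⁻¹)).1 c = c := by rw [hk1]; rfl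
  rw [map_mul, Subgroup.coe_mul, LinearEquiv.mul_apply, (hL_apply hπ hchi hq2 (inv_ne_zero hs)).2.2.2.1,
    map_smul, (hL_apply hπ hchi h hs).2.1, inv_inv, smul_smul] at e1
  have h2 := congrArg (fun w => polar Q w c') e1
  simp only [b_smul_left, h.pb.b, mul_one] at h2
  rcases mul_self_eq_one_iff.1 h2 with rfl | rfl
  · left; rw [inv_one, hL_one hπ hchi h, hL_one hπ hchi hq2, mul_one]
  · right; rw [inv_neg, inv_one]

theorem kernel_trivial {b b' c c' : V} (h : Quad Q b b' c c') (h2 : (2 : F) = 0) {k : E} (hk1 : π k = 1) :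
    k = 1 := by
  have hn : (-1 : F) = 1 := by linear_combination -h2
  rcases kernel_bound hπ hchi h hk1 with hk | hk
  · exact hk
  · rw [hk, hn, hL_one hπ hchi h, hL_one hπ hchi ⟨h.pa, h.pb.symm, h.ab', h.ab, h.a'b', h.a'b⟩, mul_one]

end Cfsg.Agent.OmegaMult
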