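import Cfsg.Agent.Lib.OmegaMult.Bound
import Cfsg.Agent.Lib.Orthogonal.MaxSingular

/-!
Lifts of long root elements commute with the lifts of short ones orthogonal to them, outside the small
exceptions.
-/

set_option autoImplicit false
set_option linter.unusedSectionVars false
set_option linter.unusedSimpArgs false
set_option linter.unusedVariables false

namespace Cfsg.Agent.OmegaMult

open QuadraticMap Module Cfsg.Agent.Orth Cfsg.Agent.TwoGenOrth
open scoped commutatorElement

variable {F V : Type*} [Field F] [AddCommGroup V] [Module F V] {Q : QuadraticForm F V}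

/-- The reflection element of a vector orthogonal to a hyperbolic pair. -/
noncomputable def wO (Q : QuadraticForm F V) (e f x : V) : oGroup Q :=
  sg Q e x * sg Q f ((Q x)⁻¹ • x) * sg Q e x

theorem wO_apply {e f x : V} (h : Pair Q e f) (hx : x ∈ pp Q e f) (hq : Q x ≠ 0) :
    (wO Q e f x).1 e = (-(Q x)⁻¹) • f ∧ (wO Q e f x).1 f = (-Q x) • e ∧
      ∀ z ∈ pp Q e f, (wO Q e f x).1 z = z - (polar Q z x * (Q x)⁻¹) • x := by
  have hxe : polar Q x e = 0 := hx.1
  have hxf : polar Q x f = 0 := hx.2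
  have hex : polar Q e x = 0 := by rw [b_comm, hxe]
  have hfx : polar Q f x = 0 := by rw [b_comm, hxf]
  have h2 : polar Q f ((Q x)⁻¹ • x) = 0 := by rw [b_smul_right, hfx, mul_zero]
  have he := h.aa
  have hf := h.symm.aa
  simp only [wO, Subgroup.coe_mul, LinearEquiv.mul_apply]
  refine ⟨?_, ?_, fun z hz => ?_⟩
  · simp only [sg_apply h.qa hex, sg_apply h.qa' h2, q_smul, map_add, map_sub, map_smul, b_add_left,
      b_sub_left, b_smul_left, b_smul_right, he, hf, hex, hfx, hxe, hxf, h.b, h.b', b_self x]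
    match_scalars <;> field_simp <;> ring
  · simp only [sg_apply h.qa hex, sg_apply h.qa' h2, q_smul, map_add, map_sub, map_smul, b_add_left,
      b_sub_left, b_smul_left, b_smul_right, he, hf, hex, hfx, hxe, hxf, h.b, h.b', b_self x]
    match_scalars <;> field_simp <;> ring
  · simp only [sg_apply h.qa hex, sg_apply h.qa' h2, q_smul, map_add, map_sub, map_smul, b_add_left,
      b_sub_left, b_smul_left, b_smul_right, he, hf, hex, hfx, hxe, hxf, hz.1, hz.2, h.b, h.b', b_self x]
    match_scalars <;> field_simp <;> ring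

theorem two_le_finrank_span [FiniteDimensional F V] {x y : V} (hx : x ≠ 0)
    (hy : y ∉ Submodule.span F {x}) : 2 ≤ finrank F (Submodule.span F {x, y}) := by
  have hli : LinearIndependent F ![x, y] := (LinearIndependent.pair_iff' hx).2 fun c hc =>
    hy (hc ▸ Submodule.smul_mem _ _ (Submodule.mem_span_singleton_self x))
  have := finrank_span_eq_card hli
  rw [Matrix.range_cons, Matrix.range_cons, Matrix.range_empty, Set.union_empty, Set.singleton_union,
    Fintype.card_fin] at this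
  omega

theorem Pair.notMem {a a' : V} (h : Pair Q a a') : a' ∉ Submodule.span F {a} := by
  rw [Submodule.mem_span_singleton]
  rintro ⟨c, hc⟩
  have := h.b
  rw [← hc, b_smul_right, h.aa, mul_zero] at this
  exact zero_ne_one this

variable (Q) in
/-- No four mutually orthogonal hyperbolic pairs, in a convenient form. -/
def NoFour : Prop :=
  ∀ a a' b b' c c' x : V, Quad Q a a' b b' → Quad Q a a' c c' → Quad Q b b' c c' →
    x ∈ pp Q a a' → x ∈ pp Q b b' → x ∈ pp Q c c' → Q x = 0 → x = 0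

theorem sing_step [FiniteDimensional F V] {A : Submodule F V} {v v' : V} (h : Pair Q v v')
    (hA : ∀ t ∈ A, Q t = 0) (hle : A ≤ pp Q v v') :
    (∀ t ∈ Submodule.span F {v} ⊔ A, Q t = 0) ∧
      finrank F A + 1 ≤ finrank F (Submodule.span F {v} ⊔ A : Submodule F V) := by
  refine ⟨fun t ht => ?_, ?_⟩
  · obtain ⟨y, hy, u, hu, rfl⟩ := Submodule.mem_sup.1 ht
    obtain ⟨k, rfl⟩ := Submodule.mem_span_singleton.1 hy
    rw [q_add, q_smul, h.qa, hA u hu, b_smul_left, b_comm v u, (hle hu).1]; ring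
  · refine Submodule.finrank_lt_finrank_of_lt (lt_of_le_not_ge le_sup_right fun hle' => ?_)
    have := (hle (hle' (Submodule.mem_sup_left (Submodule.mem_span_singleton_self v)))).2
    rw [h.b] at this
    exact one_ne_zero this

theorem noFour_of [FiniteDimensional F V] (hQ : (polarBilin Q).Nondegenerate) (hV : finrank F V = 8)
    {e f : ℕ → V} (H : Hyp Q 3 e f) (hW : ∀ w, InW Q 3 e f w → Q w = 0 → w = 0) : NoFour Q := by
  intro a a' b b' c c' x hab hac hbc hxa hxb hxc hx
  by_contra hx0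
  -- four independent singular vectors
  have h0 : ∀ t ∈ Submodule.span F {x}, Q t = 0 := fun t ht => by
    obtain ⟨k, rfl⟩ := Submodule.mem_span_singleton.1 ht
    rw [q_smul, hx, mul_zero]
  have hsx : ∀ {u u' : V}, x ∈ pp Q u u' → Submodule.span F {x} ≤ pp Q u u' := fun h =>
    (Submodule.span_singleton_le_iff_mem _ _).2 h
  have hsc : ∀ {u u' : V}, c ∈ pp Q u u' → x ∈ pp Q u u' →
      Submodule.span F {c} ⊔ Submodule.span F {x} ≤ pp Q u u' := fun h h' =>
    sup_le ((Submodule.span_singleton_le_iff_mem _ _).2 h) (hsx h')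
  obtain ⟨q3, d3⟩ := sing_step hbc.pb h0 (hsx hxc)
  obtain ⟨q2, d2⟩ := sing_step hbc.pa q3 (hsc ⟨hbc.swap.ab, hbc.swap.ab'⟩ hxb)
  obtain ⟨q1, d1⟩ := sing_step hab.pa q2 (sup_le ((Submodule.span_singleton_le_iff_mem _ _).2
    ⟨hab.swap.ab, hab.swap.ab'⟩) (hsc ⟨hac.swap.ab, hac.swap.ab'⟩ hxa))
  rw [finrank_span_singleton hx0] at d3
  obtain ⟨T, hT⟩ : ∃ T, Submodule.span F {a} ⊔ (Submodule.span F {b} ⊔ (Submodule.span F {c} ⊔
    Submodule.span F {x})) = T := ⟨_, rfl⟩
  rw [hT] at q1 d1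
  -- against a maximal singular subspace of dimension three
  obtain ⟨M, hM⟩ : ∃ M, Submodule.span F (Set.range ![e 0, e 1, e 2]) = M := ⟨_, rfl⟩
  have hMd : finrank F M ≤ 3 := by
    rw [← hM]; exact (finrank_range_le_card _).trans_eq (Fintype.card_fin 3)
  have hMe : ∀ i < 3, e i ∈ M := by
    intro i hi
    rw [← hM]
    exact Submodule.subset_span ⟨⟨i, hi⟩, by interval_cases i <;> rfl⟩
  have hsing : ∀ t ∈ perp Q M, Q t = 0 → t ∈ M := by
    intro t ht hqt
    rw [mem_perp] at ht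
    have te : ∀ i < 3, polar Q t (e i) = 0 := fun i hi => by rw [b_comm]; exact ht _ (hMe i hi)
    obtain ⟨w, hw⟩ : ∃ w, t - polar Q t (f 0) • e 0 - polar Q t (f 1) • e 1 - polar Q t (f 2) • e 2 = w := ⟨_, rfl⟩
    have hwW : InW Q 3 e f w := by
      intro j hj
      rw [← hw]
      simp only [b_sub_left, b_smul_left, te j hj, H.ee 0 (by omega) j hj, H.ee 1 (by omega) j hj,
        H.ee 2 (by omega) j hj, H.ef 0 (by omega) j hj, H.ef 1 (by omega) j hj, H.ef 2 (by omega) j hj]
      interval_cases j <;> simp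
    have hwe : ∀ i < 3, polar Q w (e i) = 0 := fun i hi => (hwW i hi).1
    have hqw : Q w = 0 := by
      rw [← hw]
      simp only [q_sub, q_smul, b_sub_left, b_smul_left, b_smul_right, te 0 (by omega), te 1 (by omega),
        te 2 (by omega), H.qe 0 (by omega), H.qe 1 (by omega), H.qe 2 (by omega), H.ee 0 (by omega) 1 (by omega),
        H.ee 0 (by omega) 2 (by omega), H.ee 1 (by omega) 2 (by omega), hqt]
      ring
    have := hW w hwW hqw
    rw [this] at hw
    rw [sub_sub, sub_sub, sub_eq_zero] at hw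
    rw [hw]
    exact M.add_mem (M.smul_mem _ (hMe 0 (by omega))) (M.add_mem (M.smul_mem _ (hMe 1 (by omega)))
      (M.smul_mem _ (hMe 2 (by omega))))
  have hle : T ⊔ perp Q M ≤ perp Q (T ⊓ perp Q M) := by
    refine sup_le (fun t ht => ?_) (fun t ht => ?_)
    · rw [mem_perp]
      exact fun k hk => b_eq_zero_of_singular q1 hk.1 ht
    · rw [mem_perp]
      intro k hk
      exact mem_perp.1 ht k (hsing k hk.2 (q1 k hk.1))
  have e1 := Submodule.finrank_mono hle
  have e2 := Submodule.finrank_sup_add_finrank_inf_eq T (perp Q M)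
  have e3 := finrank_perp_eq hQ (T ⊓ perp Q M)
  have e4 := finrank_perp_eq hQ M
  omega

variable [FiniteDimensional F V] [Fintype F] {E : Type*} [Group E] {π : E →* oGroup Q}

/-- Outside the exceptions, `Chi` holds. -/
theorem chi_of (hπ : IsCov π) (hcase : 4 ≤ Fintype.card F ∨
    (8 ≤ finrank F V ∧ (9 ≤ finrank F V ∨ (2 : F) ≠ 0 ∨ NoFour Q))) : Chi π := by
  intro a b c v qa qb qc hab hac hbc ha0 hb hc va vb vc
  have tab : Tot Q a b := ⟨qa, qb, hab⟩
  obtain ⟨a', b', c', hPa, hPb, hPc, ba, b'a, ca, c'a, cb, c'b⟩ :=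
    exists_frame3 hπ.nd tab ⟨qa, qc, hac⟩ ⟨qb, qc, hbc⟩ ha0 hb hc
  have Qab : Quad Q a a' b b' := Quad.of_mem hPa hPb ba b'a
  have Qac : Quad Q a a' c c' := Quad.of_mem hPa hPc ca c'a
  have Qbc : Quad Q b b' c c' := Quad.of_mem hPb hPc cb c'b
  obtain ⟨U, hU⟩ : ∃ U, (⊤ : Submodule F V) ⊓ pp Q a a' ⊓ pp Q b b' ⊓ pp Q c c' = U := ⟨_, rfl⟩
  have hT := good_top (Q := Q) hπ.nd
  have hS1 := good_inf hT hPa Submodule.mem_top Submodule.mem_top
  have hS2 := good_inf hS1 hPb ⟨Submodule.mem_top, ba⟩ ⟨Submodule.mem_top, b'a⟩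
  have hUg : Good Q U := hU ▸ good_inf hS2 hPc ⟨⟨Submodule.mem_top, ca⟩, cb⟩ ⟨⟨Submodule.mem_top, c'a⟩, c'b⟩
  have hdU : finrank F V ≤ finrank F U + 6 := by
    rw [← hU, ← finrank_top F V]
    have e1 := finrank_inf_pp (Q := Q) (⊤ : Submodule F V) a a'
    have e2 := finrank_inf_pp (Q := Q) ((⊤ : Submodule F V) ⊓ pp Q a a') b b'
    have e3 := finrank_inf_pp (Q := Q) ((⊤ : Submodule F V) ⊓ pp Q a a' ⊓ pp Q b b') c c'
    omega
  have hUmem : ∀ u ∈ U, (u ∈ pp Q a a' ∧ u ∈ pp Q b b') ∧ u ∈ pp Q c c' := fun u hu => by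
    rw [← hU] at hu; exact ⟨⟨hu.1.1.2, hu.1.2⟩, hu.2⟩
  -- vectors orthogonal to the three
  let O : V → Prop := fun x => polar Q x a = 0 ∧ polar Q x b = 0 ∧ polar Q x c = 0
  have OU : ∀ u ∈ U, O u := fun u hu =>
    ⟨(hUmem u hu).1.1.1, (hUmem u hu).1.2.1, (hUmem u hu).2.1⟩
  have Oadd : ∀ x y, O x → O y → O (x + y) := fun x y hx hy =>
    ⟨by rw [b_add_left, hx.1, hy.1, add_zero], by rw [b_add_left, hx.2.1, hy.2.1, add_zero],
      by rw [b_add_left, hx.2.2, hy.2.2, add_zero]⟩
  have Osm : ∀ (k : F) x, O x → O (k • x) := fun k x hx =>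
    ⟨by rw [b_smul_left, hx.1, mul_zero], by rw [b_smul_left, hx.2.1, mul_zero], by rw [b_smul_left, hx.2.2, mul_zero]⟩
  have Oa : O a := ⟨hPa.aa, hab, hac⟩
  have Ob : O b := ⟨by rw [b_comm]; exact hab, hPb.aa, hbc⟩
  have Oc : O c := ⟨by rw [b_comm]; exact hac, by rw [b_comm]; exact hbc, hPc.aa⟩
  have hcx : ∀ x, O x → polar Q c x = 0 := fun x hx => by rw [b_comm]; exact hx.2.2
  have rX : sg Q a b ∈ π.range := hπ.sg_range qa hab
  have rY : ∀ x, O x → sg Q c x ∈ π.range := fun x hx => hπ.sg_range qc (hcx x hx)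
  have hcomm : ∀ x, O x → sg Q a b * sg Q c x = sg Q c x * sg Q a b := fun x hx =>
    sg_commute_of_fix qc (hcx x hx) (sg_fix qa hab (by rw [b_comm]; exact hac) (by rw [b_comm]; exact hbc))
      (sg_fix qa hab hx.1 hx.2.1)
  let φ : V → E := fun x => C π (sg Q a b) (sg Q c x)
  have φadd : ∀ x y, O x → O y → φ (x + y) = φ x * φ y := fun x y hx hy => by
    show C π (sg Q a b) (sg Q c (x + y)) = _
    rw [sg_add qc (hcx x hx) (hcx y hy), hπ.C_mul_right' rX (rY x hx) (rY y hy) (hcomm y hy)]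
  have φzero : ∀ k : F, φ (k • c) = 1 := fun k => by
    show C π (sg Q a b) (sg Q c (k • c)) = _
    rw [sg_self qc, ← hπ.C_inv, hπ.C_one_left rX, inv_one]
  have φ0 : φ 0 = 1 := by have := φzero 0; rwa [zero_smul] at this
  have φconj : ∀ g : oGroup Q, g ∈ π.range → g.1 a = a → g.1 b = b → g.1 c = c → ∀ x, O x →
      φ (g.1 x) = φ x := fun g hg ga gb gc x hx => by
    have := hπ.C_conj_central hg rX (rY x hx) (hcomm x hx)
    rwa [sg_conj g qa hab, sg_conj g qc (hcx x hx), ga, gb, gc] at this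
  have transfer : ∀ x y z, O x → O z → O y → x = y + z → φ x = φ y → φ z = 1 := fun x y z hx hz hy he h => by
    rw [he, φadd y z hy hz] at h
    exact mul_eq_left.1 h
  -- the components along the frame
  obtain ⟨u₀, hu₀, w₀, hw₀, huw⟩ := exists_one hUg (ne_bot_of_finrank (by have := hπ.dim; omega))
  have φside : ∀ d d' : V, Pair Q d d' → (∀ u ∈ U, u ∈ pp Q d d') → O d → polar Q a d = 0 → polar Q b d = 0 →
      polar Q c d = 0 → ∀ k : F, φ (k • d) = 1 := by
    intro d d' hP hUd hd da db dc k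
    have hw : polar Q d ((-k) • w₀) = 0 := by
      rw [b_smul_right, b_comm d w₀, (hUd w₀ hw₀).1, mul_zero]
    have hfix : ∀ y, polar Q y d = 0 → O w₀ → polar Q y w₀ = 0 → (sg Q d ((-k) • w₀)).1 y = y := fun y h1 _ h2 =>
      sg_fix hP.qa hw h1 (by rw [b_smul_right, h2, mul_zero])
    have h := φconj _ (hπ.sg_range hP.qa hw) (hfix a da (OU _ hw₀) (by rw [b_comm]; exact (OU _ hw₀).1))
      (hfix b db (OU _ hw₀) (by rw [b_comm]; exact (OU _ hw₀).2.1))
      (hfix c dc (OU _ hw₀) (by rw [b_comm]; exact (OU _ hw₀).2.2)) u₀ (OU _ hu₀)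
    rw [sg_move hP.qa hw (hUd u₀ hu₀).1, b_smul_right, huw] at h
    exact transfer (u₀ + k • d) u₀ (k • d) (Oadd _ _ (OU _ hu₀) (Osm k d hd)) (Osm k d hd) (OU _ hu₀) rfl
      (by rw [← h]; congr 1; module)
  have φa := φside a a' hPa (fun u hu => (hUmem u hu).1.1) Oa hPa.aa Ob.1 Oc.1
  have φb := φside b b' hPb (fun u hu => (hUmem u hu).1.2) Ob hab hPb.aa Oc.2.1
  -- the component orthogonal to the frame
  have φU : ∀ u ∈ U, φ u = 1 := by
    by_cases hq : 4 ≤ Fintype.card F
    · intro u hu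
      obtain ⟨lam, h0, h1⟩ : ∃ lam : F, lam ≠ 0 ∧ lam * lam - 1 ≠ 0 := by
        classical
        by_contra hcon
        push Not at hcon
        have : (Finset.univ : Finset F) ⊆ {0, 1, -1} := fun y _ => by
          rcases eq_or_ne y 0 with rfl | hy
          · simp
          · rcases mul_self_eq_one_iff.1 (sub_eq_zero.1 (hcon y hy)) with rfl | rfl <;> simp
        have h3 := (Finset.card_le_card this).trans Finset.card_le_three
        rw [Finset.card_univ] at h3
        omega
      obtain ⟨g, hg⟩ : ∃ g, wS Q a a' b b' lam * wS Q a a' b b' (-1) = g := ⟨_, rfl⟩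
      obtain ⟨p1, p2, p3, p4, p5⟩ := wS_apply Qab h0
      obtain ⟨n1, n2, n3, n4, n5⟩ := wS_apply Qab (neg_ne_zero.2 (one_ne_zero : (1 : F) ≠ 0))
      have ga : g.1 a = lam • a := by
        rw [← hg, Subgroup.coe_mul, LinearEquiv.mul_apply, n1, map_smul, p4]; simp
      have gb : g.1 b = lam • b := by
        rw [← hg, Subgroup.coe_mul, LinearEquiv.mul_apply, n2, map_neg, map_smul, p3]; simp
      have gfix : ∀ x, x ∈ pp Q a a' → x ∈ pp Q b b' → g.1 x = x := fun x h1 h2 => by
        rw [← hg, Subgroup.coe_mul, LinearEquiv.mul_apply, n5 x h1.1 h1.2 h2.1 h2.2, p5 x h1.1 h1.2 h2.1 h2.2]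
      have hgr : g ∈ π.range := hg ▸ mul_mem (hπ.wS_range Qab _) (hπ.wS_range Qab _)
      have htb : ∀ t : F, polar Q a (t • b) = 0 := fun t => by rw [b_smul_right, hab, mul_zero]
      have hX : ∀ t : F, sg Q a (t • b) * sg Q c u = sg Q c u * sg Q a (t • b) := fun t =>
        sg_commute_of_fix qc (hcx u (OU u hu)) (sg_fix qa (htb t) Oc.1 (by rw [b_smul_right, Oc.2.1, mul_zero]))
          (sg_fix qa (htb t) (OU u hu).1 (by rw [b_smul_right, (OU u hu).2.1, mul_zero]))
      have inv : ∀ t : F, C π (sg Q a ((lam * lam * t) • b)) (sg Q c u) = C π (sg Q a (t • b)) (sg Q c u) := by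
        intro t
        have h := hπ.C_conj_central hgr (hπ.sg_range qa (htb t)) (rY u (OU u hu)) (hX t)
        rwa [sg_conj g qa (htb t), sg_conj g qc (hcx u (OU u hu)), ga, map_smul, gb,
          gfix c ca cb, gfix u (hUmem u hu).1.1 (hUmem u hu).1.2, sg_scale _ qa (by rw [smul_smul]; exact htb _),
          smul_smul, smul_smul, show lam * t * lam = lam * lam * t by ring] at h
      have h := inv (lam * lam - 1)⁻¹
      rw [show (lam * lam * (lam * lam - 1)⁻¹) • b = (1 : F) • b + (lam * lam - 1)⁻¹ • b by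
          rw [← add_smul]; congr 1; linear_combination mul_inv_cancel₀ h1,
        sg_add qa (htb _) (htb _), hπ.C_mul_left' (hπ.sg_range qa (htb _)) (hπ.sg_range qa (htb _))
          (rY u (OU u hu)) (hX _)] at h
      have h2 := mul_eq_right.1 h
      rwa [one_smul] at h2
    obtain ⟨hn8, hcase⟩ : 8 ≤ finrank F V ∧ (9 ≤ finrank F V ∨ (2 : F) ≠ 0 ∨ NoFour Q) :=
      hcase.resolve_left hq
    have fix3 : ∀ d w : V, d ∈ U → w ∈ U → Q d = 0 → polar Q d w = 0 →
        ∀ x, O x → φ ((sg Q d w).1 x) = φ x := fun d w hd hw qd hdw x hx =>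
      φconj _ (hπ.sg_range qd hdw) (sg_fix qd hdw (by rw [b_comm]; exact (OU d hd).1) (by rw [b_comm]; exact (OU w hw).1))
        (sg_fix qd hdw (by rw [b_comm]; exact (OU d hd).2.1) (by rw [b_comm]; exact (OU w hw).2.1))
        (sg_fix qd hdw (by rw [b_comm]; exact (OU d hd).2.2) (by rw [b_comm]; exact (OU w hw).2.2)) x hx
    by_cases hbig : 3 ≤ finrank F U
    · -- a hyperbolic pair and a non-zero complement
      obtain ⟨d, hd, d', hd', hdd⟩ := exists_pair hUg hbig
      obtain ⟨u₁, hu₁, w₁, hw₁, huw₁⟩ := exists_one (good_inf hUg hdd hd hd')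
        (ne_bot_of_finrank (by have := finrank_inf_pp (Q := Q) U d d'; omega))
      have half : ∀ d d' : V, d ∈ U → d' ∈ U → Pair Q d d' → u₁ ∈ pp Q d d' → w₁ ∈ pp Q d d' →
          ∀ k : F, φ (k • d) = 1 := by
        intro d d' hd hd' hdd hu hw k
        have hdw : polar Q d ((-k) • w₁) = 0 := by rw [b_smul_right, b_comm d w₁, hw.1, mul_zero]
        have h := fix3 d _ hd (U.smul_mem _ hw₁.1) hdd.qa hdw u₁ (OU _ hu₁.1)
        rw [sg_move hdd.qa hdw hu.1, b_smul_right, huw₁] at h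
        exact transfer (u₁ + k • d) u₁ (k • d) (Oadd _ _ (OU _ hu₁.1) (Osm k d (OU d hd))) (Osm k d (OU d hd))
          (OU _ hu₁.1) rfl (by rw [← h]; congr 1; module)
      have hd1 := half d d' hd hd' hdd hu₁.2 hw₁.2
      have hd2 := half d' d hd' hd hdd.symm hu₁.2.symm hw₁.2.symm
      intro u hu
      obtain ⟨w, hwd⟩ : ∃ w, u - polar Q u d' • d - polar Q u d • d' = w := ⟨_, rfl⟩
      obtain ⟨hwU, hwp⟩ : w ∈ U ∧ w ∈ pp Q d d' := hwd ▸ proj_mem' hdd hd hd' hu
      have hdw : polar Q d w = 0 := by rw [b_comm]; exact hwp.1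
      have h := fix3 d w hd hwU hdd.qa hdw d' (OU d' hd')
      rw [sg_apply hdd.qa hdw, hdd.b', b_comm d' w, hwp.2, zero_add, mul_one, one_smul,
        sub_eq_add_neg, ← neg_smul, φadd _ _ (Oadd _ _ (OU d' hd') (OU w hwU)) (Osm _ d (OU d hd)),
        hd1, mul_one, φadd _ _ (OU d' hd') (OU w hwU)] at h
      have hw1 := mul_eq_left.1 h
      rw [show u = polar Q u d' • d + polar Q u d • d' + w by rw [← hwd]; abel,
        φadd _ _ (Oadd _ _ (Osm _ d (OU d hd)) (Osm _ d' (OU d' hd'))) (OU w hwU),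
        φadd _ _ (Osm _ d (OU d hd)) (Osm _ d' (OU d' hd')), hd1, hd2, hw1, mul_one, mul_one]
    have hU2 : ∀ x y : V, x ∈ U → y ∈ U → x ≠ 0 → y ∉ Submodule.span F {x} → Submodule.span F {x, y} = U := by
      intro x y hx hy hx0 hyx
      refine Submodule.eq_of_le_of_finrank_le (Submodule.span_le.2 (by rintro z (rfl | rfl) <;> assumption)) ?_
      have := two_le_finrank_span hx0 hyx
      omega
    by_cases hsing : ∃ u ∈ U, u ≠ 0 ∧ Q u = 0
    · obtain ⟨u, hu, hu0, hqu⟩ := hsing
      have h2 : (2 : F) ≠ 0 := by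
        rcases hcase with h | h | h
        · omega
        · exact h
        · exact absurd (h a a' b b' c c' u Qab Qac Qbc (hUmem u hu).1.1 (hUmem u hu).1.2 (hUmem u hu).2 hqu) hu0
      obtain ⟨u', hu', huu⟩ := exists_pair_of hUg hu hu0 hqu
      have line : ∀ d d' : V, d ∈ U → d' ∈ U → Pair Q d d' → φ d = 1 := by
        intro d d' hd hd' hdd
        have q1 : Quad Q a a' c' c := ⟨hPa, hPc.symm, Qac.ab', Qac.ab, Qac.a'b', Qac.a'b⟩
        have q2 : Quad Q b b' d' d := Quad.of_mem hPb hdd.symm (hUmem d' hd').1.2 (hUmem d hd).1.2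
        have hn : (-1 : F) ≠ 0 := neg_ne_zero.2 one_ne_zero
        obtain ⟨m1, m2, m3, m4, m5⟩ := wS_apply q1 hn
        obtain ⟨k1, k2, k3, k4, k5⟩ := wS_apply q2 hn
        obtain ⟨g, hg⟩ : ∃ g, wS Q a a' c' c (-1) * wS Q b b' d' d (-1) = g := ⟨_, rfl⟩
        have hgr : g ∈ π.range := hg ▸ mul_mem (hπ.wS_range q1 _) (hπ.wS_range q2 _)
        have gd := (hUmem d hd).1.1
        have ga : g.1 a = -c := by
          rw [← hg, Subgroup.coe_mul, LinearEquiv.mul_apply, k5 a (by rw [b_comm]; exact ba.1)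
            (by rw [b_comm]; exact b'a.1) (by rw [b_comm]; exact (hUmem d' hd').1.1.1)
            (by rw [b_comm]; exact gd.1), m1]
          simp
        have gc : g.1 c = a := by
          rw [← hg, Subgroup.coe_mul, LinearEquiv.mul_apply, k5 c cb.1 cb.2
            (by rw [b_comm]; exact (hUmem d' hd').2.1) (by rw [b_comm]; exact (hUmem d hd).2.1), m4]
          simp
        have gb : g.1 b = -d := by
          rw [← hg, Subgroup.coe_mul, LinearEquiv.mul_apply, k1, map_smul, m5 d gd.1 gd.2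
            (hUmem d hd).2.2 (hUmem d hd).2.1]
          simp
        have gdd : g.1 d = b := by
          rw [← hg, Subgroup.coe_mul, LinearEquiv.mul_apply, k4, map_neg, map_smul, m5 b ba.1 ba.2
            (by rw [b_comm]; exact c'b.1) (by rw [b_comm]; exact cb.1)]
          simp
        have hcd : polar Q c d = 0 := hcx d (OU d hd)
        have hsq : φ d * φ d = 1 := by
          have h := hπ.C_conj_central hgr rX (rY d (OU d hd)) (hcomm d (OU d hd))
          rw [sg_conj g qa hab, sg_conj g qc hcd, ga, gb, gc, gdd,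
            show -c = (-1 : F) • c from (neg_one_smul F c).symm, sg_scale _ qc (by rw [b_neg_right, hcd, neg_zero]),
            neg_one_smul, _root_.neg_neg, ← hπ.C_inv] at h
          exact mul_eq_one_iff_inv_eq.2 h
        have hnat : ∀ k : ℕ, φ ((k : F) • d) = φ d ^ k := by
          intro k
          induction k with
          | zero => rw [Nat.cast_zero, zero_smul, φ0, pow_zero]
          | succ k ih =>
            rw [Nat.cast_succ, add_smul, one_smul, φadd _ _ (Osm _ d (OU d hd)) (OU d hd), ih, pow_succ]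
        obtain ⟨p, hp⟩ := CharP.exists F
        have hpp : p.Prime := CharP.char_is_prime F p
        obtain ⟨j, hj⟩ := hpp.odd_of_ne_two fun h => h2 (by
          subst h; exact_mod_cast CharP.cast_eq_zero F 2)
        have h := hnat p
        rw [CharP.cast_eq_zero, zero_smul, φ0, hj, pow_succ, pow_mul, pow_two, hsq, one_pow, one_mul] at h
        exact h.symm
      intro x hx
      rw [← hU2 u u' hu hu' hu0 huu.notMem, Submodule.mem_span_pair] at hx
      obtain ⟨s, t, rfl⟩ := hx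
      have hs : ∀ d d' : V, d ∈ U → d' ∈ U → Pair Q d d' → ∀ k : F, φ (k • d) = 1 := fun d d' hd hd' hdd k => by
        rcases eq_or_ne k 0 with rfl | hk
        · rw [zero_smul, φ0]
        · exact line (k • d) (k⁻¹ • d') (U.smul_mem _ hd) (U.smul_mem _ hd')
            ⟨by rw [q_smul, hdd.qa, mul_zero], by rw [q_smul, hdd.qa', mul_zero],
              by rw [b_smul_left, b_smul_right, hdd.b, mul_one, mul_inv_cancel₀ hk]⟩
      rw [φadd _ _ (Osm _ u (OU u hu)) (Osm _ u' (OU u' hu')), hs u u' hu hu' huu, hs u' u hu' hu huu.symm,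
        mul_one]
    · push Not at hsing
      obtain ⟨x, hx, hx0⟩ := Submodule.exists_mem_ne_zero_of_ne_bot (ne_bot_of_finrank (S := U) (by omega))
      have hqx : Q x ≠ 0 := hsing x hx hx0
      obtain ⟨z, hz, hzx, hxz⟩ : ∃ z ∈ U, z ∉ Submodule.span F {x} ∧ polar Q x z ≠ 0 := by
        obtain ⟨z, hz, hzx⟩ : ∃ z ∈ U, z ∉ Submodule.span F {x} := SetLike.not_le_iff_exists.1 fun hle => by
          have := Submodule.finrank_mono hle
          rw [finrank_span_singleton hx0] at this
          omega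
        by_cases hxz : polar Q x z = 0
        · refine ⟨z + x, U.add_mem hz hx, fun h => hzx ?_, ?_⟩
          · have := Submodule.sub_mem _ h (Submodule.mem_span_singleton_self x)
            rwa [add_sub_cancel_right] at this
          · intro h
            rw [b_add_right, hxz, zero_add] at h
            obtain ⟨y, hy, hxy⟩ := hUg x hx hx0
            rw [← hU2 x z hx hz hx0 hzx, Submodule.mem_span_pair] at hy
            obtain ⟨s, t, rfl⟩ := hy
            exact hxy (by rw [b_add_right, b_smul_right, b_smul_right, h, hxz]; ring)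
        · exact ⟨z, hz, hzx, hxz⟩
      have hqz : Q z ≠ 0 := hsing z hz fun h => hzx (h ▸ Submodule.zero_mem _)
      obtain ⟨k, hk⟩ : ∃ k, polar Q x z * (Q z)⁻¹ = k := ⟨_, rfl⟩
      have hk0 : k ≠ 0 := hk ▸ mul_ne_zero hxz (inv_ne_zero hqz)
      obtain ⟨y, hy⟩ : ∃ y, x - k • z = y := ⟨_, rfl⟩
      have hyU : y ∈ U := hy ▸ U.sub_mem hx (U.smul_mem _ hz)
      have hqy : Q y = Q x := by
        rw [← hy, q_sub, q_smul, b_smul_right, ← hk]; field_simp; ring
      have hyx : y ∉ Submodule.span F {x} := fun h => hzx (by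
        have h1 := Submodule.sub_mem _ (Submodule.mem_span_singleton_self x) h
        rw [← hy, sub_sub_cancel] at h1
        have h2 := Submodule.smul_mem _ k⁻¹ h1
        rwa [inv_smul_smul₀ hk0] at h2)
      have hxy := hU2 x y hx hyU hx0 hyx
      obtain ⟨x1, x2, x3⟩ := wO_apply hPa (hUmem x hx).1.1 hqx
      obtain ⟨y1, y2, y3⟩ := wO_apply hPa (hUmem y hyU).1.1 (by rw [hqy]; exact hqx)
      obtain ⟨g, hg⟩ : ∃ g, wO Q a a' x * wO Q a a' y = g := ⟨_, rfl⟩
      have hwr : ∀ w ∈ U, wO Q a a' w ∈ π.range := fun w hw => by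
        have h1 : polar Q a w = 0 := by rw [b_comm]; exact (hUmem w hw).1.1.1
        have h2 : polar Q a' ((Q w)⁻¹ • w) = 0 := by
          rw [b_smul_right, b_comm a' w, (hUmem w hw).1.1.2, mul_zero]
        exact mul_mem (mul_mem (hπ.sg_range qa h1) (hπ.sg_range hPa.qa' h2)) (hπ.sg_range qa h1)
      have hgr : g ∈ π.range := hg ▸ mul_mem (hwr x hx) (hwr y hyU)
      have ga : g.1 a = a := by
        rw [← hg, Subgroup.coe_mul, LinearEquiv.mul_apply, y1, map_smul, x2, smul_smul, hqy,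
          neg_mul_neg, inv_mul_cancel₀ hqx, one_smul]
      have gfix : ∀ t, t ∈ pp Q a a' → polar Q t x = 0 → polar Q t y = 0 → g.1 t = t := fun t h1 h2 h3 => by
        rw [← hg, Subgroup.coe_mul, LinearEquiv.mul_apply, y3 t h1, h3, zero_mul, zero_smul, sub_zero, x3 t h1, h2,
          zero_mul, zero_smul, sub_zero]
      have gb : g.1 b = b := gfix b ba (by rw [b_comm]; exact (OU x hx).2.1) (by rw [b_comm]; exact (OU y hyU).2.1)
      have gc : g.1 c = c := gfix c ca (by rw [b_comm]; exact (OU x hx).2.2) (by rw [b_comm]; exact (OU y hyU).2.2)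
      have gU : ∀ w ∈ U, g.1 w ∈ U := fun w hw => by
        rw [← hg, Subgroup.coe_mul, LinearEquiv.mul_apply, y3 w (hUmem w hw).1.1,
          x3 _ (Submodule.sub_mem _ (hUmem w hw).1.1 (Submodule.smul_mem _ _ (hUmem y hyU).1.1))]
        exact U.sub_mem (U.sub_mem hw (U.smul_mem _ hyU)) (U.smul_mem _ hx)
      have nofix : ∀ w ∈ U, g.1 w = w → w = 0 := by
        intro w hw he
        rw [← hg, Subgroup.coe_mul, LinearEquiv.mul_apply, y3 w (hUmem w hw).1.1,
          x3 _ (Submodule.sub_mem _ (hUmem w hw).1.1 (Submodule.smul_mem _ _ (hUmem y hyU).1.1)), sub_sub,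
          sub_eq_self] at he
        have hwy : polar Q w y = 0 := by
          by_contra hne
          apply hyx
          rw [Submodule.mem_span_singleton]
          obtain ⟨c1, hc1⟩ : ∃ c1, polar Q w y * (Q y)⁻¹ = c1 := ⟨_, rfl⟩
          obtain ⟨c2, hc2⟩ : ∃ c2, polar Q (w - c1 • y) x * (Q x)⁻¹ = c2 := ⟨_, rfl⟩
          rw [hc1, hc2] at he
          have hc0 : c1 ≠ 0 := hc1 ▸ mul_ne_zero hne (inv_ne_zero (by rw [hqy]; exact hqx))
          refine ⟨-(c1⁻¹ * c2), ?_⟩
          rw [neg_smul, mul_smul, eq_neg_of_add_eq_zero_right he, smul_neg, _root_.neg_neg, inv_smul_smul₀ hc0]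
        rw [hwy, zero_mul, zero_smul, sub_zero, zero_add] at he
        have hwx : polar Q w x = 0 := by
          rcases smul_eq_zero.1 he with h | h
          · exact (mul_eq_zero.1 h).resolve_right (inv_ne_zero hqx)
          · exact absurd h hx0
        by_contra hw0
        obtain ⟨t, ht, hwt⟩ := hUg w hw hw0
        rw [← hxy, Submodule.mem_span_pair] at ht
        obtain ⟨p, r, rfl⟩ := ht
        exact hwt (by rw [b_add_right, b_smul_right, b_smul_right, hwx, hwy]; ring)
      let T : U →ₗ[F] U :=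
        { toFun := fun w => ⟨g.1 w - w, U.sub_mem (gU w w.2) w.2⟩
          map_add' := fun w w' => Subtype.ext (by simp only [Submodule.coe_add, map_add]; abel)
          map_smul' := fun r w => Subtype.ext (by
            simp only [Submodule.coe_smul, map_smul, RingHom.id_apply, smul_sub]) }
      have hinj : Function.Injective T := by
        rw [← LinearMap.ker_eq_bot, LinearMap.ker_eq_bot']
        intro w hw
        exact Subtype.ext (nofix w w.2 (sub_eq_zero.1 (congrArg Subtype.val hw)))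
      intro w hw
      obtain ⟨t, ht⟩ := (LinearMap.injective_iff_surjective.1 hinj) ⟨w, hw⟩
      have ht' : g.1 (t : V) - t = w := congrArg Subtype.val ht
      exact transfer (g.1 (t : V)) t w (OU _ (gU t t.2)) (OU w hw) (OU _ t.2) (by rw [← ht']; abel)
        (φconj g hgr ga gb gc t (OU _ t.2))
  -- assembly
  obtain ⟨u, hud⟩ : ∃ u, v - polar Q v a' • a - polar Q v b' • b - polar Q v c' • c = u := ⟨_, rfl⟩
  have hu : u ∈ U := by
    rw [← hU, ← hud]
    refine ⟨⟨⟨Submodule.mem_top, ?_, ?_⟩, ?_, ?_⟩, ?_, ?_⟩ <;>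
      simp only [b_sub_left, b_smul_left, va, vb, vc, hab, hac, hbc, Ob.1, Oc.1, Oc.2.1, hPa.aa, hPb.aa, hPc.aa,
        hPa.b, hPb.b, hPc.b, Qab.ab', Qab.swap.ab', Qac.ab', Qac.swap.ab', Qbc.ab', Qbc.swap.ab'] <;> ring
  show φ v = 1
  rw [show v = polar Q v a' • a + polar Q v b' • b + polar Q v c' • c + u by rw [← hud]; abel,
    φadd _ _ (Oadd _ _ (Oadd _ _ (Osm _ a Oa) (Osm _ b Ob)) (Osm _ c Oc)) (OU u hu),
    φadd _ _ (Oadd _ _ (Osm _ a Oa) (Osm _ b Ob)) (Osm _ c Oc), φadd _ _ (Osm _ a Oa) (Osm _ b Ob),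
    φa, φb, φzero, φU u hu]
  simp

end Cfsg.Agent.OmegaMult
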