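import Cfsg.Agent.Lib.OmegaMult.Lift

/-!
Lifts of the Siegel elements at one centre commute, and the commutator of lifts at two centres
depends on the inner product only.
-/

set_option autoImplicit false
set_option linter.unusedSectionVars false
set_option linter.unusedSimpArgs false
set_option linter.unusedVariables false
set_option linter.style.haveILetI false

namespace Cfsg.Agent.OmegaMult

open QuadraticMap Module Cfsg.Agent.Orth Cfsg.Agent.TwoGenOrth
open scoped commutatorElement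

variable {F V : Type*} [Field F] [AddCommGroup V] [Module F V] {Q : QuadraticForm F V}
  [FiniteDimensional F V] [Fintype F] {E : Type*} [Group E] {π : E →* oGroup Q}

theorem sg_commute_same {a x y : V} (ha : Q a = 0) (hx : polar Q a x = 0) (hy : polar Q a y = 0) :
    sg Q a x * sg Q a y = sg Q a y * sg Q a x := by
  rw [← sg_add ha hx hy, ← sg_add ha hy hx, add_comm]

/-- Lifts at one centre with orthogonal arguments commute. -/
theorem IsCov.omega_pair (hπ : IsCov π) {a : V} (ha : Q a = 0) (ha0 : a ≠ 0) {x y x' y' : V}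
    (hx : polar Q a x = 0) (hy : polar Q a y = 0) (hx' : polar Q a x' = 0) (hy' : polar Q a y' = 0)
    (hB : polar Q x y = polar Q x' y') :
    C π (sg Q a x) (sg Q a y) = C π (sg Q a x') (sg Q a y') := by
  have hT := good_top (Q := Q) hπ.nd
  obtain ⟨a', -, hPa⟩ := exists_pair_of hT Submodule.mem_top ha0 ha
  have hS := good_inf hT hPa Submodule.mem_top Submodule.mem_top
  have hd1 := finrank_inf_pp (Q := Q) ⊤ a a'
  rw [finrank_top] at hd1
  have hdim := hπ.dim
  obtain ⟨c, hc, c', hc', hPc⟩ := exists_pair hS (by omega)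
  have hd2 := finrank_inf_pp (Q := Q) (⊤ ⊓ pp Q a a') c c'
  obtain ⟨w₀, hw₀, w₁, hw₁, hw⟩ := exists_one (good_inf hS hPc hc hc') (ne_bot_of_finrank (by omega))
  let X : Submodule F V := LinearMap.ker (polarBilin Q a)
  have hX : ∀ x : V, x ∈ X ↔ polar Q a x = 0 := fun x => LinearMap.mem_ker
  letI : CommGroup (Subgroup.center E) :=
    { (inferInstance : Group (Subgroup.center E)) with
      mul_comm := fun x y => Subtype.ext (central_mul_comm x.2 (y : E)) }
  let β : X → X → Subgroup.center E := fun x y => ⟨C π (sg Q a (x : V)) (sg Q a (y : V)),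
    hπ.C_central (hπ.sg_range ha ((hX x).1 x.2)) (hπ.sg_range ha ((hX y).1 y.2))
      (sg_commute_same ha ((hX x).1 x.2) ((hX y).1 y.2))⟩
  have hcX : c ∈ X := (hX c).2 (by rw [b_comm]; exact hc.2.1)
  have hc'X : c' ∈ X := (hX c').2 (by rw [b_comm]; exact hc'.2.1)
  have h := pair_lemma hcX hc'X hPc β ?_ ?_ ?_ (w₀ := w₀) (w₁ := w₁) ⟨(hX _).2 (by rw [b_comm]; exact hw₀.1.2.1), hw₀.2⟩
    ⟨(hX _).2 (by rw [b_comm]; exact hw₁.1.2.1), hw₁.2⟩ hw ⟨x, (hX x).2 hx⟩ ⟨y, (hX y).2 hy⟩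
    ⟨x', (hX x').2 hx'⟩ ⟨y', (hX y').2 hy'⟩ hB
  · exact congrArg Subtype.val h
  · intro x x' y
    apply Subtype.ext
    show C π (sg Q a ((x : V) + x')) _ = _ * _
    rw [sg_add ha ((hX x).1 x.2) ((hX x').1 x'.2), hπ.C_mul_left' (hπ.sg_range ha ((hX x).1 x.2))
      (hπ.sg_range ha ((hX x').1 x'.2)) (hπ.sg_range ha ((hX y).1 y.2))
      (sg_commute_same ha ((hX x').1 x'.2) ((hX y).1 y.2))]
  · intro x y y'
    apply Subtype.ext
    show C π _ (sg Q a ((y : V) + y')) = _ * _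
    rw [sg_add ha ((hX y).1 y.2) ((hX y').1 y'.2), hπ.C_mul_right' (hπ.sg_range ha ((hX x).1 x.2))
      (hπ.sg_range ha ((hX y).1 y.2)) (hπ.sg_range ha ((hX y').1 y'.2))
      (sg_commute_same ha ((hX x).1 x.2) ((hX y').1 y'.2))]
  · intro d d' hd w hwX hwd hwd' x y x' y' hx' hy'
    apply Subtype.ext
    have hda : polar Q a d = 0 := by
      rcases hd with ⟨rfl, -⟩ | ⟨rfl, -⟩
      exacts [(hX _).1 hcX, (hX _).1 hc'X]
    have hqd : Q d = 0 := by
      rcases hd with ⟨rfl, -⟩ | ⟨rfl, -⟩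
      exacts [hPc.qa, hPc.qa']
    have hdw : polar Q d w = 0 := by rw [b_comm]; exact hwd
    have hga : (sg Q d w).1 a = a := sg_fix hqd hdw hda ((hX w).1 hwX)
    show C π _ _ = C π _ _
    rw [hx', hy', ← sg_conj_eq ha ((hX x).1 x.2) hga rfl, ← sg_conj_eq ha ((hX y).1 y.2) hga rfl,
      hπ.C_conj_central (hπ.sg_range hqd hdw) (hπ.sg_range ha ((hX x).1 x.2))
        (hπ.sg_range ha ((hX y).1 y.2)) (sg_commute_same ha ((hX x).1 x.2) ((hX y).1 y.2))]

theorem IsCov.omega_zero (hπ : IsCov π) {a : V} (ha : Q a = 0) {x y : V}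
    (hx : polar Q a x = 0) (hy : polar Q a y = 0) (hB : polar Q x y = 0) :
    C π (sg Q a x) (sg Q a y) = 1 := by
  rcases eq_or_ne a 0 with rfl | ha0
  · rw [sg_zero_left, hπ.C_one_left (hπ.sg_range ha hy)]
  rw [hπ.omega_pair ha ha0 hx hy (x' := 0) (y' := y) (b_zero_right a) hy (by rw [hB, b_zero_left]),
    sg_zero ha, hπ.C_one_left (hπ.sg_range ha hy)]

/-- The preimage of the root group of a totally singular pair. -/
noncomputable def rootSub (π : E →* oGroup Q) (a b : V) (ha : Q a = 0) (hab : polar Q a b = 0) : Subgroup E where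
  carrier := {z | ∃ t : F, π z = sg Q a (t • b)}
  one_mem' := ⟨0, by rw [map_one, zero_smul, sg_zero ha]⟩
  mul_mem' {x y} := by
    rintro ⟨s, hs⟩ ⟨t, ht⟩
    exact ⟨s + t, by rw [map_mul, hs, ht, add_smul, sg_add ha (by rw [b_smul_right, hab, mul_zero])
      (by rw [b_smul_right, hab, mul_zero])]⟩
  inv_mem' {x} := by
    rintro ⟨s, hs⟩
    exact ⟨-s, by rw [map_inv, hs, neg_smul, sg_neg ha (by rw [b_smul_right, hab, mul_zero])]⟩

theorem rootSub_comm (hπ : IsCov π) {a b : V} (ha : Q a = 0) (hb : Q b = 0) (hab : polar Q a b = 0)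
    {x y : E} (hx : x ∈ rootSub π a b ha hab) (hy : y ∈ rootSub π a b ha hab) : x * y = y * x := by
  obtain ⟨s, hs⟩ := hx
  obtain ⟨t, ht⟩ := hy
  refine hπ.eq_comm_of_C ?_
  rw [hs, ht]
  exact hπ.omega_zero ha (by rw [b_smul_right, hab, mul_zero]) (by rw [b_smul_right, hab, mul_zero])
    (by rw [b_smul_left, b_smul_right, b_self, hb, mul_zero, mul_zero, mul_zero])

/-- The commutator of lifts at two centres depends on the inner product only. -/
theorem IsCov.R_indep (hπ : IsCov π) (hchi : Chi π) {a b : V} (ha : Q a = 0) (hb : Q b = 0)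
    (hab : polar Q a b = 0) (ha0 : a ≠ 0) (hind : b ∉ Submodule.span F {a}) {v w v' w' : V}
    (hva : polar Q v a = 0) (hvb : polar Q v b = 0) (hwa : polar Q w a = 0) (hwb : polar Q w b = 0)
    (hv'a : polar Q v' a = 0) (hv'b : polar Q v' b = 0) (hw'a : polar Q w' a = 0) (hw'b : polar Q w' b = 0)
    (hB : polar Q v w = polar Q v' w') :
    C π (sg Q a v) (sg Q b w) = C π (sg Q a v') (sg Q b w') := by
  have hT := good_top (Q := Q) hπ.nd
  have hb0 : b ≠ 0 := fun h => hind (h ▸ Submodule.zero_mem _)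
  have haSb : a ∉ Submodule.span F {b} := by
    rw [Submodule.mem_span_singleton]
    rintro ⟨t, ht⟩
    rcases eq_or_ne t 0 with rfl | ht0
    · exact ha0 (by rw [← ht, zero_smul])
    exact hind (Submodule.mem_span_singleton.2 ⟨t⁻¹, by rw [← ht, smul_smul, inv_mul_cancel₀ ht0, one_smul]⟩)
  obtain ⟨a', -, hPa, hT'⟩ := exists_pair_avoid hT (T := Submodule.span F {b}) le_top Submodule.mem_top haSb ha
    (fun t ht => by
      obtain ⟨s, rfl⟩ := Submodule.mem_span_singleton.1 ht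
      rw [b_smul_left, b_comm, hab, mul_zero])
  have hbS : b ∈ (⊤ : Submodule F V) ⊓ pp Q a a' :=
    ⟨Submodule.mem_top, by rw [b_comm]; exact hab, hT' b (Submodule.mem_span_singleton_self b)⟩
  have hS1 := good_inf hT hPa Submodule.mem_top Submodule.mem_top
  obtain ⟨b', hb'S, hPb⟩ := exists_pair_of hS1 hbS hb0 hb
  have hS2 := good_inf hS1 hPb hbS hb'S
  have hd1 := finrank_inf_pp (Q := Q) ⊤ a a'
  rw [finrank_top] at hd1
  have hd2 := finrank_inf_pp (Q := Q) (⊤ ⊓ pp Q a a') b b'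
  have hdim := hπ.dim
  obtain ⟨c, hc, c', hc', hPc⟩ := exists_pair hS2 (by omega)
  have hd3 := finrank_inf_pp (Q := Q) (⊤ ⊓ pp Q a a' ⊓ pp Q b b') c c'
  obtain ⟨w₀, hw₀, w₁, hw₁, hw⟩ := exists_one (good_inf hS2 hPc hc hc') (ne_bot_of_finrank (by omega))
  let X : Submodule F V := pp Q a b
  letI : CommGroup (rootSub π a b ha hab) :=
    { (inferInstance : Group (rootSub π a b ha hab)) with
      mul_comm := fun x y => Subtype.ext (rootSub_comm hπ ha hb hab x.2 y.2) }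
  have hr : ∀ x y : X, sg Q a (x : V) ∈ π.range ∧ sg Q b (y : V) ∈ π.range := fun x y =>
    ⟨hπ.sg_range ha (by rw [b_comm]; exact x.2.1), hπ.sg_range hb (by rw [b_comm]; exact y.2.2)⟩
  have hpi : ∀ x y : X, π (C π (sg Q a (x : V)) (sg Q b (y : V))) = sg Q a (polar Q (x : V) y • b) :=
    fun x y => by
      rw [pi_C (hr x y).1 (hr x y).2, sg_comm ha hb hab x.2.1 x.2.2 y.2.1 y.2.2]
  let β : X → X → rootSub π a b ha hab := fun x y =>
    ⟨C π (sg Q a (x : V)) (sg Q b (y : V)), ⟨_, hpi x y⟩⟩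
  have hba : polar Q b a = 0 := by rw [b_comm, hab]
  have comA : ∀ (x : X) (z : E), (∃ t : F, π z = sg Q a (t • b)) →
      lift π (sg Q a (x : V)) * z * (lift π (sg Q a (x : V)))⁻¹ = z := by
    intro x z ⟨t, ht⟩
    rw [mul_inv_eq_iff_eq_mul]
    refine hπ.eq_comm_of_C ?_
    rw [lift_spec (hr x x).1, ht]
    exact hπ.omega_zero ha (by rw [b_comm]; exact x.2.1) (by rw [b_smul_right, hab, mul_zero])
      (by rw [b_smul_right, x.2.2, mul_zero])
  have comB : ∀ (y : X) (z : E), (∃ t : F, π z = sg Q a (t • b)) →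
      lift π (sg Q b (y : V)) * z * (lift π (sg Q b (y : V)))⁻¹ = z := by
    intro y z ⟨t, ht⟩
    rw [mul_inv_eq_iff_eq_mul]
    refine hπ.eq_comm_of_C ?_
    rw [lift_spec (hr y y).2, ht, sg_swap ha (by rw [q_smul, hb, mul_zero]) (by rw [b_smul_right, hab, mul_zero]),
      sg_scale t hb (by rw [b_neg_right, hba, neg_zero])]
    exact hπ.omega_zero hb (by rw [b_comm]; exact y.2.2) (by rw [b_smul_right, b_neg_right, hba, neg_zero, mul_zero])
      (by rw [b_smul_right, b_neg_right, y.2.1, neg_zero, mul_zero])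
  have h := pair_lemma (X := X) (c := c) (c' := c') ⟨hc.1.2.1, hc.2.1⟩ ⟨hc'.1.2.1, hc'.2.1⟩ hPc β ?_ ?_ ?_
    (w₀ := w₀) (w₁ := w₁) ⟨⟨hw₀.1.1.2.1, hw₀.1.2.1⟩, hw₀.2⟩ ⟨⟨hw₁.1.1.2.1, hw₁.1.2.1⟩, hw₁.2⟩ hw
    ⟨v, hva, hvb⟩ ⟨w, hwa, hwb⟩ ⟨v', hv'a, hv'b⟩ ⟨w', hw'a, hw'b⟩ hB
  · exact congrArg Subtype.val h
  · intro x x' y
    rw [mul_comm (β x y)]
    apply Subtype.ext
    show C π (sg Q a ((x : V) + x')) _ = _ * _
    rw [sg_add ha (by rw [b_comm]; exact x.2.1) (by rw [b_comm]; exact x'.2.1),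
      hπ.C_mul_left (hr x y).1 (hr x' y).1 (hr x y).2, comA x _ ⟨_, hpi x' y⟩]
  · intro x y y'
    apply Subtype.ext
    show C π _ (sg Q b ((y : V) + y')) = _ * _
    rw [sg_add hb (by rw [b_comm]; exact y.2.2) (by rw [b_comm]; exact y'.2.2),
      hπ.C_mul_right (hr x y).1 (hr x y).2 (hr x y').2, comB y _ ⟨_, hpi x y'⟩]
  · intro d d' hd u huX hud hud' x y x' y' hx' hy'
    have hdX : polar Q d a = 0 ∧ polar Q d b = 0 ∧ Q d = 0 ∧ d ∉ Submodule.span F {a, b} := by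
      have hnot : ∀ e e' : V, Pair Q e e' → e' ∈ X → e ∉ Submodule.span F {a, b} := by
        intro e e' he he' hmem
        obtain ⟨s, t, rfl⟩ := Submodule.mem_span_pair.1 hmem
        have := he.b
        rw [b_add_left, b_smul_left, b_smul_left, b_comm a e', b_comm b e', he'.1, he'.2] at this
        simp at this
      rcases hd with ⟨rfl, -⟩ | ⟨rfl, -⟩
      · exact ⟨hc.1.2.1, hc.2.1, hPc.qa, hnot _ _ hPc ⟨hc'.1.2.1, hc'.2.1⟩⟩
      · exact ⟨hc'.1.2.1, hc'.2.1, hPc.qa', hnot _ _ hPc.symm ⟨hc.1.2.1, hc.2.1⟩⟩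
    obtain ⟨hda, hdb, hqd, hdspan⟩ := hdX
    have hdu : polar Q d u = 0 := by rw [b_comm]; exact hud
    have hga : (sg Q d u).1 a = a := sg_fix hqd hdu (by rw [b_comm]; exact hda) (by rw [b_comm]; exact huX.1)
    have hgb : (sg Q d u).1 b = b := sg_fix hqd hdu (by rw [b_comm]; exact hdb) (by rw [b_comm]; exact huX.2)
    have hgr := hπ.sg_range hqd hdu
    apply Subtype.ext
    show C π _ _ = C π _ _
    rw [hx', hy', ← sg_conj_eq ha (by rw [b_comm]; exact x.2.1) hga rfl,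
      ← sg_conj_eq hb (by rw [b_comm]; exact y.2.2) hgb rfl]
    have hcj := hπ.C_conj (lift π (sg Q d u)) (hr x y).1 (hr x y).2
    rw [lift_spec hgr] at hcj
    rw [← hcj, mul_inv_eq_iff_eq_mul]
    refine hπ.eq_comm_of_C ?_
    rw [lift_spec hgr, hpi, ← hπ.C_inv, inv_eq_one]
    rcases eq_or_ne (polar Q (x : V) y) 0 with h0 | h0
    · rw [h0, zero_smul, sg_zero ha, hπ.C_one_left hgr]
    refine hchi a _ d u ha (by rw [q_smul, hb, mul_zero]) hqd (by rw [b_smul_right, hab, mul_zero])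
      (by rw [b_comm]; exact hda) (by rw [b_smul_left, b_comm b d, hdb, mul_zero]) ha0
      (fun h => hind ((Submodule.smul_mem_iff _ h0).1 h)) (fun h => hdspan ?_) huX.1
      (by rw [b_smul_right, huX.2, mul_zero]) hud
    obtain ⟨s, t, hst⟩ := Submodule.mem_span_pair.1 h
    exact Submodule.mem_span_pair.2 ⟨s, t * polar Q (x : V) y, by rw [← hst, smul_smul]⟩

/-- Lifts of Siegel elements at one centre commute. -/
theorem IsCov.omega_one (hπ : IsCov π) (hchi : Chi π) {a : V} (ha : Q a = 0) {x y : V}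
    (hx : polar Q a x = 0) (hy : polar Q a y = 0) : C π (sg Q a x) (sg Q a y) = 1 := by
  rcases eq_or_ne a 0 with rfl | ha0
  · rw [sg_zero_left, hπ.C_one_left (hπ.sg_range ha hy)]
  have hT := good_top (Q := Q) hπ.nd
  obtain ⟨a', -, hPa⟩ := exists_pair_of hT Submodule.mem_top ha0 ha
  have hS1 := good_inf hT hPa Submodule.mem_top Submodule.mem_top
  have hd1 := finrank_inf_pp (Q := Q) ⊤ a a'
  rw [finrank_top] at hd1
  have hdim := hπ.dim
  obtain ⟨m, hm, m', hm', hPm⟩ := exists_pair hS1 (by omega)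
  have hS2 := good_inf hS1 hPm hm hm'
  have hd2 := finrank_inf_pp (Q := Q) (⊤ ⊓ pp Q a a') m m'
  obtain ⟨w₀, hw₀, w, hw', hw⟩ := exists_one hS2 (ne_bot_of_finrank (by omega))
  obtain ⟨v, hv, hvdef⟩ : ∃ v, v ∈ ⊤ ⊓ pp Q a a' ⊓ pp Q m m' ∧ v = polar Q x y • w₀ :=
    ⟨_, Submodule.smul_mem _ _ hw₀, rfl⟩
  have hBvw : polar Q v w = polar Q x y := by rw [hvdef, b_smul_left, hw, mul_one]
  have va : polar Q v a = 0 := hv.1.2.1
  have vm : polar Q v m = 0 := hv.2.1
  have vm' : polar Q v m' = 0 := hv.2.2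
  have wa : polar Q w a = 0 := hw'.1.2.1
  have wm : polar Q w m = 0 := hw'.2.1
  have wm' : polar Q w m' = 0 := hw'.2.2
  have am : polar Q a m = 0 := by rw [b_comm]; exact hm.2.1
  have am' : polar Q a m' = 0 := by rw [b_comm]; exact hm'.2.1
  have mv : polar Q m v = 0 := by rw [b_comm, vm]
  have mw : polar Q m w = 0 := by rw [b_comm, wm]
  have av : polar Q a v = 0 := by rw [b_comm, va]
  have aw : polar Q a w = 0 := by rw [b_comm, wa]
  have ma : polar Q m a = 0 := by rw [b_comm, am]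
  have am2 : ∀ u : V, polar Q a u = 0 → polar Q a (u + (-Q u) • m) = 0 := fun u hu => by
    rw [b_add_right, b_smul_right, hu, am, mul_zero, add_zero]
  rw [hπ.omega_pair ha ha0 hx hy (am2 v av) (am2 w aw) (by
    rw [b_add_left, b_add_right, b_add_right, b_smul_left, b_smul_left, b_smul_right, b_smul_right, vm, mw,
      hPm.aa, hBvw]
    ring)]
  have hind : a ∉ Submodule.span F {m} := fun h => by
    obtain ⟨t, ht⟩ := Submodule.mem_span_singleton.1 h
    have := hPa.b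
    rw [← ht, b_smul_left, hm.2.2, mul_zero] at this
    exact zero_ne_one this
  obtain ⟨X, hXdef⟩ : ∃ X, X = lift π (sg Q m v) := ⟨_, rfl⟩
  obtain ⟨Y, hYdef⟩ : ∃ Y, Y = lift π (sg Q m w) := ⟨_, rfl⟩
  obtain ⟨Z, hZdef⟩ : ∃ Z, Z = lift π (sg Q a m') := ⟨_, rfl⟩
  have hX : π X = sg Q m v := by rw [hXdef, lift_spec (hπ.sg_range hPm.qa mv)]
  have hY : π Y = sg Q m w := by rw [hYdef, lift_spec (hπ.sg_range hPm.qa mw)]
  have hZ : π Z = sg Q a m' := by rw [hZdef, lift_spec (hπ.sg_range ha am')]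
  obtain ⟨Pv, hPv⟩ : ∃ P, P = Z⁻¹ * X * Z * X⁻¹ := ⟨_, rfl⟩
  obtain ⟨Pw, hPw⟩ : ∃ P, P = Z⁻¹ * Y * Z * Y⁻¹ := ⟨_, rfl⟩
  have piP : ∀ (u : V) (Y : E), π Y = sg Q m u → polar Q u a = 0 → polar Q u m = 0 → polar Q u m' = 0 →
      π (Z⁻¹ * Y * Z * Y⁻¹) = sg Q a (u + (-Q u) • m) := by
    intro u Y hY ua um um'
    have mu : polar Q m u = 0 := by rw [b_comm, um]
    have au : polar Q a u = 0 := by rw [b_comm, ua]
    have h1 : (sg Q m u).1 a = a := sg_fix hPm.qa mu am au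
    have h2 : (sg Q m u).1 m' = m' + (u + (-Q u) • m) := by
      rw [sg_apply hPm.qa mu, hPm.b', b_comm m' u, um', one_smul, zero_add, mul_one, neg_smul]; abel
    rw [show Z⁻¹ * Y * Z * Y⁻¹ = Z⁻¹ * (Y * Z * Y⁻¹) by group, map_mul, map_mul, map_mul, map_inv, map_inv,
      hY, hZ, sg_conj_eq ha am' h1 h2, sg_add ha am' (am2 u au), inv_mul_cancel_left]
  have piv := piP v X hX va vm vm'
  have piw := piP w Y hY wa wm wm'
  rw [← hPv] at piv
  rw [← hPw] at piw
  have comXY : C π (π X) (π Y) ∈ Subgroup.center E := by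
    rw [hX, hY]
    exact hπ.C_central (hπ.sg_range hPm.qa mv) (hπ.sg_range hPm.qa mw) (sg_commute_same hPm.qa mv mw)
  have hA : Pv * ⁅X, Pw⁆ * Pw = Pw * ⁅Y, Pv⁆ * Pv := by
    have h1 : X * (Y * Z * Y⁻¹) * X⁻¹ = Z * (Pv * ⁅X, Pw⁆ * Pw) := by
      rw [hPv, hPw, commutatorElement_def]; group
    have h2 : Y * (X * Z * X⁻¹) * Y⁻¹ = Z * (Pw * ⁅Y, Pv⁆ * Pv) := by
      rw [hPv, hPw, commutatorElement_def]; group
    have h3 : X * (Y * Z * Y⁻¹) * X⁻¹ = ⁅X, Y⁆ * (Y * (X * Z * X⁻¹) * Y⁻¹) * ⁅X, Y⁆⁻¹ := by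
      rw [commutatorElement_def]; group
    rw [← hπ.comm_eq] at comXY
    rw [h1, h2, central_mul_comm comXY, mul_inv_cancel_right] at h3
    exact mul_left_cancel h3
  have hma0 : polar Q m (-a) = 0 := by rw [b_neg_right, ma, neg_zero]
  have hR : ∀ (u u' : V) (X : E) (P : E), π X = sg Q m u → π P = sg Q a (u' + (-Q u') • m) →
      polar Q u a = 0 → polar Q u m = 0 → polar Q u' a = 0 → polar Q u' m = 0 →
      ⁅X, P⁆ = C π (sg Q m u) (sg Q a u') := by
    intro u u' X P hX hP ua um u'a u'm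
    have mu : polar Q m u = 0 := by rw [b_comm, um]
    have au' : polar Q a u' = 0 := by rw [b_comm, u'a]
    have hq : polar Q a ((-Q u') • m) = 0 := by rw [b_smul_right, am, mul_zero]
    have hcm : sg Q a ((-Q u') • m) = sg Q m ((-Q u') • -a) := by
      rw [sg_swap ha (by rw [q_smul, hPm.qa, mul_zero]) hq, sg_scale _ hPm.qa hma0]
    have hq' : polar Q m ((-Q u') • -a) = 0 := by rw [b_smul_right, hma0, mul_zero]
    rw [hπ.comm_eq, hX, hP, sg_add ha au' hq, hπ.C_mul_right' (hπ.sg_range hPm.qa mu) (hπ.sg_range ha au')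
      (hπ.sg_range ha hq) (by rw [hcm]; exact sg_commute_same hPm.qa mu hq'), hcm,
      hπ.omega_zero hPm.qa mu hq' (by rw [b_smul_right, b_neg_right, ua, neg_zero, mul_zero]), mul_one]
  rw [hR v w X Pw hX piw va vm wa wm, hR w v Y Pv hY piv wa wm va vm,
    hπ.R_indep hchi (v' := v) (w' := w) hPm.qa ha ma hPm.ne hind wm wa vm va vm va wm wa (b_comm w v)] at hA
  obtain ⟨R, hRdef⟩ : ∃ R, R = C π (sg Q m v) (sg Q a w) := ⟨_, rfl⟩
  rw [← hRdef] at hA
  have piR : π R = sg Q a ((-polar Q v w) • m) := by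
    rw [hRdef, pi_C (hπ.sg_range hPm.qa mv) (hπ.sg_range ha aw), sg_comm hPm.qa ha ma vm va wm wa,
      neg_smul, ← smul_neg, ← sg_scale _ ha (by rw [b_neg_right, am, neg_zero]),
      ← sg_swap hPm.qa (by rw [q_smul, ha, mul_zero]) (by rw [b_smul_right, ma, mul_zero])]
  have hcomR : ∀ (u : V) (P : E), π P = sg Q a (u + (-Q u) • m) → polar Q u a = 0 → polar Q u m = 0 →
      P * R = R * P := by
    intro u P hP ua um
    refine hπ.eq_comm_of_C ?_
    rw [hP, piR]
    refine hπ.omega_zero ha (am2 u (by rw [b_comm, ua])) (by rw [b_smul_right, am, mul_zero]) ?_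
    rw [b_smul_right, b_add_left, b_smul_left, um, hPm.aa, mul_zero, add_zero, mul_zero]
  have e : Pv * Pw = Pw * Pv := by
    rw [hcomR v Pv piv va vm, mul_assoc, hcomR w Pw piw wa wm, mul_assoc] at hA
    exact mul_left_cancel hA
  rw [← piv, ← piw, ← hπ.comm_eq]
  exact commutatorElement_eq_one_iff_mul_comm.2 e

end Cfsg.Agent.OmegaMult
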