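import Cfsg.Agent.Lib.OmegaMult.Local

/-!
An element of the kernel inside the subgroup of a subspace lies, up to a torus element, in the subgroup
of the orthogonal complement of a hyperbolic pair of that subspace: the covering of the opposition
graph of singular points is trivial.
-/

set_option autoImplicit false
set_option linter.unusedSectionVars false
set_option linter.unusedSimpArgs false
set_option linter.unusedVariables false

namespace Cfsg.Agent.OmegaMult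

open QuadraticMap Module Cfsg.Agent.Orth Cfsg.Agent.TwoGenOrth
open scoped commutatorElement

variable {F V : Type*} [Field F] [AddCommGroup V] [Module F V] {Q : QuadraticForm F V}
  [FiniteDimensional F V] [Fintype F] {E : Type*} [Group E] {π : E →* oGroup Q}

/-- The data of one step. -/
structure Step (π : E →* oGroup Q) (S : Submodule F V) (e f x₀ : V) : Prop where
  cov : IsCov π
  chi : Chi π
  good : Good Q S
  pair : Pair Q e f
  heS : e ∈ S
  hfS : f ∈ S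
  x0 : x₀ ∈ S ⊓ pp Q e f
  qx0 : Q x₀ ≠ 0

variable {S : Submodule F V} {e f x₀ : V}

/-- The generators of the group fixing both points. -/
def stabGens (π : E →* oGroup Q) (S : Submodule F V) (e f : V) : Set E :=
  {g | ∃ x y, x ∈ S ⊓ pp Q e f ∧ y ∈ S ⊓ pp Q e f ∧ Q x ≠ 0 ∧ Q y ≠ 0 ∧ g = Wk π e f x * Wk π e f y}

/-- The group fixing both points. -/
noncomputable def Nst (π : E →* oGroup Q) (S : Submodule F V) (e f : V) : Subgroup E :=
  Loc π (S ⊓ pp Q e f) ⊔ Subgroup.closure (stabGens π S e f)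

/-- The point stabiliser, as a set. -/
def InP (π : E →* oGroup Q) (S : Submodule F V) (e f : V) (g : E) : Prop :=
  ∃ y ∈ S ⊓ pp Q e f, ∃ n ∈ Nst π S e f, g = kappa π e y * n

/-- Adjacency of cosets. -/
def Adj (π : E →* oGroup Q) (S : Submodule F V) (e f x₀ : V) (g h : E) : Prop :=
  ∃ y ∈ S ⊓ pp Q e f, InP π S e f ((g * kappa π e y * Wk π e f x₀)⁻¹ * h)

variable (D : Step π S e f x₀)
include D

theorem Step.by' {y : V} (hy : y ∈ S ⊓ pp Q e f) : polar Q e y = 0 := by rw [b_comm]; exact hy.2.1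

theorem Step.bfy {y : V} (hy : y ∈ S ⊓ pp Q e f) : polar Q f y = 0 := by rw [b_comm]; exact hy.2.2

theorem Step.kappa_mem {y : V} (hy : y ∈ S ⊓ pp Q e f) : kappa π e y ∈ Loc π S :=
  kappa_mem_Loc D.heS hy.1 D.pair.qa (D.by' hy)

theorem Step.Wk_mem {x : V} (hx : x ∈ S ⊓ pp Q e f) : Wk π e f x ∈ Loc π S := by
  refine mul_mem (mul_mem (D.kappa_mem hx) ?_) (D.kappa_mem hx)
  exact kappa_mem_Loc D.hfS (S.smul_mem _ hx.1) D.pair.qa' (by rw [b_smul_right, D.bfy hx, mul_zero])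

theorem Step.Wk_apply {x : V} (hx : x ∈ S ⊓ pp Q e f) (hq : Q x ≠ 0) :
    (π (Wk π e f x)).1 e = (-(Q x)⁻¹) • f ∧ (π (Wk π e f x)).1 f = (-Q x) • e ∧
      ∀ z ∈ pp Q e f, (π (Wk π e f x)).1 z = z - (polar Q z x * (Q x)⁻¹) • x := by
  have hex := D.by' hx
  have hfx : polar Q f x = 0 := D.bfy hx
  have hxf : polar Q x f = 0 := hx.2.2
  have hxe : polar Q x e = 0 := hx.2.1
  have h2 : polar Q f ((Q x)⁻¹ • x) = 0 := by rw [b_smul_right, hfx, mul_zero]
  have he := D.pair.aa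
  have hf := D.pair.symm.aa
  simp only [Wk, map_mul, pi_kappa D.cov D.chi D.pair.qa hex, pi_kappa D.cov D.chi D.pair.qa' h2,
    Subgroup.coe_mul, LinearEquiv.mul_apply]
  refine ⟨?_, ?_, fun z hz => ?_⟩
  · simp only [sg_apply D.pair.qa hex, sg_apply D.pair.qa' h2, q_smul, map_add, map_sub, map_smul, b_add_left,
      b_sub_left, b_smul_left, b_smul_right, he, hf, hex, hfx, hxe, hxf, D.pair.b, D.pair.b', b_self x]
    match_scalars <;> field_simp <;> ring
  · simp only [sg_apply D.pair.qa hex, sg_apply D.pair.qa' h2, q_smul, map_add, map_sub, map_smul, b_add_left,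
      b_sub_left, b_smul_left, b_smul_right, he, hf, hex, hfx, hxe, hxf, D.pair.b, D.pair.b', b_self x]
    match_scalars <;> field_simp <;> ring
  · simp only [sg_apply D.pair.qa hex, sg_apply D.pair.qa' h2, q_smul, map_add, map_sub, map_smul, b_add_left,
      b_sub_left, b_smul_left, b_smul_right, he, hf, hex, hfx, hxe, hxf, hz.1, hz.2, D.pair.b, D.pair.b', b_self x]
    match_scalars <;> field_simp <;> ring

theorem Step.Wk_maps {x : V} (hx : x ∈ S ⊓ pp Q e f) (hq : Q x ≠ 0) :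
    ∀ z ∈ S ⊓ pp Q e f, (π (Wk π e f x)).1 z ∈ S ⊓ pp Q e f := fun z hz => by
  rw [(D.Wk_apply hx hq).2.2 z hz.2]
  exact Submodule.sub_mem _ hz (Submodule.smul_mem _ _ hx)

theorem Step.Wk_conj_W {x : V} (hx : x ∈ S ⊓ pp Q e f) (hq : Q x ≠ 0) {z : V} (hz : z ∈ pp Q e f) :
    Wk π e f x * Wk π e f z * (Wk π e f x)⁻¹ =
      Wk π ((-(Q x)⁻¹) • f) ((-Q x) • e) (z - (polar Q z x * (Q x)⁻¹) • x) := by
  obtain ⟨h1, h2, h3⟩ := D.Wk_apply hx hq
  rw [Wk_conj D.cov D.chi _ D.pair hz, h1, h2, h3 z hz]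

/-- The elements fixing both points. -/
theorem Step.nst_spec {n : E} (hn : n ∈ Nst π S e f) :
    (∃ c : F, c ≠ 0 ∧ (π n).1 e = c • e) ∧ (∃ c : F, c ≠ 0 ∧ (π n).1 f = c • f) ∧
      (∀ x, x ∈ S ⊓ pp Q e f ↔ (π n).1 x ∈ S ⊓ pp Q e f) ∧ n ∈ Loc π S := by
  let K : Subgroup E :=
    { carrier := {n | (∃ c : F, c ≠ 0 ∧ (π n).1 e = c • e) ∧ (∃ c : F, c ≠ 0 ∧ (π n).1 f = c • f) ∧
        (∀ x, x ∈ S ⊓ pp Q e f ↔ (π n).1 x ∈ S ⊓ pp Q e f) ∧ n ∈ Loc π S}
      one_mem' := ⟨⟨1, one_ne_zero, by rw [map_one, one_smul]; rfl⟩, ⟨1, one_ne_zero, by rw [map_one, one_smul]; rfl⟩,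
        fun x => by rw [map_one]; rfl, one_mem _⟩
      mul_mem' := by
        rintro a b ⟨⟨c, hc, a1⟩, ⟨d, hd, a2⟩, a3, a4⟩ ⟨⟨c', hc', b1⟩, ⟨d', hd', b2⟩, b3, b4⟩
        refine ⟨⟨c' * c, mul_ne_zero hc' hc, ?_⟩, ⟨d' * d, mul_ne_zero hd' hd, ?_⟩, fun x => ?_, mul_mem a4 b4⟩
        · rw [map_mul, Subgroup.coe_mul, LinearEquiv.mul_apply, b1, map_smul, a1, smul_smul]
        · rw [map_mul, Subgroup.coe_mul, LinearEquiv.mul_apply, b2, map_smul, a2, smul_smul]
        · rw [map_mul, Subgroup.coe_mul, LinearEquiv.mul_apply, b3 x, a3]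
      inv_mem' := by
        rintro a ⟨⟨c, hc, a1⟩, ⟨d, hd, a2⟩, a3, a4⟩
        refine ⟨⟨c⁻¹, inv_ne_zero hc, ?_⟩, ⟨d⁻¹, inv_ne_zero hd, ?_⟩, fun x => ?_, inv_mem a4⟩
        · rw [map_inv, Subgroup.coe_inv]
          refine ((π a).1.symm_apply_eq).2 ?_
          rw [map_smul, a1, smul_smul, inv_mul_cancel₀ hc, one_smul]
        · rw [map_inv, Subgroup.coe_inv]
          refine ((π a).1.symm_apply_eq).2 ?_
          rw [map_smul, a2, smul_smul, inv_mul_cancel₀ hd, one_smul]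
        · rw [map_inv, Subgroup.coe_inv, a3 ((π a).1⁻¹ x)]
          rw [show (π a).1 ((π a).1⁻¹ x) = x from (π a).1.apply_symm_apply x] }
  have hle : Nst π S e f ≤ K := by
    refine sup_le (fun l hl => ?_) ((Subgroup.closure_le _).2 ?_)
    · have fe : (π l).1 e = e := Loc_fix D.cov D.chi hl fun y hy => D.by' hy
      have ff : (π l).1 f = f := Loc_fix D.cov D.chi hl fun y hy => D.bfy hy
      exact ⟨⟨1, one_ne_zero, by rw [fe, one_smul]⟩, ⟨1, one_ne_zero, by rw [ff, one_smul]⟩,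
        Loc_map D.cov D.chi hl, Loc_mono inf_le_left hl⟩
    · rintro _ ⟨x, y, hx, hy, hqx, hqy, rfl⟩
      obtain ⟨y1, y2, y3⟩ := D.Wk_apply hy hqy
      obtain ⟨x1, x2, x3⟩ := D.Wk_apply hx hqx
      refine ⟨⟨(Q y)⁻¹ * Q x, mul_ne_zero (inv_ne_zero hqy) hqx, ?_⟩, ⟨Q y * (Q x)⁻¹, mul_ne_zero hqy (inv_ne_zero hqx), ?_⟩,
        fun z => ?_, mul_mem (D.Wk_mem hx) (D.Wk_mem hy)⟩
      · rw [map_mul, Subgroup.coe_mul, LinearEquiv.mul_apply, y1, map_smul, x2, smul_smul, neg_mul_neg]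
      · rw [map_mul, Subgroup.coe_mul, LinearEquiv.mul_apply, y2, map_smul, x1, smul_smul, neg_mul_neg]
      · have hxy : ∀ w ∈ S ⊓ pp Q e f, (π (Wk π e f x * Wk π e f y)).1 w ∈ S ⊓ pp Q e f := fun w hw => by
          rw [map_mul, Subgroup.coe_mul, LinearEquiv.mul_apply]
          exact D.Wk_maps hx hqx _ (D.Wk_maps hy hqy w hw)
        refine ⟨hxy z, fun hz => ?_⟩
        have hny : -y ∈ S ⊓ pp Q e f := Submodule.neg_mem _ hy
        have hnx : -x ∈ S ⊓ pp Q e f := Submodule.neg_mem _ hx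
        have := D.Wk_maps hny (by rwa [QuadraticMap.map_neg]) _ (D.Wk_maps hnx (by rwa [QuadraticMap.map_neg]) _ hz)
        rwa [← LinearEquiv.mul_apply, ← Subgroup.coe_mul, ← map_mul, ← LinearEquiv.mul_apply, ← Subgroup.coe_mul,
          ← map_mul, ← Wk_neg D.cov D.chi D.pair hx.2, ← Wk_neg D.cov D.chi D.pair hy.2,
          show (Wk π e f y)⁻¹ * (Wk π e f x)⁻¹ * (Wk π e f x * Wk π e f y) = 1 by group, map_one] at this
  exact hle hn

theorem Step.Wk0_sq : Wk π e f x₀ * Wk π e f x₀ ∈ Nst π S e f :=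
  Subgroup.mem_sup_right (Subgroup.subset_closure ⟨x₀, x₀, D.x0, D.x0, D.qx0, D.qx0, rfl⟩)

theorem Step.Wk0_conj {n : E} (hn : n ∈ Nst π S e f) :
    (Wk π e f x₀)⁻¹ * n * Wk π e f x₀ ∈ Nst π S e f := by
  have hneg : -x₀ ∈ S ⊓ pp Q e f := Submodule.neg_mem _ D.x0
  have hqn : Q (-x₀) ≠ 0 := by rw [QuadraticMap.map_neg]; exact D.qx0
  have hle : Nst π S e f ≤ (Nst π S e f).comap (MulAut.conj (Wk π e f x₀)⁻¹).toMonoidHom := by
    refine sup_le (fun l hl => ?_) ((Subgroup.closure_le _).2 ?_)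
    · refine Subgroup.mem_sup_left ?_
      show (Wk π e f x₀)⁻¹ * l * ((Wk π e f x₀)⁻¹)⁻¹ ∈ Loc π _
      exact Loc_conj D.cov D.chi _ (by rw [Wk_neg D.cov D.chi D.pair D.x0.2]; exact D.Wk_maps hneg hqn) hl
    · rintro _ ⟨x, y, hx, hy, hqx, hqy, rfl⟩
      show (Wk π e f x₀)⁻¹ * (Wk π e f x * Wk π e f y) * ((Wk π e f x₀)⁻¹)⁻¹ ∈ Nst π S e f
      rw [inv_inv, Wk_neg D.cov D.chi D.pair D.x0.2,
        show Wk π e f (-x₀) * (Wk π e f x * Wk π e f y) * Wk π e f x₀ =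
          (Wk π e f (-x₀) * Wk π e f x) * (Wk π e f y * Wk π e f x₀) by group]
      exact Subgroup.mem_sup_right (mul_mem (Subgroup.subset_closure ⟨-x₀, x, hneg, hx, hqn, hqx, rfl⟩)
        (Subgroup.subset_closure ⟨y, x₀, hy, D.x0, hqy, D.qx0, rfl⟩))
  have := hle hn
  rw [Subgroup.mem_comap] at this
  simpa [MulAut.conj_apply] using this

theorem Step.nst_conj_kappa {n : E} (hn : n ∈ Nst π S e f) {y : V} (hy : y ∈ S ⊓ pp Q e f) :
    ∃ y' ∈ S ⊓ pp Q e f, n * kappa π e y * n⁻¹ = kappa π e y' := by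
  obtain ⟨⟨c, hc, h1⟩, -, h3, -⟩ := D.nst_spec hn
  have hny := (h3 y).1 hy
  exact ⟨c • (π n).1 y, Submodule.smul_mem _ c hny, by
    rw [kappa_conj D.cov D.chi n D.pair.qa (D.by' hy), h1, kappa_smul_left D.cov D.chi D.pair.qa (D.by' hny)]⟩

theorem Step.inP_one : InP π S e f (1 : E) :=
  ⟨0, Submodule.zero_mem _, 1, one_mem _, by rw [kappa_zero D.cov D.chi D.pair.qa, mul_one]⟩

theorem Step.inP_kappa {y : V} (hy : y ∈ S ⊓ pp Q e f) : InP π S e f (kappa π e y) :=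
  ⟨y, hy, 1, one_mem _, (mul_one _).symm⟩

theorem Step.inP_nst {n : E} (hn : n ∈ Nst π S e f) : InP π S e f n :=
  ⟨0, Submodule.zero_mem _, n, hn, by rw [kappa_zero D.cov D.chi D.pair.qa, one_mul]⟩

theorem Step.inP_mul {p q : E} (hp : InP π S e f p) (hq : InP π S e f q) : InP π S e f (p * q) := by
  obtain ⟨y, hy, n, hn, rfl⟩ := hp
  obtain ⟨z, hz, m, hm, rfl⟩ := hq
  obtain ⟨z', hz', hc⟩ := D.nst_conj_kappa hn hz
  refine ⟨y + z', Submodule.add_mem _ hy hz', n * m, mul_mem hn hm, ?_⟩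
  rw [kappa_add D.cov D.chi D.pair.qa (D.by' hy) (D.by' hz'), ← hc]
  group

theorem Step.inP_inv {p : E} (hp : InP π S e f p) : InP π S e f p⁻¹ := by
  obtain ⟨y, hy, n, hn, rfl⟩ := hp
  rw [_root_.mul_inv_rev, ← kappa_neg D.cov D.chi D.pair.qa (D.by' hy)]
  exact D.inP_mul (D.inP_nst (inv_mem hn)) (D.inP_kappa (Submodule.neg_mem _ hy))

theorem Step.inP_mem {p : E} (hp : InP π S e f p) : p ∈ Loc π S := by
  obtain ⟨y, hy, n, hn, rfl⟩ := hp
  exact mul_mem (D.kappa_mem hy) (D.nst_spec hn).2.2.2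

theorem Step.inP_point {p : E} (hp : InP π S e f p) : ∃ c : F, c ≠ 0 ∧ (π p).1 e = c • e := by
  obtain ⟨y, hy, n, hn, rfl⟩ := hp
  obtain ⟨⟨c, hc, h1⟩, -⟩ := D.nst_spec hn
  refine ⟨c, hc, ?_⟩
  rw [map_mul, Subgroup.coe_mul, LinearEquiv.mul_apply, h1, map_smul, pi_kappa D.cov D.chi D.pair.qa (D.by' hy),
    sg_fix_self D.pair.qa (D.by' hy)]

theorem Step.kW_apply {y : V} (hy : y ∈ S ⊓ pp Q e f) :
    (π (kappa π e y * Wk π e f x₀)).1 e = (-(Q x₀)⁻¹) • (f + y + (-Q y) • e) := by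
  rw [map_mul, Subgroup.coe_mul, LinearEquiv.mul_apply, (D.Wk_apply D.x0 D.qx0).1, map_smul,
    pi_kappa D.cov D.chi D.pair.qa (D.by' hy), sg_apply D.pair.qa (D.by' hy), D.pair.b', D.bfy hy]
  module

theorem Step.adj_congr {g g' h h' : E} (hg : InP π S e f (g⁻¹ * g')) (hh : InP π S e f (h⁻¹ * h'))
    (H : Adj π S e f x₀ g h) : Adj π S e f x₀ g' h' := by
  obtain ⟨y, hy, hp⟩ := H
  obtain ⟨y₀, hy₀, n, hn, hdef⟩ := D.inP_inv hg
  -- the old base point expressed from the new one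
  obtain ⟨y', hy', hc⟩ := D.nst_conj_kappa hn hy
  refine ⟨y₀ + y', Submodule.add_mem _ hy₀ hy', ?_⟩
  have hgg : g = g' * (kappa π e y₀ * n) := by rw [← hdef]; group
  have key : (g' * kappa π e (y₀ + y') * Wk π e f x₀)⁻¹ * h' =
      ((Wk π e f x₀)⁻¹ * n * Wk π e f x₀) * ((g * kappa π e y * Wk π e f x₀)⁻¹ * h) * (h⁻¹ * h') := by
    rw [hgg, kappa_add D.cov D.chi D.pair.qa (D.by' hy₀) (D.by' hy'), ← hc]
    group
  rw [key]
  exact D.inP_mul (D.inP_mul (D.inP_nst (D.Wk0_conj hn)) hp) hh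

theorem Step.adj_intro {g : E} {y : V} (hy : y ∈ S ⊓ pp Q e f) :
    Adj π S e f x₀ g (g * kappa π e y * Wk π e f x₀) :=
  ⟨y, hy, by rw [inv_mul_cancel]; exact D.inP_one⟩

theorem Step.adj_symm {g h : E} (H : Adj π S e f x₀ g h) : Adj π S e f x₀ h g := by
  obtain ⟨y, hy, hp⟩ := H
  have h0 := D.adj_intro (g := g * kappa π e y * Wk π e f x₀) (Submodule.zero_mem (S ⊓ pp Q e f))
  rw [kappa_zero D.cov D.chi D.pair.qa, mul_one] at h0
  refine D.adj_congr hp ?_ h0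
  rw [show (g * kappa π e y * Wk π e f x₀ * Wk π e f x₀)⁻¹ * g =
    (Wk π e f x₀ * Wk π e f x₀)⁻¹ * (kappa π e y)⁻¹ by group]
  exact D.inP_mul (D.inP_inv (D.inP_nst D.Wk0_sq)) (D.inP_inv (D.inP_kappa hy))

theorem Step.adj_point {g h : E} (H : Adj π S e f x₀ g h) :
    ∃ y ∈ S ⊓ pp Q e f, ∃ c : F, c ≠ 0 ∧ (π h).1 e = c • (π g).1 (f + y + (-Q y) • e) ∧
      InP π S e f ((g * kappa π e y * Wk π e f x₀)⁻¹ * h) := by
  obtain ⟨y, hy, hp⟩ := H
  obtain ⟨c, hc, hcp⟩ := D.inP_point hp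
  refine ⟨y, hy, c * -(Q x₀)⁻¹, mul_ne_zero hc (neg_ne_zero.2 (inv_ne_zero D.qx0)), ?_, hp⟩
  conv_lhs => rw [show h = g * (kappa π e y * Wk π e f x₀) * ((g * kappa π e y * Wk π e f x₀)⁻¹ * h) by group]
  rw [map_mul, Subgroup.coe_mul, LinearEquiv.mul_apply, hcp, map_smul, map_mul, Subgroup.coe_mul,
    LinearEquiv.mul_apply, D.kW_apply hy, map_smul, smul_smul]

theorem Step.adj_opp {g h : E} (H : Adj π S e f x₀ g h) :
    polar Q ((π g).1 e) ((π h).1 e) ≠ 0 := by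
  obtain ⟨y, hy, c, hc, e1, -⟩ := D.adj_point H
  rw [e1, b_smul_right, b_map (π g).2, b_add_right, b_add_right, b_smul_right, D.pair.b, D.by' hy, D.pair.aa]
  simpa using hc

theorem Step.adj_mem {g h : E} (hg : g ∈ Loc π S) (H : Adj π S e f x₀ g h) : h ∈ Loc π S := by
  obtain ⟨y, hy, hp⟩ := H
  have := mul_mem (mul_mem (mul_mem hg (D.kappa_mem hy)) (D.Wk_mem D.x0)) (D.inP_mem hp)
  rwa [mul_inv_cancel_left] at this

/-- Neighbours over the same point coincide. -/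
theorem Step.adj_unique {g h h' : E} (H : Adj π S e f x₀ g h) (H' : Adj π S e f x₀ g h')
    {c : F} (heq : (π h').1 e = c • (π h).1 e) : InP π S e f (h⁻¹ * h') := by
  obtain ⟨y, hy, a, ha, e1, hp⟩ := D.adj_point H
  obtain ⟨y', hy', a', ha', e1', hp'⟩ := D.adj_point H'
  rw [e1, e1', smul_smul, ← map_smul, ← map_smul] at heq
  have h2 := (π g).1.injective heq
  have hk : a' = c * a := by
    have := congrArg (polar Q e) h2
    simpa [b_smul_right, b_add_right, D.pair.b, D.by' hy, D.by' hy', D.pair.aa] using this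
  have hyy : y' = y := by
    have h3 : f + y' + (-Q y') • e = f + y + (-Q y) • e := by
      rw [← hk] at h2
      exact smul_right_injective V ha' h2
    have h4 := congrArg (fun v => polar Q f v) h3
    simp only [b_add_right, b_smul_right, D.bfy hy, D.bfy hy', D.pair.symm.aa, D.pair.b', mul_one, add_zero,
      zero_add] at h4
    rw [h4] at h3
    exact add_left_cancel (add_right_cancel h3)
  rw [hyy] at hp'
  rw [show h⁻¹ * h' = ((g * kappa π e y * Wk π e f x₀)⁻¹ * h)⁻¹ * ((g * kappa π e y * Wk π e f x₀)⁻¹ * h') by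
    group]
  exact D.inP_mul (D.inP_inv hp) hp'

/-- Neighbours over opposite points are adjacent. -/
theorem Step.triangle {g d d' : E} (H : Adj π S e f x₀ g d) (H' : Adj π S e f x₀ g d')
    (hb : polar Q ((π d).1 e) ((π d').1 e) ≠ 0) : Adj π S e f x₀ d d' := by
  obtain ⟨y, hy, a, ha, e1, hp⟩ := D.adj_point H
  obtain ⟨y', hy', a', ha', e1', hp'⟩ := D.adj_point H'
  obtain ⟨w, hw, hwd⟩ : ∃ w ∈ S ⊓ pp Q e f, w = y' - y := ⟨_, Submodule.sub_mem _ hy' hy, rfl⟩
  have hqw : Q w ≠ 0 := by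
    intro h0
    apply hb
    rw [hwd, q_sub, b_comm y' y] at h0
    rw [e1, e1', b_smul_left, b_smul_right, b_map (π g).2]
    simp only [b_add_left, b_add_right, b_smul_left, b_smul_right, D.pair.b, D.pair.b', D.pair.aa, D.pair.symm.aa,
      D.by' hy', D.bfy hy', hy.2.1, hy.2.2]
    linear_combination (-(a * a')) * h0
  obtain ⟨W0, hW0⟩ : ∃ W0, Wk π e f x₀ = W0 := ⟨_, rfl⟩
  have hneg : -x₀ ∈ S ⊓ pp Q e f := Submodule.neg_mem _ D.x0
  have hqn : Q (-x₀) ≠ 0 := by rw [QuadraticMap.map_neg]; exact D.qx0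
  obtain ⟨w', hw', hwd'⟩ : ∃ w' ∈ S ⊓ pp Q e f, w' = (π (Wk π e f (-x₀))).1 w :=
    ⟨_, D.Wk_maps hneg hqn w hw, rfl⟩
  obtain ⟨z, hz, hzd⟩ : ∃ z ∈ S ⊓ pp Q e f, z = (-(Q x₀)⁻¹) • w' := ⟨_, Submodule.smul_mem _ _ hw', rfl⟩
  have hqz : Q z ≠ 0 := by
    rw [hzd, q_smul, hwd', (π (Wk π e f (-x₀))).2]
    exact mul_ne_zero (mul_ne_zero (neg_ne_zero.2 (inv_ne_zero D.qx0)) (neg_ne_zero.2 (inv_ne_zero D.qx0))) hqw
  have hconj : W0⁻¹ * kappa π e w * W0 = kappa π f z := by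
    have h1 := kappa_conj D.cov D.chi W0⁻¹ D.pair.qa (D.by' hw)
    rw [inv_inv, ← hW0, Wk_neg D.cov D.chi D.pair D.x0.2, (D.Wk_apply hneg hqn).1, ← hwd',
      QuadraticMap.map_neg, kappa_smul_left D.cov D.chi D.pair.qa' (D.bfy hw'), ← hzd] at h1
    rw [← hW0, Wk_neg D.cov D.chi D.pair D.x0.2]
    exact h1
  obtain ⟨x, hx, hxd⟩ : ∃ x ∈ S ⊓ pp Q e f, x = (Q z)⁻¹ • z := ⟨_, Submodule.smul_mem _ _ hz, rfl⟩
  have hqx : Q x = (Q z)⁻¹ := by rw [hxd, q_smul]; field_simp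
  have hqx0 : Q x ≠ 0 := by rw [hqx]; exact inv_ne_zero hqz
  have hsplit : kappa π f z = kappa π e (-x) * Wk π e f x * kappa π e (-x) := by
    rw [Wk, kappa_neg D.cov D.chi D.pair.qa (D.by' hx)]
    rw [show (Q x)⁻¹ • x = z by rw [hqx, hxd, inv_inv, smul_smul, mul_inv_cancel₀ hqz, one_smul]]
    group
  refine D.adj_congr hp hp' ⟨-x, Submodule.neg_mem _ hx, ?_⟩
  rw [show (g * kappa π e y * Wk π e f x₀ * kappa π e (-x) * Wk π e f x₀)⁻¹ *
      (g * kappa π e y' * Wk π e f x₀) =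
    W0⁻¹ * (kappa π e (-x))⁻¹ * (W0⁻¹ * ((kappa π e y)⁻¹ * kappa π e y') * W0) by rw [hW0]; group,
    show (kappa π e y)⁻¹ * kappa π e y' = kappa π e w by
      rw [hwd, sub_eq_neg_add, kappa_add D.cov D.chi D.pair.qa (by rw [b_neg_right, D.by' hy, neg_zero]) (D.by' hy'),
        kappa_neg D.cov D.chi D.pair.qa (D.by' hy)],
    hconj, hsplit,
    show W0⁻¹ * (kappa π e (-x))⁻¹ * (kappa π e (-x) * Wk π e f x * kappa π e (-x)) =
      (W0⁻¹ * Wk π e f x) * kappa π e (-x) by group,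
    ← hW0, Wk_neg D.cov D.chi D.pair D.x0.2]
  exact D.inP_mul (D.inP_nst (Subgroup.mem_sup_right
    (Subgroup.subset_closure ⟨-x₀, x, hneg, hx, hqn, hqx0, rfl⟩))) (D.inP_kappa (Submodule.neg_mem _ hx))

/-- Coordinates of a vector of the subspace. -/
theorem Step.coords {v : V} (hv : v ∈ S) :
    ∃ (p q : F) (a : V), a ∈ S ⊓ pp Q e f ∧ v = p • e + q • f + a ∧ q = polar Q v e ∧ p = polar Q v f := by
  refine ⟨polar Q v f, polar Q v e, v - polar Q v f • e - polar Q v e • f, proj_mem' D.pair D.heS D.hfS hv,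
    by abel, rfl, rfl⟩

/-- A neighbour over a given opposite point. -/
theorem Step.exists_adj {g : E} (hg : g ∈ Loc π S) {v : V} (hv : v ∈ S) (hq : Q v = 0)
    (hb : polar Q ((π g).1 e) v ≠ 0) :
    ∃ y ∈ S ⊓ pp Q e f, ∃ c : F, (π (g * kappa π e y * Wk π e f x₀)).1 e = c • v := by
  obtain ⟨v', hv'⟩ : ∃ v', (π g).1.symm v = v' := ⟨_, rfl⟩
  have hgv : (π g).1 v' = v := by rw [← hv', LinearEquiv.apply_symm_apply]
  have hv'S : v' ∈ S := (Loc_map D.cov D.chi hg v').2 (hgv ▸ hv)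
  obtain ⟨p, q, a, ha, hdec, hqd, -⟩ := D.coords hv'S
  have hq0 : q ≠ 0 := by
    rw [← hgv, b_map (π g).2, b_comm, ← hqd] at hb
    exact hb
  have hqa : p * q + Q a = 0 := by
    have := (π g).2 v'
    rw [hgv, hq, hdec] at this
    simp only [q_add, q_smul, b_add_left, b_smul_left, b_smul_right, D.pair.qa, D.pair.qa', D.pair.b, D.by' ha,
      D.bfy ha] at this
    linear_combination -this
  refine ⟨q⁻¹ • a, Submodule.smul_mem _ _ ha, -(Q x₀)⁻¹ * q⁻¹, ?_⟩
  rw [mul_assoc g, map_mul, Subgroup.coe_mul, LinearEquiv.mul_apply, D.kW_apply (Submodule.smul_mem _ _ ha),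
    map_smul, mul_smul]
  congr 1
  rw [← hgv, ← map_smul]
  congr 1
  rw [hdec, q_smul]
  match_scalars <;> field_simp
  linear_combination -hqa

/-- An element at distance two or less from the base. -/
def Near (π : E →* oGroup Q) (S : Submodule F V) (e f x₀ : V) (g : E) : Prop :=
  InP π S e f g ∨ Adj π S e f x₀ 1 g ∨ ∃ d, Adj π S e f x₀ 1 d ∧ Adj π S e f x₀ d g

/-- Lifts of Siegel elements in the hyperplane of the base point fix the base. -/
theorem Step.inP_perp {a₁ y₁ : V} (ha : a₁ ∈ S) (hy : y₁ ∈ S) (hq : Q a₁ = 0) (hb : polar Q a₁ y₁ = 0)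
    (hae : polar Q a₁ e = 0) (hye : polar Q y₁ e = 0) : InP π S e f (kappa π a₁ y₁) := by
  obtain ⟨p, q, a₀, ha₀, hdec, hqd, -⟩ := D.coords ha
  rw [hae] at hqd
  rw [hqd, zero_smul, add_zero] at hdec
  have hqa : Q a₀ = 0 := by
    rw [hdec, q_add, q_smul, b_smul_left, D.pair.qa, D.by' ha₀] at hq
    linear_combination hq
  have hA := good_inf D.good D.pair D.heS D.hfS
  rcases eq_or_ne a₀ 0 with h0 | h0
  · rw [h0, add_zero] at hdec
    obtain ⟨γ, δ, y₀, hy₀, hyd, hδ, -⟩ := D.coords hy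
    rw [hye] at hδ
    rw [hδ, zero_smul, add_zero] at hyd
    have hey1 : polar Q e y₁ = 0 := by rw [b_comm, hye]
    have hee : polar Q e ((p * γ) • e) = 0 := by rw [b_smul_right, D.pair.aa, mul_zero]
    rw [hdec, kappa_smul_left D.cov D.chi D.pair.qa hey1, hyd, smul_add, smul_smul,
      kappa_add D.cov D.chi D.pair.qa hee (by rw [b_smul_right, D.by' hy₀, mul_zero]),
      kappa_self D.cov D.chi D.pair.qa, one_mul]
    exact D.inP_kappa (Submodule.smul_mem _ _ hy₀)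
  · obtain ⟨x, hx, hxb⟩ := exists_dual hA ha₀ h0 (-p)
    have hk : (π (kappa π e x)).1 a₀ = a₁ := by
      rw [pi_kappa D.cov D.chi D.pair.qa (D.by' hx), sg_move D.pair.qa (D.by' hx) ha₀.2.1, hxb, hdec]
      module
    obtain ⟨y', hy'd⟩ : ∃ y', (π (kappa π e x)).1.symm y₁ = y' := ⟨_, rfl⟩
    have hky : (π (kappa π e x)).1 y' = y₁ := by rw [← hy'd, LinearEquiv.apply_symm_apply]
    have hy'S : y' ∈ S := (Loc_map D.cov D.chi (D.kappa_mem hx) y').2 (hky ▸ hy)
    have hke : (π (kappa π e x)).1 e = e := by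
      rw [pi_kappa D.cov D.chi D.pair.qa (D.by' hx), sg_fix_self D.pair.qa (D.by' hx)]
    obtain ⟨γ, δ, y₀, hy₀, hyd, hδ, -⟩ := D.coords hy'S
    have hy'e : polar Q y' e = 0 := by rw [← b_map (π (kappa π e x)).2, hky, hke, hye]
    rw [hy'e] at hδ
    rw [hδ, zero_smul, add_zero] at hyd
    have hb' : polar Q a₀ y' = 0 := by rw [← b_map (π (kappa π e x)).2, hk, hky, hb]
    have hb0 : polar Q a₀ y₀ = 0 := by
      rw [hyd, b_add_right, b_smul_right, ha₀.2.1, mul_zero, zero_add] at hb'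
      exact hb'
    have hte : Tot Q a₀ (γ • e) :=
      ⟨hqa, by rw [q_smul, D.pair.qa, mul_zero], by rw [b_smul_right, ha₀.2.1, mul_zero]⟩
    have hna : polar Q e (-a₀) = 0 := by rw [b_neg_right, D.by' ha₀, neg_zero]
    rw [← hk, ← hky, ← kappa_conj D.cov D.chi _ hqa hb', hyd, kappa_add D.cov D.chi hqa hte.ab hb0,
      kappa_swap D.cov D.chi hte, kappa_smul_left D.cov D.chi D.pair.qa hna]
    exact D.inP_mul (D.inP_mul (D.inP_kappa hx) (D.inP_mul (D.inP_kappa (Submodule.smul_mem _ _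
      (Submodule.neg_mem _ ha₀))) (D.inP_nst (Subgroup.mem_sup_left (kappa_mem_Loc ha₀ hy₀ hqa hb0)))))
      (D.inP_inv (D.inP_kappa hx))

/-- Two paths of length two over the same point end in the same coset. -/
theorem Step.indep {d d' h h' : E} (hd : Adj π S e f x₀ 1 d) (hd' : Adj π S e f x₀ 1 d')
    (hh : Adj π S e f x₀ d h) (hh' : Adj π S e f x₀ d' h') {c : F} (hc : c ≠ 0)
    (heq : (π h').1 e = c • (π h).1 e) : InP π S e f (h⁻¹ * h') := by
  have hone : (π (1 : E)).1 e = e := by rw [map_one]; rfl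
  -- the case of opposite middle points
  have adjcase : ∀ {d d' h h' : E}, Adj π S e f x₀ 1 d → Adj π S e f x₀ 1 d' → Adj π S e f x₀ d h →
      Adj π S e f x₀ d' h' → ∀ {c : F}, c ≠ 0 → (π h').1 e = c • (π h).1 e →
      polar Q ((π d).1 e) ((π d').1 e) ≠ 0 → InP π S e f (h⁻¹ * h') := by
    intro d d' h h' hd hd' hh hh' c hc heq hb
    have h1 := D.triangle hd hd' hb
    have h2 := D.adj_opp hh'
    rw [heq, b_smul_right] at h2
    have h3 := D.triangle hh h1 (by rw [b_comm]; exact right_ne_zero_of_mul h2)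
    exact D.adj_unique (D.adj_symm h3) hh' heq
  obtain ⟨h0S, hdS⟩ : (1 : E) ∈ Loc π S ∧ d ∈ Loc π S := ⟨one_mem _, D.adj_mem (one_mem _) hd⟩
  have hhS := D.adj_mem hdS hh
  have hvS : (π h).1 e ∈ S := (Loc_map D.cov D.chi hhS e).1 D.heS
  have hvq : Q ((π h).1 e) = 0 := by rw [(π h).2, D.pair.qa]
  obtain ⟨al, be, a, ha, hdec, hbe, -⟩ := D.coords hvS
  by_cases hbe0 : be ≠ 0
  · have h1 : Adj π S e f x₀ 1 h := by
      refine D.triangle (D.adj_symm hd) hh ?_
      rw [hone, b_comm, ← hbe]; exact hbe0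
    have h2 : Adj π S e f x₀ 1 h' := by
      refine D.triangle (D.adj_symm hd') hh' ?_
      rw [hone, heq, b_smul_right, b_comm, ← hbe]; exact mul_ne_zero hc hbe0
    exact D.adj_unique h1 h2 heq
  push Not at hbe0
  rw [hbe0, zero_smul, add_zero] at hdec
  rcases eq_or_ne a 0 with rfl | ha0
  · rw [add_zero] at hdec
    have e1 := D.adj_unique (D.adj_symm hd) hh (c := al) (by rw [hone]; exact hdec)
    have e2 := D.adj_unique (D.adj_symm hd') hh' (c := c * al) (by rw [hone, heq, hdec, smul_smul])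
    rw [inv_one, one_mul] at e1 e2
    exact D.inP_mul (D.inP_inv e1) e2
  obtain ⟨y, hy, b, hb, e1, hp⟩ := D.adj_point hd
  obtain ⟨y', hy', b', hb', e1', hp'⟩ := D.adj_point hd'
  rw [hone] at *
  rw [show (π (1 : E)).1 (f + y + (-Q y) • e) = f + y + (-Q y) • e by rw [map_one]; rfl] at e1
  rw [show (π (1 : E)).1 (f + y' + (-Q y') • e) = f + y' + (-Q y') • e by rw [map_one]; rfl] at e1'
  have hBd : ∀ (d : E) (y : V) (b : F), y ∈ S ⊓ pp Q e f → (π d).1 e = b • (f + y + (-Q y) • e) →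
      polar Q ((π d).1 e) ((π h).1 e) = b * (al + polar Q y a) := by
    intro d y b hy e1
    rw [e1, hdec, b_smul_left]
    simp only [b_add_left, b_add_right, b_smul_left, b_smul_right, D.pair.b', D.pair.aa, hy.2.1, D.bfy ha,
      D.by' ha]
    ring
  have hqa : Q a = 0 := by
    rw [hdec, q_add, q_smul, b_smul_left, D.pair.qa, D.by' ha] at hvq
    linear_combination hvq
  -- translations
  have trans : ∀ {y' : V} {δ : V} {d d' h h' : E}, δ ∈ S ⊓ pp Q e f → polar Q δ a = 0 →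
      Adj π S e f x₀ 1 d → Adj π S e f x₀ 1 d' → Adj π S e f x₀ d h → Adj π S e f x₀ d' h' →
      ∀ {c b b' : F}, c ≠ 0 → b ≠ 0 → (π h).1 e = al • e + a →
      ∀ {cc : F}, cc ≠ 0 → (π h').1 e = cc • (π h).1 e →
      y' ∈ S ⊓ pp Q e f → (π d).1 e = b • (f + y' + (-Q y') • e) →
      (π d').1 e = b' • (f + (y' + δ) + (-Q (y' + δ)) • e) → InP π S e f (h⁻¹ * h') := by
    intro y₀ δ d d' h h' hδ hδa hd hd' hh hh' c b b' hc hb hv cc hcc hveq hy₀ ed ed'
    obtain ⟨g, hg⟩ : ∃ g, kappa π e δ = g := ⟨_, rfl⟩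
    have hgP : InP π S e f g := hg ▸ D.inP_kappa hδ
    have left : ∀ {p q : E}, Adj π S e f x₀ p q → Adj π S e f x₀ (g * p) (g * q) := by
      rintro p q ⟨z, hz, hp⟩
      refine ⟨z, hz, ?_⟩
      rwa [show (g * p * kappa π e z * Wk π e f x₀)⁻¹ * (g * q) = (p * kappa π e z * Wk π e f x₀)⁻¹ * q by group]
    have hgd : Adj π S e f x₀ 1 (g * d) := by
      refine D.adj_congr ?_ (by rw [inv_mul_cancel]; exact D.inP_one) (left hd)
      rw [mul_one, mul_one]; exact D.inP_inv hgP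
    have hg_e : (π g).1 e = e := by
      rw [← hg, pi_kappa D.cov D.chi D.pair.qa (D.by' hδ), sg_fix_self D.pair.qa (D.by' hδ)]
    have hga : (π g).1 a = a := by
      rw [← hg, pi_kappa D.cov D.chi D.pair.qa (D.by' hδ), sg_move D.pair.qa (D.by' hδ) ha.2.1, b_comm, hδa,
        zero_smul, sub_zero]
    have hgy : (π g).1 (f + y₀ + (-Q y₀) • e) = f + (y₀ + δ) + (-Q (y₀ + δ)) • e := by
      rw [← hg, pi_kappa D.cov D.chi D.pair.qa (D.by' hδ), map_add, map_add, map_smul,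
        sg_move D.pair.qa (D.by' hδ) hy₀.2.1, sg_apply D.pair.qa (D.by' hδ), D.pair.b', D.bfy hδ,
        sg_fix_self D.pair.qa (D.by' hδ), q_add]
      module
    have hgd' : InP π S e f ((g * d)⁻¹ * d') := by
      refine D.adj_unique hgd hd' (c := b' / b) ?_
      rw [map_mul, Subgroup.coe_mul, LinearEquiv.mul_apply, ed, map_smul, hgy, smul_smul,
        div_mul_cancel₀ _ hb, ed']
    have hgh : InP π S e f ((g * h)⁻¹ * h') := by
      refine D.adj_unique (D.adj_congr hgd' (by rw [inv_mul_cancel]; exact D.inP_one) (left hh)) hh' (c := cc) ?_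
      rw [hveq, map_mul, Subgroup.coe_mul, LinearEquiv.mul_apply, hv, map_add, map_smul, hg_e, hga]
    have hfix : InP π S e f (h⁻¹ * g * h) := by
      obtain ⟨h1, hh1⟩ : ∃ h1, (π h).1.symm = h1 := ⟨_, rfl⟩
      have hhm : h ∈ Loc π S := D.adj_mem (D.adj_mem (one_mem _) hd) hh
      have e3 := kappa_conj D.cov D.chi h⁻¹ D.pair.qa (D.by' hδ)
      rw [inv_inv, hg] at e3
      rw [e3]
      have hS' : ∀ x ∈ S, (π h⁻¹).1 x ∈ S := fun x hx => (Loc_map D.cov D.chi (inv_mem hhm) x).1 hx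
      have inv_ap : ∀ x, polar Q ((π h⁻¹).1 x) e = polar Q x ((π h).1 e) := fun x => by
        rw [← b_map (π h).2 ((π h⁻¹).1 x) e, ← LinearEquiv.mul_apply, ← Subgroup.coe_mul, ← map_mul,
          mul_inv_cancel, map_one]
        rfl
      refine D.inP_perp (hS' e D.heS) (hS' δ hδ.1) (by rw [(π h⁻¹).2, D.pair.qa])
        (by rw [b_map (π h⁻¹).2, D.by' hδ]) ?_ ?_
      · rw [inv_ap, hv, b_add_right, b_smul_right, D.pair.aa, D.by' ha]; ring
      · rw [inv_ap, hv, b_add_right, b_smul_right, hδ.2.1, hδa]; ring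
    rw [show h⁻¹ * h' = (h⁻¹ * g * h) * ((g * h)⁻¹ * h') by group]
    exact D.inP_mul hfix hgh
  have hv : (π h).1 e = al • e + a := hdec
  obtain ⟨δ, hδ⟩ : ∃ δ, y' - y = δ := ⟨_, rfl⟩
  have hδm : δ ∈ S ⊓ pp Q e f := hδ ▸ Submodule.sub_mem _ hy' hy
  have hyδ : y + δ = y' := by rw [← hδ, add_sub_cancel]
  by_cases hδa : polar Q δ a = 0
  · exact trans hδm hδa hd hd' hh hh' hc hb hv (b' := b') hc heq hy e1 (by rw [hyδ]; exact e1')
  by_cases hqδ : Q δ = 0
  swap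
  · refine adjcase hd hd' hh hh' hc heq ?_
    rw [e1, e1', b_smul_left, b_smul_right]
    refine mul_ne_zero hb (mul_ne_zero hb' ?_)
    rw [show polar Q (f + y + (-Q y) • e) (f + y' + (-Q y') • e) = -Q δ by
      rw [← hδ, q_sub, b_comm y' y]
      simp only [b_add_left, b_add_right, b_smul_left, b_smul_right, D.pair.b, D.pair.b', D.pair.aa,
        D.pair.symm.aa, D.by' hy', D.bfy hy', hy.2.1, hy.2.2]
      ring]
    exact neg_ne_zero.2 hqδ
  -- an intermediate point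
  obtain ⟨y₂, hy₂d⟩ : ∃ y₂, y' + a = y₂ := ⟨_, rfl⟩
  have hy₂ : y₂ ∈ S ⊓ pp Q e f := hy₂d ▸ Submodule.add_mem _ hy' ha
  have hd₂ := D.adj_intro (g := (1 : E)) hy₂
  rw [one_mul] at hd₂
  have hd₂e := D.kW_apply hy₂
  obtain ⟨c0, hc0⟩ : ∃ c0, c0 = -(Q x₀)⁻¹ := ⟨_, rfl⟩
  rw [← hc0] at hd₂e
  have hc00 : c0 ≠ 0 := by rw [hc0]; exact neg_ne_zero.2 (inv_ne_zero D.qx0)
  have haa : polar Q a a = 0 := by rw [b_self, hqa, mul_zero]
  have hopp : polar Q ((π (kappa π e y₂ * Wk π e f x₀)).1 e) ((π h).1 e) ≠ 0 := by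
    rw [hBd _ y₂ _ hy₂ hd₂e, ← hy₂d, b_add_left, haa, add_zero]
    have h2 := D.adj_opp hh'
    rw [heq, b_smul_right, hBd _ y' _ hy' e1'] at h2
    exact mul_ne_zero hc00 (right_ne_zero_of_mul (right_ne_zero_of_mul h2))
  have hd₂S := D.adj_mem (one_mem _) hd₂
  obtain ⟨z, hz, k, hk⟩ := D.exists_adj hd₂S hvS hvq hopp
  have hh₂ := D.adj_intro (g := kappa π e y₂ * Wk π e f x₀) hz
  obtain ⟨h₂, hh₂d⟩ : ∃ h₂, kappa π e y₂ * Wk π e f x₀ * kappa π e z * Wk π e f x₀ = h₂ := ⟨_, rfl⟩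
  rw [hh₂d] at hh₂ hk
  have hk0 : k ≠ 0 := fun h0 => by
    rw [h0, zero_smul] at hk
    exact D.pair.ne ((π h₂).1.map_eq_zero_iff.1 hk)
  -- from the first point to the intermediate one
  have p1 : InP π S e f (h⁻¹ * h₂) := by
    refine adjcase hd hd₂ hh hh₂ hk0 hk ?_
    rw [e1, hd₂e, b_smul_left, b_smul_right]
    refine mul_ne_zero hb (mul_ne_zero hc00 ?_)
    rw [show polar Q (f + y + (-Q y) • e) (f + y₂ + (-Q y₂) • e) = -Q (δ + a) by
      rw [← hy₂d, ← hδ, q_add, q_add, q_sub, b_sub_left, b_comm y' y]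
      simp only [b_add_left, b_add_right, b_smul_left, b_smul_right, D.pair.b, D.pair.b', D.pair.aa,
        D.pair.symm.aa, D.by' hy', D.bfy hy', D.by' ha, D.bfy ha, hy.2.1, hy.2.2]
      ring,
      q_add, hqδ, hqa, zero_add, zero_add]
    exact neg_ne_zero.2 hδa
  have hv₂ : (π h').1 e = (c / k) • (π h₂).1 e := by
    rw [hk, smul_smul, div_mul_cancel₀ _ hk0, heq]
  -- from the intermediate one to the second
  have p2 : InP π S e f (h₂⁻¹ * h') := by
    have key : InP π S e f (h₂⁻¹ * h') := by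
      obtain ⟨g, hg⟩ : ∃ g, kappa π e (-a) = g := ⟨_, rfl⟩
      have hna : -a ∈ S ⊓ pp Q e f := Submodule.neg_mem _ ha
      have hgP : InP π S e f g := hg ▸ D.inP_kappa hna
      have left : ∀ {p q : E}, Adj π S e f x₀ p q → Adj π S e f x₀ (g * p) (g * q) := by
        rintro p q ⟨w, hw, hp⟩
        refine ⟨w, hw, ?_⟩
        rwa [show (g * p * kappa π e w * Wk π e f x₀)⁻¹ * (g * q) = (p * kappa π e w * Wk π e f x₀)⁻¹ * q by group]
      have hgd : Adj π S e f x₀ 1 (g * (kappa π e y₂ * Wk π e f x₀)) := by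
        refine D.adj_congr ?_ (by rw [inv_mul_cancel]; exact D.inP_one) (left hd₂)
        rw [mul_one, mul_one]; exact D.inP_inv hgP
      have hg_e : (π g).1 e = e := by
        rw [← hg, pi_kappa D.cov D.chi D.pair.qa (D.by' hna), sg_fix_self D.pair.qa (D.by' hna)]
      have hna' : polar Q e (-a) = 0 := D.by' hna
      have hga : (π g).1 a = a := by
        rw [← hg, pi_kappa D.cov D.chi D.pair.qa hna', sg_move D.pair.qa hna' ha.2.1, b_neg_right, haa, neg_zero,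
          zero_smul, sub_zero]
      have hgy : (π g).1 (f + y₂ + (-Q y₂) • e) = f + y' + (-Q y') • e := by
        have hy' : y' = y₂ + -a := by rw [← hy₂d]; abel
        rw [← hg, pi_kappa D.cov D.chi D.pair.qa hna', map_add, map_add, map_smul,
          sg_move D.pair.qa hna' hy₂.2.1, sg_apply D.pair.qa hna', D.pair.b', D.bfy hna,
          sg_fix_self D.pair.qa hna', hy', q_add]
        module
      have hgd' : InP π S e f ((g * (kappa π e y₂ * Wk π e f x₀))⁻¹ * d') := by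
        refine D.adj_unique hgd hd' (c := b' / c0) ?_
        rw [map_mul, Subgroup.coe_mul, LinearEquiv.mul_apply, hd₂e, map_smul, hgy, smul_smul,
          div_mul_cancel₀ _ hc00, e1']
      have hgh : InP π S e f ((g * h₂)⁻¹ * h') := by
        refine D.adj_unique (D.adj_congr hgd' (by rw [inv_mul_cancel]; exact D.inP_one) (left hh₂)) hh' (c := c / k) ?_
        rw [hv₂, map_mul, Subgroup.coe_mul, LinearEquiv.mul_apply, hk, map_smul, hv, map_add, map_smul, hg_e, hga]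
      have hh₂S : h₂ ∈ Loc π S := D.adj_mem hd₂S hh₂
      have hfix : InP π S e f (h₂⁻¹ * g * h₂) := by
        have e3 := kappa_conj D.cov D.chi h₂⁻¹ D.pair.qa hna'
        rw [inv_inv, hg] at e3
        rw [e3]
        have hS' : ∀ x ∈ S, (π h₂⁻¹).1 x ∈ S := fun x hx => (Loc_map D.cov D.chi (inv_mem hh₂S) x).1 hx
        have inv_ap : ∀ x, polar Q ((π h₂⁻¹).1 x) e = polar Q x ((π h₂).1 e) := fun x => by
          rw [← b_map (π h₂).2 ((π h₂⁻¹).1 x) e, ← LinearEquiv.mul_apply, ← Subgroup.coe_mul, ← map_mul,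
            mul_inv_cancel, map_one]
          rfl
        refine D.inP_perp (hS' e D.heS) (hS' _ hna.1) (by rw [(π h₂⁻¹).2, D.pair.qa])
          (by rw [b_map (π h₂⁻¹).2, hna']) ?_ ?_
        · rw [inv_ap, hk, hv, b_smul_right, b_add_right, b_smul_right, D.pair.aa, D.by' ha]; ring
        · rw [inv_ap, hk, hv, b_smul_right, b_add_right, b_smul_right, hna.2.1, b_neg_left, haa]; ring
      rw [show h₂⁻¹ * h' = (h₂⁻¹ * g * h₂) * ((g * h₂)⁻¹ * h') by group]
      exact D.inP_mul hfix hgh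
    exact key
  rw [show h⁻¹ * h' = (h⁻¹ * h₂) * (h₂⁻¹ * h') by group]
  exact D.inP_mul p1 p2

/-- Neighbours of near elements are near. -/
theorem Step.near_adj {g k : E} (hg : g ∈ Loc π S) (H : Near π S e f x₀ g) (hk : Adj π S e f x₀ g k) :
    Near π S e f x₀ k := by
  have hone : (π (1 : E)).1 e = e := by rw [map_one]; rfl
  have fromP : ∀ {g k : E}, InP π S e f g → Adj π S e f x₀ g k → Near π S e f x₀ k := fun {g k} hg hk => by
    refine Or.inr (Or.inl (D.adj_congr ?_ (by rw [inv_mul_cancel]; exact D.inP_one) hk))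
    rw [mul_one]; exact D.inP_inv hg
  rcases H with H | H | ⟨d, hd, hdg⟩
  · exact fromP H hk
  · exact Or.inr (Or.inr ⟨g, H, hk⟩)
  have hvS : (π g).1 e ∈ S := (Loc_map D.cov D.chi hg e).1 D.heS
  have hvq : Q ((π g).1 e) = 0 := by rw [(π g).2, D.pair.qa]
  have hkS := D.adj_mem hg hk
  have hv'S : (π k).1 e ∈ S := (Loc_map D.cov D.chi hkS e).1 D.heS
  have hv'q : Q ((π k).1 e) = 0 := by rw [(π k).2, D.pair.qa]
  obtain ⟨al, be, a, ha, hdec, hbe, -⟩ := D.coords hvS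
  obtain ⟨al', be', a', ha', hdec', hbe', -⟩ := D.coords hv'S
  by_cases hb0 : be ≠ 0
  · refine Or.inr (Or.inr ⟨g, D.triangle (D.adj_symm hd) hdg ?_, hk⟩)
    rw [hone, b_comm, ← hbe]; exact hb0
  push Not at hb0
  rw [hb0, zero_smul, add_zero] at hdec
  rcases eq_or_ne a 0 with rfl | ha0
  · rw [add_zero] at hdec
    have := D.adj_unique (D.adj_symm hd) hdg (c := al) (by rw [hone]; exact hdec)
    rw [inv_one, one_mul] at this
    exact fromP this hk
  have hvv' := D.adj_opp hk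
  by_cases hb' : be' ≠ 0
  · have hopp : polar Q ((π (1 : E)).1 e) ((π k).1 e) ≠ 0 := by rw [hone, b_comm, ← hbe']; exact hb'
    obtain ⟨y, hy, c, hc⟩ := D.exists_adj (one_mem _) hv'S hv'q hopp
    have hk₀ := D.adj_intro (g := (1 : E)) hy
    rw [one_mul] at hk₀ hc
    obtain ⟨k₀, hk₀d⟩ : ∃ k₀, kappa π e y * Wk π e f x₀ = k₀ := ⟨_, rfl⟩
    rw [hk₀d] at hk₀ hc
    have hc0 : c ≠ 0 := fun h0 => D.pair.ne ((π k₀).1.map_eq_zero_iff.1 (by rw [hc, h0, zero_smul]))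
    have hopp2 : polar Q ((π k₀).1 e) ((π g).1 e) ≠ 0 := by
      rw [hc, b_smul_left, b_comm]; exact mul_ne_zero hc0 hvv'
    obtain ⟨z, hz, c', hc'⟩ := D.exists_adj (D.adj_mem (one_mem _) hk₀) hvS hvq hopp2
    have hg₀ := D.adj_intro (g := k₀) hz
    have hc'0 : c' ≠ 0 := fun h0 => D.pair.ne ((π _).1.map_eq_zero_iff.1 (by rw [hc', h0, zero_smul]))
    have hrel := D.indep hk₀ hd hg₀ hdg (c := c'⁻¹) (inv_ne_zero hc'0)
      (by rw [hc', smul_smul, inv_mul_cancel₀ hc'0, one_smul])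
    have h1 : Adj π S e f x₀ g k₀ :=
      D.adj_symm (D.adj_congr (by rw [inv_mul_cancel]; exact D.inP_one) hrel hg₀)
    refine Or.inr (Or.inl (D.adj_congr (by rw [inv_mul_cancel]; exact D.inP_one) ?_ hk₀))
    exact D.adj_unique h1 hk (c := c⁻¹) (by rw [hc, smul_smul, inv_mul_cancel₀ hc0, one_smul])
  push Not at hb'
  rw [hb', zero_smul, add_zero] at hdec'
  have hB : polar Q a a' ≠ 0 := by
    rw [hdec, hdec'] at hvv'
    simp only [b_add_left, b_add_right, b_smul_left, b_smul_right, D.pair.aa, D.by' ha', ha.2.1, mul_zero,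
      zero_add, add_zero] at hvv'
    exact hvv'
  have hqa : Q a = 0 := by
    rw [hdec, q_add, q_smul, b_smul_left, D.pair.qa, D.by' ha] at hvq
    linear_combination hvq
  have hqa' : Q a' = 0 := by
    rw [hdec', q_add, q_smul, b_smul_left, D.pair.qa, D.by' ha'] at hv'q
    linear_combination hv'q
  obtain ⟨x, hx, hxd⟩ : ∃ x ∈ S ⊓ pp Q e f,
      x = ((1 - al) / polar Q a a') • a' + ((1 - al') / polar Q a a') • a :=
    ⟨_, Submodule.add_mem _ (Submodule.smul_mem _ _ ha') (Submodule.smul_mem _ _ ha), rfl⟩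
  have haa : polar Q a a = 0 := by rw [b_self, hqa, mul_zero]
  have ha'a' : polar Q a' a' = 0 := by rw [b_self, hqa', mul_zero]
  have hxa : al + polar Q x a = 1 := by
    rw [hxd, b_add_left, b_smul_left, b_smul_left, haa, b_comm a' a]; field_simp; ring
  have hxa' : al' + polar Q x a' = 1 := by
    rw [hxd, b_add_left, b_smul_left, b_smul_left, ha'a']; field_simp; ring
  have hd₂ := D.adj_intro (g := (1 : E)) hx
  rw [one_mul] at hd₂
  obtain ⟨d₂, hd₂d⟩ : ∃ d₂, kappa π e x * Wk π e f x₀ = d₂ := ⟨_, rfl⟩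
  have hd₂e : (π d₂).1 e = (-(Q x₀)⁻¹) • (f + x + (-Q x) • e) := by rw [← hd₂d, D.kW_apply hx]
  rw [hd₂d] at hd₂
  have hopp2 : polar Q ((π d₂).1 e) ((π g).1 e) ≠ 0 := by
    rw [hd₂e, hdec, b_smul_left]
    simp only [b_add_left, b_add_right, b_smul_left, b_smul_right, D.pair.b', D.pair.aa, hx.2.1, D.bfy ha, D.by' ha]
    refine mul_ne_zero (neg_ne_zero.2 (inv_ne_zero D.qx0)) ?_
    intro h0
    exact one_ne_zero (by linear_combination h0 - hxa)
  have hopp3 : polar Q ((π d₂).1 e) ((π k).1 e) ≠ 0 := by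
    rw [hd₂e, hdec', b_smul_left]
    simp only [b_add_left, b_add_right, b_smul_left, b_smul_right, D.pair.b', D.pair.aa, hx.2.1, D.bfy ha', D.by' ha']
    refine mul_ne_zero (neg_ne_zero.2 (inv_ne_zero D.qx0)) ?_
    intro h0
    exact one_ne_zero (by linear_combination h0 - hxa')
  obtain ⟨z, hz, c', hc'⟩ := D.exists_adj (D.adj_mem (one_mem _) hd₂) hvS hvq hopp2
  have hg₂ := D.adj_intro (g := d₂) hz
  have hc'0 : c' ≠ 0 := fun h0 => D.pair.ne ((π _).1.map_eq_zero_iff.1 (by rw [hc', h0, zero_smul]))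
  have hrel := D.indep hd₂ hd hg₂ hdg (c := c'⁻¹) (inv_ne_zero hc'0)
    (by rw [hc', smul_smul, inv_mul_cancel₀ hc'0, one_smul])
  have h1 : Adj π S e f x₀ g d₂ :=
    D.adj_symm (D.adj_congr (by rw [inv_mul_cancel]; exact D.inP_one) hrel hg₂)
  exact Or.inr (Or.inr ⟨d₂, hd₂, D.triangle h1 hk hopp3⟩)

/-- The group generated by the translations and the Weyl element. -/
theorem Step.loc_eq {g : E} (hg : g ∈ Loc π S) :
    g ∈ Subgroup.closure ({k | ∃ y ∈ S ⊓ pp Q e f, k = kappa π e y} ∪ {Wk π e f x₀}) := by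
  obtain ⟨G0, hG0⟩ : ∃ G0, G0 = Subgroup.closure ({k | ∃ y ∈ S ⊓ pp Q e f, k = kappa π e y} ∪ {Wk π e f x₀}) :=
    ⟨_, rfl⟩
  rw [← hG0]
  have hk : ∀ y ∈ S ⊓ pp Q e f, kappa π e y ∈ G0 := fun y hy =>
    hG0 ▸ Subgroup.subset_closure (Or.inl ⟨y, hy, rfl⟩)
  have hW : Wk π e f x₀ ∈ G0 := hG0 ▸ Subgroup.subset_closure (Or.inr rfl)
  have hG0S : G0 ≤ Loc π S := hG0 ▸ (Subgroup.closure_le _).2 (by
    rintro k (⟨y, hy, rfl⟩ | rfl)
    exacts [D.kappa_mem hy, D.Wk_mem D.x0])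
  have hA := good_inf D.good D.pair D.heS D.hfS
  refine (Subgroup.closure_le G0).2 ?_ hg
  rintro _ ⟨a, y, haS, hyS, hqa, hay, rfl⟩
  rcases eq_or_ne a 0 with rfl | ha0
  · obtain ⟨l, hl, hsum⟩ := exists_sum D.cov D.chi (a := (0 : V)) (map_zero Q) hay
    rw [← hsum, ← kappa_list D.cov D.chi (map_zero Q) l hl]
    have : ∀ l : List V, (l.map (r π (0 : V))).prod = 1 := fun l => by
      induction l with
      | nil => rfl
      | cons z l ih => rw [List.map_cons, List.prod_cons, ih, r_zero_left, one_mul]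
    rw [this]; exact one_mem _
  obtain ⟨g, hgG, c, hc⟩ : ∃ g ∈ G0, ∃ c : F, (π g).1 e = c • a := by
    obtain ⟨al, be, a₀, ha₀, hdec, hbe, -⟩ := D.coords haS
    by_cases hb : be ≠ 0
    · obtain ⟨z, hz, c, hc⟩ := D.exists_adj (one_mem _) haS hqa (by
        rw [map_one]; show polar Q e a ≠ 0; rw [b_comm, ← hbe]; exact hb)
      rw [one_mul] at hc
      exact ⟨_, mul_mem (hk z hz) hW, c, hc⟩
    push Not at hb
    rw [hb, zero_smul, add_zero] at hdec
    rcases eq_or_ne a₀ 0 with rfl | ha₀0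
    · rw [add_zero] at hdec
      have hal : al ≠ 0 := fun h0 => ha0 (by rw [hdec, h0, zero_smul])
      exact ⟨1, one_mem _, al⁻¹, by rw [map_one, hdec, smul_smul, inv_mul_cancel₀ hal, one_smul]; rfl⟩
    obtain ⟨x, hx, hxb⟩ := exists_dual hA ha₀ ha₀0 (1 - al)
    have hopp : polar Q ((π (kappa π e x * Wk π e f x₀)).1 e) a ≠ 0 := by
      rw [D.kW_apply hx, hdec, b_smul_left]
      simp only [b_add_left, b_add_right, b_smul_left, b_smul_right, D.pair.b', D.pair.aa, hx.2.1, D.bfy ha₀,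
        D.by' ha₀, b_comm x a₀, hxb]
      refine mul_ne_zero (neg_ne_zero.2 (inv_ne_zero D.qx0)) ?_
      intro h0
      exact one_ne_zero (by linear_combination h0)
    have h2 : kappa π e x * Wk π e f x₀ ∈ G0 := mul_mem (hk x hx) hW
    obtain ⟨z, hz, c, hc⟩ := D.exists_adj (hG0S h2) haS hqa hopp
    exact ⟨_, mul_mem (mul_mem h2 (hk z hz)) hW, c, hc⟩
  have hc0 : c ≠ 0 := fun h0 => D.pair.ne ((π g).1.map_eq_zero_iff.1 (by rw [hc, h0, zero_smul]))
  obtain ⟨y', hy'd⟩ : ∃ y', (π g).1.symm y = y' := ⟨_, rfl⟩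
  have hgy : (π g).1 y' = y := by rw [← hy'd, LinearEquiv.apply_symm_apply]
  have hy'S : y' ∈ S := (Loc_map D.cov D.chi (hG0S hgG) y').2 (hgy ▸ hyS)
  obtain ⟨γ, δ, y₀, hy₀, hyd, hδ, -⟩ := D.coords hy'S
  have hey : polar Q e y' = 0 := by
    rw [← b_map (π g).2, hc, hgy, b_smul_left, hay, mul_zero]
  rw [b_comm, hey] at hδ
  rw [hδ, zero_smul, add_zero] at hyd
  have ha : a = (π g).1 (c⁻¹ • e) := by rw [map_smul, hc, smul_smul, inv_mul_cancel₀ hc0, one_smul]
  have hce : polar Q (c⁻¹ • e) y' = 0 := by rw [b_smul_left, hey, mul_zero]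
  rw [ha, ← hgy, ← kappa_conj D.cov D.chi g (by rw [q_smul, D.pair.qa, mul_zero]) hce,
    kappa_smul_left D.cov D.chi D.pair.qa hey, hyd, smul_add, smul_smul,
    kappa_add D.cov D.chi D.pair.qa (by rw [b_smul_right, D.pair.aa, mul_zero])
      (by rw [b_smul_right, D.by' hy₀, mul_zero]),
    kappa_self D.cov D.chi D.pair.qa, one_mul]
  exact mul_mem (mul_mem hgG (hk _ (Submodule.smul_mem _ _ hy₀))) (inv_mem hgG)

/-- Every element of the subspace group is near the base. -/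
theorem Step.near_all {g : E} (hg : g ∈ Loc π S) : Near π S e f x₀ g := by
  have hg0 := D.loc_eq hg
  have hmem : ∀ k ∈ Subgroup.closure ({k | ∃ y ∈ S ⊓ pp Q e f, k = kappa π e y} ∪ {Wk π e f x₀}),
      k ∈ Loc π S := fun k hk => (Subgroup.closure_le _).2 (by
        rintro k (⟨y, hy, rfl⟩ | rfl)
        exacts [D.kappa_mem hy, D.Wk_mem D.x0]) hk
  have congr : ∀ {g g' : E}, InP π S e f (g⁻¹ * g') → Near π S e f x₀ g → Near π S e f x₀ g' := by
    intro g g' hp H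
    rcases H with H | H | ⟨d, hd, hdg⟩
    · have := D.inP_mul H hp
      rw [mul_inv_cancel_left] at this
      exact Or.inl this
    · exact Or.inr (Or.inl (D.adj_congr (by rw [inv_mul_cancel]; exact D.inP_one) hp H))
    · exact Or.inr (Or.inr ⟨d, hd, D.adj_congr (by rw [inv_mul_cancel]; exact D.inP_one) hp hdg⟩)
  induction hg0 using Subgroup.closure_induction_right with
  | one => exact Or.inl D.inP_one
  | mul_right p hp q hq ih =>
    have := ih (hmem p hp)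
    rcases hq with ⟨y, hy, rfl⟩ | rfl
    · exact congr (by rw [inv_mul_cancel_left]; exact D.inP_kappa hy) this
    · have h1 := D.adj_intro (g := p) (Submodule.zero_mem (S ⊓ pp Q e f))
      rw [kappa_zero D.cov D.chi D.pair.qa, mul_one] at h1
      exact D.near_adj (hmem p hp) this h1
  | mul_inv_cancel p hp q hq ih =>
    have := ih (hmem p hp)
    rcases hq with ⟨y, hy, rfl⟩ | rfl
    · exact congr (by rw [inv_mul_cancel_left]; exact D.inP_inv (D.inP_kappa hy)) this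
    · have h1 := D.adj_intro (g := p) (Submodule.zero_mem (S ⊓ pp Q e f))
      rw [kappa_zero D.cov D.chi D.pair.qa, mul_one] at h1
      refine D.near_adj (hmem p hp) this (D.adj_congr (by rw [inv_mul_cancel]; exact D.inP_one) ?_ h1)
      rw [show (p * Wk π e f x₀)⁻¹ * (p * (Wk π e f x₀)⁻¹) = (Wk π e f x₀ * Wk π e f x₀)⁻¹ by group]
      exact D.inP_inv (D.inP_nst D.Wk0_sq)

/-- Kernel elements fix both points. -/
theorem Step.kernel_mem {k : E} (hk : k ∈ Loc π S) (hk1 : π k = 1) : k ∈ Nst π S e f := by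
  have hone : (π (1 : E)).1 e = e := by rw [map_one]; rfl
  have hke : (π k).1 e = e := by rw [hk1]; rfl
  have hP : InP π S e f k := by
    rcases D.near_all hk with H | H | ⟨d, hd, hdk⟩
    · exact H
    · have h2 := D.adj_opp H
      rw [hone, hke, D.pair.aa] at h2
      exact absurd rfl h2
    · have := D.adj_unique (D.adj_symm hd) hdk (c := 1) (by rw [hone, hke, one_smul])
      rwa [inv_one, one_mul] at this
  obtain ⟨y, hy, n, hn, rfl⟩ := hP
  obtain ⟨-, ⟨c, hc, hnf⟩, -⟩ := D.nst_spec hn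
  have hkf : (π (kappa π e y * n)).1 f = f := by rw [hk1]; rfl
  rw [map_mul, Subgroup.coe_mul, LinearEquiv.mul_apply, hnf, map_smul,
    pi_kappa D.cov D.chi D.pair.qa (D.by' hy), sg_apply D.pair.qa (D.by' hy), D.pair.b', D.bfy hy] at hkf
  have h1 : c = 1 := by
    have := congrArg (polar Q e) hkf
    simpa [b_smul_right, b_add_right, b_sub_right, D.pair.b, D.by' hy, D.pair.aa] using this
  rw [h1, one_smul, one_smul, zero_add, mul_one] at hkf
  have hy0 : y = 0 := by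
    have h3 : y = Q y • e := by
      have h4 := congrArg (fun v => v - f + Q y • e) hkf
      simp only [sub_self, zero_add] at h4
      rw [← h4]; abel
    have := hy.2.2
    rw [h3, b_smul_left, D.pair.b, mul_one] at this
    rw [h3, this, zero_smul]
  rw [hy0, kappa_zero D.cov D.chi D.pair.qa, one_mul]
  exact hn

/-- The shape of the elements fixing both points. -/
theorem Step.nst_shape {u v : V} (hu : u ∈ S ⊓ pp Q e f) (hv : v ∈ S ⊓ pp Q e f) (huv : Pair Q u v)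
    {n : E} (hn : n ∈ Nst π S e f) :
    ∃ l ∈ Loc π (S ⊓ pp Q e f), ∃ s t : F, s ≠ 0 ∧ t ≠ 0 ∧ n = l * (hL π e f u v s * hL π e f v u t) := by
  have hA := good_inf D.good D.pair D.heS D.hfS
  have h : Quad Q e f u v := Quad.of_mem D.pair huv hu.2 hv.2
  have hq2 : Quad Q e f v u := ⟨h.pa, h.pb.symm, h.ab', h.ab, h.a'b', h.a'b⟩
  obtain ⟨hmul, hww, -⟩ := hL_props D.cov D.chi h
  obtain ⟨hmul', hww', -⟩ := hL_props D.cov D.chi hq2
  obtain ⟨one1, one2⟩ := (⟨hL_one D.cov D.chi h, hL_one D.cov D.chi hq2⟩ :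
    hL π e f u v 1 = 1 ∧ hL π e f v u 1 = 1)
  have hcomm : ∀ s t : F, Commute (hL π e f u v s) (hL π e f v u t) := fun s t =>
    ((wL_pair D.cov D.chi h s t).mul_left (wL_pair D.cov D.chi h _ t)).mul_right
      ((wL_pair D.cov D.chi h s _).mul_left (wL_pair D.cov D.chi h _ _))
  have maps : ∀ s t : F, s ≠ 0 → t ≠ 0 → ∀ x ∈ S ⊓ pp Q e f,
      (π (hL π e f u v s * hL π e f v u t)).1 x ∈ S ⊓ pp Q e f := by
    intro s t hs ht x hx
    obtain ⟨a1, a2, a3, a4, a5⟩ := hL_apply D.cov D.chi h hs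
    obtain ⟨b1, b2, b3, b4, b5⟩ := hL_apply D.cov D.chi hq2 ht
    obtain ⟨w, hw, hwd⟩ : ∃ w ∈ (S ⊓ pp Q e f) ⊓ pp Q u v, x - polar Q x v • u - polar Q x u • v = w :=
      ⟨_, proj_mem' huv hu hv hx, rfl⟩
    have hx' : x = polar Q x v • u + polar Q x u • v + w := by rw [← hwd]; abel
    rw [map_mul, Subgroup.coe_mul, LinearEquiv.mul_apply, hx']
    simp only [map_add, map_smul, b4, b2, a2, a4, b5 w hw.1.2.1 hw.1.2.2 hw.2.2 hw.2.1,
      a5 w hw.1.2.1 hw.1.2.2 hw.2.1 hw.2.2]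
    exact Submodule.add_mem _ (Submodule.add_mem _ (Submodule.smul_mem _ _ (Submodule.smul_mem _ _
      (Submodule.smul_mem _ _ hu))) (Submodule.smul_mem _ _ (Submodule.smul_mem _ _ (Submodule.smul_mem _ _ hv)))) hw.1
  let T : Subgroup E :=
    { carrier := {n | ∃ l ∈ Loc π (S ⊓ pp Q e f), ∃ s t : F, s ≠ 0 ∧ t ≠ 0 ∧
        n = l * (hL π e f u v s * hL π e f v u t)}
      one_mem' := ⟨1, one_mem _, 1, 1, one_ne_zero, one_ne_zero, by rw [one1, one2, mul_one, mul_one]⟩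
      mul_mem' := by
        rintro _ _ ⟨l, hl, s, t, hs, ht, rfl⟩ ⟨l', hl', s', t', hs', ht', rfl⟩
        refine ⟨l * ((hL π e f u v s * hL π e f v u t) * l' * (hL π e f u v s * hL π e f v u t)⁻¹),
          mul_mem hl (Loc_conj D.cov D.chi _ (maps s t hs ht) hl'), s * s', t * t', mul_ne_zero hs hs',
          mul_ne_zero ht ht', ?_⟩
        rw [hmul s s' hs hs', hmul' t t' ht ht',
          show hL π e f u v s * hL π e f u v s' * (hL π e f v u t * hL π e f v u t') =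
            hL π e f u v s * (hL π e f u v s' * hL π e f v u t) * hL π e f v u t' by group, (hcomm s' t).eq]
        group
      inv_mem' := by
        rintro _ ⟨l, hl, s, t, hs, ht, rfl⟩
        have hinv : (hL π e f u v s * hL π e f v u t)⁻¹ = hL π e f u v s⁻¹ * hL π e f v u t⁻¹ := by
          have i1 : (hL π e f u v s)⁻¹ = hL π e f u v s⁻¹ :=
            inv_eq_of_mul_eq_one_right (by rw [← hmul s s⁻¹ hs (inv_ne_zero hs), mul_inv_cancel₀ hs, one1])
          have i2 : (hL π e f v u t)⁻¹ = hL π e f v u t⁻¹ :=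
            inv_eq_of_mul_eq_one_right (by rw [← hmul' t t⁻¹ ht (inv_ne_zero ht), mul_inv_cancel₀ ht, one2])
          rw [_root_.mul_inv_rev, i1, i2, (hcomm _ _).eq]
        refine ⟨(hL π e f u v s * hL π e f v u t)⁻¹ * l⁻¹ * (hL π e f u v s * hL π e f v u t), ?_, s⁻¹, t⁻¹,
          inv_ne_zero hs, inv_ne_zero ht, ?_⟩
        · have := Loc_conj D.cov D.chi (hL π e f u v s * hL π e f v u t)⁻¹ (S := S ⊓ pp Q e f) (T := S ⊓ pp Q e f)
            (by rw [hinv]; exact maps _ _ (inv_ne_zero hs) (inv_ne_zero ht)) (inv_mem hl)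
          rwa [inv_inv] at this
        · rw [← hinv]; group }
  have hmove : ∀ x ∈ S ⊓ pp Q e f, Q x ≠ 0 → ∃ l ∈ Loc π (S ⊓ pp Q e f), ∃ p q : F, p ≠ 0 ∧ q ≠ 0 ∧
      Wk π e f x = l⁻¹ * (wL π e f u v p * wL π e f v u q) * l := by
    intro x hx hq
    obtain ⟨l, hl, p, q, hpq⟩ := exists_move D.cov D.chi hA huv hu hv hx (fun h0 => hq (by rw [h0, map_zero]))
    have hpq0 : p * q = Q x := by
      rw [← (π l).2 x, hpq, q_add, q_smul, q_smul, huv.qa, huv.qa', b_smul_left, b_smul_right, huv.b]; ring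
    have hp : p ≠ 0 := fun h0 => hq (by rw [← hpq0, h0, zero_mul])
    have hq' : q ≠ 0 := fun h0 => hq (by rw [← hpq0, h0, mul_zero])
    refine ⟨l, hl, p, q, hp, hq', ?_⟩
    have fe : (π l).1 e = e := Loc_fix D.cov D.chi hl fun y hy => D.by' hy
    have ff : (π l).1 f = f := Loc_fix D.cov D.chi hl fun y hy => D.bfy hy
    have := Wk_conj D.cov D.chi l D.pair hx.2
    rw [fe, ff, hpq, Wk_split D.cov D.chi h hp hq'] at this
    rw [← this]; group
  have hle : Nst π S e f ≤ T := by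
    refine sup_le (fun l hl => ⟨l, hl, 1, 1, one_ne_zero, one_ne_zero, by rw [one1, one2, mul_one, mul_one]⟩)
      ((Subgroup.closure_le _).2 ?_)
    rintro _ ⟨x, y, hx, hy, hqx, hqy, rfl⟩
    obtain ⟨l₁, hl₁, p, q, hp, hq, ex⟩ := hmove x hx hqx
    obtain ⟨l₂, hl₂, p', q', hp', hq', ey⟩ := hmove y hy hqy
    have hLT : ∀ l ∈ Loc π (S ⊓ pp Q e f), l ∈ T := fun l hl =>
      ⟨l, hl, 1, 1, one_ne_zero, one_ne_zero, by rw [one1, one2, mul_one, mul_one]⟩
    have hmapW : ∀ x' ∈ S ⊓ pp Q e f, (π (wL π e f u v p * wL π e f v u q)).1 x' ∈ S ⊓ pp Q e f := by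
      intro x' hx'
      rw [← Wk_split D.cov D.chi h hp hq]
      exact D.Wk_maps (Submodule.add_mem _ (Submodule.smul_mem _ _ hu) (Submodule.smul_mem _ _ hv))
        (by rw [q_add, q_smul, q_smul, huv.qa, huv.qa', b_smul_left, b_smul_right, huv.b]
            simpa using mul_ne_zero hp hq) x' hx'
    have hw : (wL π e f u v p * wL π e f v u q) * (wL π e f u v p' * wL π e f v u q') =
        hL π e f u v (-(p / p')) * hL π e f v u (-(q / q')) := by
      rw [show (wL π e f u v p * wL π e f v u q) * (wL π e f u v p' * wL π e f v u q') =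
        wL π e f u v p * (wL π e f v u q * wL π e f u v p') * wL π e f v u q' by group,
        ← (wL_pair D.cov D.chi h p' q).eq, ← hww p p' hp hp', ← hww' q q' hq hq']
      group
    rw [ex, ey, show l₁⁻¹ * (wL π e f u v p * wL π e f v u q) * l₁ *
      (l₂⁻¹ * (wL π e f u v p' * wL π e f v u q') * l₂) =
      l₁⁻¹ * ((wL π e f u v p * wL π e f v u q) * (l₁ * l₂⁻¹) * (wL π e f u v p * wL π e f v u q)⁻¹) *
        ((wL π e f u v p * wL π e f v u q) * (wL π e f u v p' * wL π e f v u q')) * l₂ by group, hw]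
    refine mul_mem (mul_mem ?_ ?_) (hLT l₂ hl₂)
    · exact hLT _ (mul_mem (inv_mem hl₁) (Loc_conj D.cov D.chi _ hmapW (mul_mem hl₁ (inv_mem hl₂))))
    · exact ⟨1, one_mem _, _, _, neg_ne_zero.2 (div_ne_zero hp hp'), neg_ne_zero.2 (div_ne_zero hq hq'),
        (one_mul _).symm⟩
  exact hle hn

/-- The conclusion of one step. -/
theorem Step.kernel_shape {u v : V} (hu : u ∈ S ⊓ pp Q e f) (hv : v ∈ S ⊓ pp Q e f) (huv : Pair Q u v)
    {k : E} (hk : k ∈ Loc π S) (hk1 : π k = 1) :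
    ∃ l ∈ Loc π (S ⊓ pp Q e f), ∃ s : F, s ≠ 0 ∧ k = l * (hL π e f u v s * hL π e f v u s⁻¹) := by
  obtain ⟨l, hl, s, t, hs, ht, rfl⟩ := D.nst_shape hu hv huv (D.kernel_mem hk hk1)
  have h : Quad Q e f u v := Quad.of_mem D.pair huv hu.2 hv.2
  have hq2 : Quad Q e f v u := ⟨h.pa, h.pb.symm, h.ab', h.ab, h.a'b', h.a'b⟩
  have hst : s * t = 1 := by
    have e1 : (π (l * (hL π e f u v s * hL π e f v u t))).1 e = e := by rw [hk1]; rfl
    rw [map_mul, map_mul, Subgroup.coe_mul, Subgroup.coe_mul, LinearEquiv.mul_apply, LinearEquiv.mul_apply,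
      (hL_apply D.cov D.chi hq2 ht).1, map_smul, (hL_apply D.cov D.chi h hs).1, smul_smul, map_smul,
      Loc_fix D.cov D.chi hl fun y hy => D.by' hy] at e1
    have h2 := congrArg (polar Q f) e1
    rw [b_smul_right, D.pair.b'] at h2
    linear_combination h2
  exact ⟨l, hl, s, hs, by rw [eq_inv_of_mul_eq_one_right hst]⟩

end Cfsg.Agent.OmegaMult
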