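import Cfsg.Agent.Lib.OmegaMult.Projective
import Cfsg.Agent.Lib.Classical.TwoGenOrth.Std

/-!
The Schur multipliers of the projective Omega groups of the standard forms.
-/

set_option autoImplicit false
set_option linter.unusedSectionVars false
set_option linter.unusedSimpArgs false
set_option linter.unusedVariables false
set_option linter.style.haveILetI false
set_option maxHeartbeats 1000000

namespace Cfsg.Agent.OmegaMult

open QuadraticMap Module Cfsg.Agent.Orth Cfsg.Agent.TwoGenOrth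
open scoped commutatorElement

variable {F : Type*} [Field F] [Fintype F]

theorem mod_four {q : ℕ} (hq : Odd q) (l : ℕ) :
    (Even l → q ^ l % 4 = 1) ∧ (Odd l → q ^ l % 4 = q % 4) ∧ (q % 4 = 1 ∨ q % 4 = 3) := by
  have h4 : q % 4 = 1 ∨ q % 4 = 3 := by have := Nat.odd_iff.1 hq; omega
  refine ⟨fun hl => ?_, fun hl => ?_, h4⟩
  · obtain ⟨k, rfl⟩ := hl
    rw [← two_mul, pow_mul, Nat.pow_mod]
    rcases h4 with h | h <;> simp [Nat.pow_mod, h]
  · obtain ⟨k, rfl⟩ := hl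
    rw [pow_succ, pow_mul, Nat.mul_mod, Nat.pow_mod]
    rcases h4 with h | h <;> simp [Nat.pow_mod, h]

theorem gcd_two {n : ℕ} (h : n % 2 = 0) : Nat.gcd 2 n = 2 := by
  rw [Nat.gcd_rec, h, Nat.gcd_zero_left]

theorem gcd_four {n : ℕ} (h : n % 4 = 0) : Nat.gcd 4 n = 4 := by
  rw [Nat.gcd_rec, h, Nat.gcd_zero_left]

theorem gcd_four_two {n : ℕ} (h : n % 4 = 2) : Nat.gcd 4 n = 2 := by rw [Nat.gcd_rec, h]; decide

theorem gcd_pow_two {n : ℕ} (h : n % 2 = 1) : Nat.gcd 4 n = 1 ∧ Nat.gcd 2 n = 1 := by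
  refine ⟨?_, by rw [Nat.gcd_rec, h]; decide⟩
  rw [Nat.gcd_rec]
  rcases (show n % 4 = 1 ∨ n % 4 = 3 by omega) with h' | h' <;> rw [h'] <;> decide

theorem card_odd_or_even : ((2 : F) = 0 ∧ Even (Fintype.card F)) ∨ ((2 : F) ≠ 0 ∧ Odd (Fintype.card F)) := by
  rcases Nat.even_or_odd (Fintype.card F) with h | h
  · refine Or.inl ⟨?_, h⟩
    haveI : CharP F 2 := ringChar.of_eq (FiniteField.even_card_iff_char_two.2 (Nat.even_iff.1 h))
    exact CharTwo.two_eq_zero
  · exact Or.inr ⟨Orth.two_ne_zero_of_odd h, h⟩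

theorem case_of_large {ι : Type} [Fintype ι] {Q : QuadraticForm F (ι → F)} (h : 9 ≤ Fintype.card ι) : Case Q :=
  Or.inr ⟨by rw [Module.finrank_fintype_fun_eq_card]; omega,
    Or.inl (by rw [Module.finrank_fintype_fun_eq_card]; omega)⟩

/-! ### Odd dimension -/

theorem mult_odd (hodd : Odd (Fintype.card F)) (m : ℕ) (hm : 3 ≤ m) (hexc : ¬ (m = 3 ∧ Fintype.card F = 3)) :
    Cfsg.HasCyclicSchurMultiplier (Cfsg.POmega F (Cfsg.quadFormOdd m F)) 2 := by
  rw [← coe_qOdd]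
  have h2 := Orth.two_ne_zero_of_odd hodd
  have hQ := qOdd_nondeg h2 m
  have hι : Fintype.card (Unit ⊕ (Fin m ⊕ Fin m)) = 2 * m + 1 := by simp; omega
  have hn : 7 ≤ Fintype.card (Unit ⊕ (Fin m ⊕ Fin m)) := by omega
  have hcase : Case (qOdd F m) := by
    by_cases h : m = 3
    · refine Or.inl ?_
      have h1 : Fintype.card F ≠ 3 := fun h3 => hexc ⟨h, h3⟩
      have := Fintype.one_lt_card (α := F)
      rcases hodd with ⟨k, hk⟩
      omega
    · exact case_of_large (by omega)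
  obtain ⟨hπ, hz, hfin⟩ := spin_props hQ hn h2 hcase
  exact pomega_two hπ hcase hz hn h2 (card_center_one hQ hn (Or.inr ⟨m, hι⟩))

/-! ### Plus type -/

section Plus

variable (F) (l : ℕ)

theorem case_plus (hl : 4 ≤ l) (hexc : ¬ (l = 4 ∧ Fintype.card F = 2)) : Case (qPlus F l) := by
  by_cases h : l = 4
  · rcases card_odd_or_even (F := F) with ⟨-, he⟩ | ⟨h2, -⟩
    · refine Or.inl ?_
      have h1 : Fintype.card F ≠ 2 := fun h2 => hexc ⟨h, h2⟩
      have := Fintype.one_lt_card (α := F)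
      rcases he with ⟨k, hk⟩
      omega
    · exact Or.inr ⟨by rw [Module.finrank_fintype_fun_eq_card]; simp [h], Or.inr (Or.inl h2)⟩
  · exact case_of_large (by simp; omega)

theorem plus_hyp : Hyp (qPlus F l) l (fun i => plusPad l (eStd F l (Fin 0) i))
    (fun i => plusPad l (fStd F l (Fin 0) i)) :=
  hyp_std (QW := (0 : QuadraticForm F (Fin 0 → F))) (plusPad_spec l)

theorem plus_inW (v : Fin l ⊕ Fin l → F) (hv : InW (qPlus F l) l (fun i => plusPad l (eStd F l (Fin 0) i))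
    (fun i => plusPad l (fStd F l (Fin 0) i)) v) : v = 0 := by
  obtain ⟨v, rfl⟩ := (plusPad l).surjective v
  rw [map_eq_zero_iff _ (plusPad l).injective]
  funext x
  rcases x with x | k
  · exact (inW_iff (QW := (0 : QuadraticForm F (Fin 0 → F))) (plusPad_spec l)).1 hv x
  · exact k.elim0

theorem mult_plus_even_char (hl : 4 ≤ l) (hexc : ¬ (l = 4 ∧ Fintype.card F = 2)) (h2 : (2 : F) = 0) :
    Cfsg.HasCyclicSchurMultiplier (Cfsg.POmega F (Cfsg.quadFormPlus l F)) 1 := by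
  rw [← coe_qPlus]
  exact pomega_even (qPlus_nondeg l) (by simp; omega) h2 (case_plus F l hl hexc)

theorem mult_plus_klein (hl : 4 ≤ l) (heven : Even l) (hodd : Odd (Fintype.card F)) :
    Cfsg.HasSchurMultiplier (Cfsg.POmega F (Cfsg.quadFormPlus l F)) (Multiplicative (ZMod 2 × ZMod 2)) := by
  rw [← coe_qPlus]
  have h2 := Orth.two_ne_zero_of_odd hodd
  have hQ := qPlus_nondeg (F := F) l
  have hn : 7 ≤ Fintype.card (Fin l ⊕ Fin l) := by simp; omega
  have hcase := case_plus F l hl fun h => by rw [h.2] at hodd; exact Nat.not_odd_iff_even.2 even_two hodd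
  obtain ⟨hπ, hz, hfin⟩ := spin_props hQ hn h2 hcase
  obtain ⟨k, hk⟩ := heven
  have hk' : l = 2 * k := by omega
  obtain ⟨s1, -, -, s4⟩ := negPairs_spec hπ (chi_of hπ hcase) (plus_hyp F l) k hk'.ge
  refine pomega_four_klein hπ hcase hz hn h2 (neg_of_hyp _ (plus_hyp F l) (fun j hj => s1 j (by omega))
    fun w hw => by rw [plus_inW F l w hw, map_zero, neg_zero]) s4

theorem mult_plus_two (hl : 4 ≤ l) (hodd : Odd (Fintype.card F)) (hmod : Fintype.card F ^ l % 4 = 3) :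
    Cfsg.HasCyclicSchurMultiplier (Cfsg.POmega F (Cfsg.quadFormPlus l F)) 2 := by
  rw [← coe_qPlus]
  have h2 := Orth.two_ne_zero_of_odd hodd
  have hQ := qPlus_nondeg (F := F) l
  have hn : 7 ≤ Fintype.card (Fin l ⊕ Fin l) := by simp; omega
  have hcase := case_plus F l hl fun h => by rw [h.2] at hodd; exact Nat.not_odd_iff_even.2 even_two hodd
  obtain ⟨hπ, hz, hfin⟩ := spin_props hQ hn h2 hcase
  refine pomega_two hπ hcase hz hn h2 ((card_center_two hQ hn h2).2 fun h => ?_)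
  rw [(neg_one_plus hodd l (by omega))] at h
  omega

theorem mult_plus_four (hl : 4 ≤ l) (hlo : Odd l) (hodd : Odd (Fintype.card F))
    (hmod : Fintype.card F % 4 = 1) :
    Cfsg.HasCyclicSchurMultiplier (Cfsg.POmega F (Cfsg.quadFormPlus l F)) 4 := by
  rw [← coe_qPlus]
  have h2 := Orth.two_ne_zero_of_odd hodd
  have hQ := qPlus_nondeg (F := F) l
  have hn : 7 ≤ Fintype.card (Fin l ⊕ Fin l) := by simp; omega
  have hcase := case_plus F l hl fun h => by rw [h.2] at hodd; exact Nat.not_odd_iff_even.2 even_two hodd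
  obtain ⟨hπ, hz, hfin⟩ := spin_props hQ hn h2 hcase
  revert hπ hz hfin
  generalize spinProj (qPlus F l) = π
  intro hπ hz hfin
  have hchi := chi_of hπ hcase
  obtain ⟨k, hk⟩ := hlo
  obtain ⟨i, hi⟩ : IsSquare (-1 : F) := FiniteField.isSquare_neg_one_iff.2 (by omega)
  have H := plus_hyp F l
  obtain ⟨e, he⟩ : ∃ e, (fun i => plusPad l (eStd F l (Fin 0) i)) = e := ⟨_, rfl⟩
  obtain ⟨f, hf⟩ : ∃ f, (fun i => plusPad l (fStd F l (Fin 0) i)) = f := ⟨_, rfl⟩
  rw [he, hf] at H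
  have H' : Hyp (qPlus F l) (2 * k) (fun j => e (j + 1)) (fun j => f (j + 1)) :=
    ⟨fun a ha => H.qe _ (by omega), fun a ha => H.qf _ (by omega), fun a ha c hc => H.ee _ (by omega) _ (by omega),
      fun a ha c hc => H.ff _ (by omega) _ (by omega), fun a ha c hc => by
        rw [H.ef _ (by omega) _ (by omega)]; exact if_congr (by omega) rfl rfl⟩
  have q01 : Quad (qPlus F l) (e 0) (f 0) (e 1) (f 1) := hyp_quad H (by omega) (by omega) (by omega)
  obtain ⟨t1, t2, t3, t4, t5, t6⟩ := itorus hπ hchi q01 hi.symm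
  obtain ⟨T, hT⟩ : ∃ T, hL π (e 0) (f 0) (e 1) (f 1) i *
      hL π (e 0) (f 0) (f 1) (e 1) i = T := ⟨_, rfl⟩
  rw [hT] at t1 t2 t3 t4 t5 t6
  obtain ⟨s1, s2, s3, s4⟩ := negPairs_spec hπ hchi H' k le_rfl
  have hTfix : ∀ j, 1 ≤ j → j < l → (π T).1 (e j) = e j ∧ (π T).1 (f j) = f j := by
    intro j hj hjl
    rcases Nat.lt_or_ge j 2 with h | h
    · obtain rfl : j = 1 := by omega
      exact ⟨t3, t4⟩
    · refine ⟨t5 _ (H.ee j hjl 0 (by omega)) ?_ (H.ee j hjl 1 (by omega)) ?_,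
        t5 _ ?_ (H.ff j hjl 0 (by omega)) ?_ (H.ff j hjl 1 (by omega))⟩
      · rw [H.ef j hjl 0 (by omega), if_neg (by omega)]
      · rw [H.ef j hjl 1 (by omega), if_neg (by omega)]
      · rw [b_comm, H.ef 0 (by omega) j hjl, if_neg (by omega)]
      · rw [b_comm, H.ef 1 (by omega) j hjl, if_neg (by omega)]
  refine pomega_four_cyclic hπ hcase hz hn h2
    (z := T * negPairs π (fun j => e (j + 1)) (fun j => f (j + 1)) k)
    (neg_of_hyp _ H (fun j hj => ?_) fun w hw => ?_) ?_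
  · simp only [map_mul, Subgroup.coe_mul, LinearEquiv.mul_apply]
    rcases Nat.eq_zero_or_pos j with rfl | hpos
    · rw [s2 (e 0) fun a ha => ⟨H.ee 0 (by omega) _ (by omega),
          by rw [H.ef 0 (by omega) _ (by omega), if_neg (by omega)]⟩,
        s2 (f 0) fun a ha => ⟨by rw [b_comm, H.ef _ (by omega) 0 (by omega), if_neg (by omega)],
          H.ff 0 (by omega) _ (by omega)⟩]
      exact ⟨t1, t2⟩
    · obtain ⟨a, rfl⟩ : ∃ a, j = a + 1 := ⟨j - 1, by omega⟩
      obtain ⟨p1, p2⟩ := s1 a (by omega)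
      obtain ⟨r1, r2⟩ := hTfix (a + 1) hpos hj
      exact ⟨by rw [p1, map_neg, r1], by rw [p2, map_neg, r2]⟩
  · rw [← he, ← hf] at hw
    rw [plus_inW F l w hw, map_zero, neg_zero]
  · have hc := s3 T fun j hj => hTfix (j + 1) (by omega) (by omega)
    rw [hc.symm.mul_mul_mul_comm, s4, mul_one, t6]
    exact zeta_ne_one hπ hcase hz q01

end Plus

/-! ### Minus type -/

section Minus

variable (F) (j : ℕ) (a b : F) (hab : ∀ z₁ z₂ : F, z₁ ^ 2 + a * z₁ * z₂ + b * z₂ ^ 2 = 0 → z₁ = 0 ∧ z₂ = 0)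
include hab

theorem minus_hyp : Hyp (qMinus F j a b) j (fun i => LinearEquiv.refl F _ (eStd F j (Fin 2) i))
    (fun i => LinearEquiv.refl F _ (fStd F j (Fin 2) i)) :=
  hyp_std (QW := qBin F a b) fun v => rfl

theorem case_minus (hj : 3 ≤ j) : Case (qMinus F j a b) := by
  by_cases h : j = 3
  · subst h
    refine Or.inr ⟨by rw [Module.finrank_fintype_fun_eq_card]; simp, Or.inr (Or.inr ?_)⟩
    refine noFour_of (qMinus_nondeg hab 3) (by rw [Module.finrank_fintype_fun_eq_card]; simp) (minus_hyp F 3 a b hab)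
      fun w hw hq => ?_
    obtain ⟨v, rfl⟩ : ∃ v, LinearEquiv.refl F ((Fin 3 ⊕ Fin 3) ⊕ Fin 2 → F) v = w := ⟨w, rfl⟩
    have hv := (inW_iff (QW := qBin F a b) (φ := LinearEquiv.refl F _) fun v => rfl).1 hw
    have hcore : qBin F a b (fun i => v (.inr i)) = 0 := by
      have h := hq
      rw [qMinus, LinearEquiv.refl_apply, qPad_apply] at h
      simpa [hv, Function.comp_def] using h
    funext x
    rcases x with x | x
    · exact hv x
    · exact congrFun (qBin_aniso hab hcore) x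
  · exact case_of_large (by simp; omega)

theorem mult_minus_even_char (hj : 3 ≤ j) (h2 : (2 : F) = 0) :
    Cfsg.HasCyclicSchurMultiplier (Cfsg.POmega F (Cfsg.quadFormMinus j F a b)) 1 := by
  rw [← coe_qMinus]
  exact pomega_even (qMinus_nondeg hab j) (by simp; omega) h2 (case_minus F j a b hab hj)

theorem mult_minus_two (hj : 3 ≤ j) (hodd : Odd (Fintype.card F)) (hmod : Fintype.card F ^ (j + 1) % 4 = 1) :
    Cfsg.HasCyclicSchurMultiplier (Cfsg.POmega F (Cfsg.quadFormMinus j F a b)) 2 := by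
  rw [← coe_qMinus]
  have h2 := Orth.two_ne_zero_of_odd hodd
  have hQ := qMinus_nondeg hab j
  have hn : 7 ≤ Fintype.card ((Fin j ⊕ Fin j) ⊕ Fin 2) := by simp; omega
  have hcase := case_minus F j a b hab hj
  obtain ⟨hπ, hz, hfin⟩ := spin_props hQ hn h2 hcase
  refine pomega_two hπ hcase hz hn h2 ((card_center_two hQ hn h2).2 fun h => ?_)
  rw [(neg_one_minus hodd j hab)] at h
  omega

theorem mult_minus_four (hj : 3 ≤ j) (hje : Even j) (hodd : Odd (Fintype.card F))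
    (hmod : Fintype.card F % 4 = 3) :
    Cfsg.HasCyclicSchurMultiplier (Cfsg.POmega F (Cfsg.quadFormMinus j F a b)) 4 := by
  rw [← coe_qMinus]
  have h2 := Orth.two_ne_zero_of_odd hodd
  have hQ := qMinus_nondeg hab j
  have hn : 7 ≤ Fintype.card ((Fin j ⊕ Fin j) ⊕ Fin 2) := by simp; omega
  have hcase := case_minus F j a b hab hj
  obtain ⟨hπ, hz, hfin⟩ := spin_props hQ hn h2 hcase
  revert hπ hz hfin
  generalize spinProj (qMinus F j a b) = π
  intro hπ hz hfin
  have hchi := chi_of hπ hcase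
  obtain ⟨k, hk⟩ := hje
  have H := minus_hyp F j a b hab
  have hφ : ∀ v, qMinus F j a b (LinearEquiv.refl F _ v) = qPad F j (qBin F a b) v := fun v => rfl
  -- two orthogonal core vectors of norm one
  have hneg : ¬ IsSquare (-1 : F) := fun h => FiniteField.isSquare_neg_one_iff.1 h hmod
  obtain ⟨s, hs⟩ : ∃ s : F, s * s = -(a ^ 2 - 4 * b) := by
    have hd : ¬ IsSquare (a ^ 2 - 4 * b) := by
      rintro ⟨s, hs⟩
      refine one_ne_zero (hab ((-a + s) / 2) 1 ?_).2
      field_simp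
      linear_combination -hs
    obtain ⟨s, hs⟩ := (isSquare_mul_nonsquare h2 (x := -1) (d := a ^ 2 - 4 * b) (by simp) (disc_ne hab) hd).2 hneg
    exact ⟨s, by linear_combination -hs⟩
  have hs0 : s ≠ 0 := fun h => disc_ne hab (by rw [h] at hs; linear_combination hs)
  obtain ⟨z₁, hz₁⟩ : ∃ z₁ : Fin 2 → F, z₁ = ![1, 0] := ⟨_, rfl⟩
  obtain ⟨z₂, hz₂⟩ : ∃ z₂ : Fin 2 → F, z₂ = s⁻¹ • ![a, -2] := ⟨_, rfl⟩
  obtain ⟨x, hx⟩ : ∃ x, LinearEquiv.refl F _ (Sum.elim (0 : Fin j ⊕ Fin j → F) z₁) = x := ⟨_, rfl⟩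
  obtain ⟨y, hy⟩ : ∃ y, LinearEquiv.refl F _ (Sum.elim (0 : Fin j ⊕ Fin j → F) z₂) = y := ⟨_, rfl⟩
  obtain ⟨e, he⟩ : ∃ e, (fun i => LinearEquiv.refl F _ (eStd F j (Fin 2) i)) = e := ⟨_, rfl⟩
  obtain ⟨f, hf⟩ : ∃ f, (fun i => LinearEquiv.refl F _ (fStd F j (Fin 2) i)) = f := ⟨_, rfl⟩
  rw [he, hf] at H
  have xW : InW (qMinus F j a b) j e f x := he ▸ hf ▸ hx ▸ inW_core hφ z₁
  have yW : InW (qMinus F j a b) j e f y := he ▸ hf ▸ hy ▸ inW_core hφ z₂
  have qx : qMinus F j a b x = 1 := by rw [← hx, q_core hφ, hz₁, qBin_apply]; simp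
  have qy : qMinus F j a b y = 1 := by
    rw [← hy, q_core hφ, hz₂, q_smul, qBin_apply]
    simp only [Matrix.cons_val_zero, Matrix.cons_val_one, Matrix.cons_val_fin_one]
    field_simp
    linear_combination -hs
  have bxy : polar (qMinus F j a b) x y = 0 := by
    rw [← hx, ← hy, polar_core hφ, hz₁, hz₂, b_smul_right, polar_qBin]
    simp; ring_nf; simp
  have q01 : Quad (qMinus F j a b) (e 0) (f 0) (e 1) (f 1) := hyp_quad H (by omega) (by omega) (by omega)
  obtain ⟨t1, t2, t3, t4, t5, t6⟩ := wtorus hπ hchi q01 (x := x) (y := y) (xW 0 (by omega)) (yW 0 (by omega))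
    (by rw [qx]; exact one_ne_zero) (by rw [qx, qy]) bxy
  obtain ⟨T, hT⟩ : ∃ T, Wk π (e 0) (f 0) x * Wk π (e 0) (f 0) y = T :=
    ⟨_, rfl⟩
  rw [hT] at t1 t2 t3 t4 t5 t6
  obtain ⟨s1, s2, s3, s4⟩ := negPairs_spec hπ hchi H k (by omega)
  have hTfix : ∀ i < j, (π T).1 (e i) = e i ∧ (π T).1 (f i) = f i := by
    intro i hi
    rcases Nat.eq_zero_or_pos i with rfl | hpos
    · exact ⟨t1, t2⟩
    · refine ⟨t5 _ ⟨H.ee i hi 0 (by omega), by rw [H.ef i hi 0 (by omega), if_neg (by omega)]⟩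
          (by rw [b_comm]; exact (xW i hi).1) (by rw [b_comm]; exact (yW i hi).1),
        t5 _ ⟨by rw [b_comm, H.ef 0 (by omega) i hi, if_neg (by omega)], H.ff i hi 0 (by omega)⟩
          (by rw [b_comm]; exact (xW i hi).2) (by rw [b_comm]; exact (yW i hi).2)⟩
  refine pomega_four_cyclic hπ hcase hz hn h2 (z := T * negPairs π e f k)
    (neg_of_hyp _ H (fun i hi => ?_) fun w hw => ?_) ?_
  · simp only [map_mul, Subgroup.coe_mul, LinearEquiv.mul_apply]
    obtain ⟨p1, p2⟩ := s1 i (by omega)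
    rw [p1, p2, map_neg, map_neg, (hTfix i hi).1, (hTfix i hi).2]
    exact ⟨rfl, rfl⟩
  · simp only [map_mul, Subgroup.coe_mul, LinearEquiv.mul_apply]
    rw [s2 w fun i hi => hw i (by omega)]
    have hspan : ∀ v : Fin 2 → F, ∃ p r : F, v = p • z₁ + r • z₂ := fun v =>
      ⟨v 0 + v 1 * a / 2, -(s * v 1) / 2, funext fun i => by
        fin_cases i <;> simp [hz₁, hz₂] <;> field_simp <;> ring⟩
    obtain ⟨p, r, rfl⟩ := span_core hφ hspan (by rw [he, hf]; exact hw)
    rw [hx, hy, map_add, map_smul, map_smul, t3, t4]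
    module
  · have hc := s3 T fun i hi => hTfix i (by omega)
    rw [hc.symm.mul_mul_mul_comm, s4, mul_one, t6]
    exact zeta_ne_one hπ hcase hz q01

end Minus

end Cfsg.Agent.OmegaMult
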