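import Cfsg.Agent.Lib.Classical.TwoGenOrth.Basic
import Cfsg.Agent.Lib.Orthogonal.Perp
import Cfsg.Agent.Lib.Orthogonal.Simple

/-!
Non-degenerate subspaces cut down by hyperbolic pairs, and identities between Siegel elements.
-/

set_option autoImplicit false
set_option linter.unusedSectionVars false
set_option linter.unusedSimpArgs false

namespace Cfsg.Agent.OmegaMult

open QuadraticMap Module Cfsg.Agent.Orth Cfsg.Agent.TwoGenOrth
open scoped commutatorElement

variable {F V : Type*} [Field F] [AddCommGroup V] [Module F V] {Q : QuadraticForm F V}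

/-- A hyperbolic pair. -/
structure Pair (Q : QuadraticForm F V) (a a' : V) : Prop where
  qa : Q a = 0
  qa' : Q a' = 0
  b : polar Q a a' = 1

theorem Pair.symm {a a' : V} (h : Pair Q a a') : Pair Q a' a := ⟨h.qa', h.qa, by rw [b_comm, h.b]⟩

theorem Pair.b' {a a' : V} (h : Pair Q a a') : polar Q a' a = 1 := h.symm.b

theorem Pair.aa {a a' : V} (h : Pair Q a a') : polar Q a a = 0 := by rw [b_self, h.qa, mul_zero]

theorem Pair.ne {a a' : V} (h : Pair Q a a') : a ≠ 0 := fun h0 => by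
  have := h.b
  rw [h0, b_zero_left] at this
  exact zero_ne_one this

theorem Pair.map {a a' : V} (h : Pair Q a a') (g : oGroup Q) : Pair Q (g.1 a) (g.1 a') :=
  ⟨by rw [g.2, h.qa], by rw [g.2, h.qa'], by rw [b_map g.2, h.b]⟩

variable (Q) in
/-- The vectors orthogonal to two vectors. -/
def pp (a a' : V) : Submodule F V where
  carrier := {x | polar Q x a = 0 ∧ polar Q x a' = 0}
  zero_mem' := ⟨b_zero_left a, b_zero_left a'⟩
  add_mem' {x y} hx hy := ⟨by rw [b_add_left, hx.1, hy.1, add_zero], by rw [b_add_left, hx.2, hy.2, add_zero]⟩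
  smul_mem' c x hx := ⟨by rw [b_smul_left, hx.1, mul_zero], by rw [b_smul_left, hx.2, mul_zero]⟩

theorem mem_pp {a a' x : V} : x ∈ pp Q a a' ↔ polar Q x a = 0 ∧ polar Q x a' = 0 := Iff.rfl

theorem pp_comm (a a' : V) : pp Q a a' = pp Q a' a := by
  ext x; simp only [mem_pp, and_comm]

variable (Q) in
/-- A subspace on which the polar form is non-degenerate. -/
def Good (S : Submodule F V) : Prop := ∀ x ∈ S, x ≠ 0 → ∃ y ∈ S, polar Q x y ≠ 0

theorem good_top (hQ : (polarBilin Q).Nondegenerate) : Good Q ⊤ := fun x _ hx => by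
  by_contra h
  push Not at h
  exact hx (eq_zero_of_b hQ fun y => h y Submodule.mem_top)

/-- Projection to the complement of a hyperbolic pair. -/
theorem proj_mem {a a' : V} (h : Pair Q a a') (y : V) :
    y - polar Q y a' • a - polar Q y a • a' ∈ pp Q a a' := by
  constructor
  · rw [b_sub_left, b_sub_left, b_smul_left, b_smul_left, h.aa, h.b']; ring
  · rw [b_sub_left, b_sub_left, b_smul_left, b_smul_left, h.b, h.symm.aa]; ring

theorem proj_mem' {S : Submodule F V} {a a' y : V} (h : Pair Q a a') (ha : a ∈ S) (ha' : a' ∈ S)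
    (hy : y ∈ S) : y - polar Q y a' • a - polar Q y a • a' ∈ S ⊓ pp Q a a' :=
  ⟨S.sub_mem (S.sub_mem hy (S.smul_mem _ ha)) (S.smul_mem _ ha'), proj_mem h y⟩

theorem good_inf {S : Submodule F V} (hS : Good Q S) {a a' : V} (h : Pair Q a a') (ha : a ∈ S)
    (ha' : a' ∈ S) : Good Q (S ⊓ pp Q a a') := by
  rintro x ⟨hx, hx1, hx2⟩ hx0
  obtain ⟨y, hy, hxy⟩ := hS x hx hx0
  refine ⟨_, proj_mem' h ha ha' hy, ?_⟩
  rw [b_sub_right, b_sub_right, b_smul_right, b_smul_right, hx1, hx2, mul_zero, mul_zero, sub_zero, sub_zero]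
  exact hxy

theorem exists_dual {S : Submodule F V} (hS : Good Q S) {x : V} (hx : x ∈ S) (hx0 : x ≠ 0) (c : F) :
    ∃ y ∈ S, polar Q x y = c := by
  obtain ⟨y, hy, hxy⟩ := hS x hx hx0
  exact ⟨(c / polar Q x y) • y, S.smul_mem _ hy, by rw [b_smul_right, div_mul_cancel₀ _ hxy]⟩

theorem exists_one {S : Submodule F V} (hS : Good Q S) (hne : S ≠ ⊥) :
    ∃ w₀ ∈ S, ∃ w₁ ∈ S, polar Q w₀ w₁ = 1 := by
  obtain ⟨x, hx, hx0⟩ := Submodule.exists_mem_ne_zero_of_ne_bot hne
  obtain ⟨y, hy, hxy⟩ := exists_dual hS hx hx0 1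
  exact ⟨x, hx, y, hy, hxy⟩

theorem exists_pair_of {S : Submodule F V} (hS : Good Q S) {a : V} (ha : a ∈ S) (ha0 : a ≠ 0)
    (hq : Q a = 0) : ∃ a' ∈ S, Pair Q a a' := by
  obtain ⟨y, hy, hay⟩ := exists_dual hS ha ha0 1
  refine ⟨y - Q y • a, S.sub_mem hy (S.smul_mem _ ha), hq, ?_, ?_⟩
  · rw [q_sub, q_smul, b_smul_right, hq, b_comm y a, hay]; ring
  · rw [b_sub_right, b_smul_right, b_self, hq, hay]; ring

section Finite

variable [FiniteDimensional F V]

/-- A partner orthogonal to a subspace of vectors orthogonal to the given one. -/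
theorem exists_pair_avoid {S T : Submodule F V} (hS : Good Q S) (hT : T ≤ S) {a : V} (ha : a ∈ S)
    (haT : a ∉ T) (hq : Q a = 0) (hTa : ∀ t ∈ T, polar Q t a = 0) :
    ∃ a' ∈ S, Pair Q a a' ∧ ∀ t ∈ T, polar Q t a' = 0 := by
  have hR := nondeg_restr (Q := Q) (R := S) fun x hx h => by
    by_contra hx0
    obtain ⟨y, hy, hxy⟩ := hS x hx hx0
    exact hxy (h y hy)
  obtain ⟨y, hy, hay⟩ := exists_orth_not hR (S := T.comap S.subtype) (u := (⟨a, ha⟩ : S)) haT 1
  have hay' : polar Q a (y : V) = 1 := hay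
  refine ⟨(y : V) - Q (y : V) • a, S.sub_mem y.2 (S.smul_mem _ ha), ⟨hq, ?_, ?_⟩, fun t ht => ?_⟩
  · rw [q_sub, q_smul, b_smul_right, hq, b_comm (y : V) a, hay']; ring
  · rw [b_sub_right, b_smul_right, b_self, hq, hay']; ring
  · rw [b_sub_right, b_smul_right, hTa t ht, mul_zero, sub_zero]
    exact hy ⟨t, hT ht⟩ ht

theorem finrank_inf_pp (S : Submodule F V) (a a' : V) :
    finrank F S ≤ finrank F (S ⊓ pp Q a a' : Submodule F V) + 2 := by
  obtain ⟨φ, hφ⟩ : ∃ φ : S →ₗ[F] F × F, φ =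
      (((polarBilin Q).flip a).prod ((polarBilin Q).flip a')).comp S.subtype := ⟨_, rfl⟩
  have hker : (LinearMap.ker φ).map S.subtype ≤ S ⊓ pp Q a a' := by
    rintro _ ⟨x, hx, rfl⟩
    rw [SetLike.mem_coe, LinearMap.mem_ker, hφ] at hx
    exact ⟨x.2, congrArg Prod.fst hx, congrArg Prod.snd hx⟩
  have h1 := φ.finrank_range_add_finrank_ker
  have h2 := (LinearMap.range φ).finrank_le
  have h3 := Submodule.finrank_mono hker
  rw [Submodule.finrank_map_subtype_eq] at h3
  rw [Module.finrank_prod, Module.finrank_self] at h2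
  omega

theorem exists_pair [Finite F] {S : Submodule F V} (hS : Good Q S) (hn : 3 ≤ finrank F S) :
    ∃ a ∈ S, ∃ a' ∈ S, Pair Q a a' := by
  obtain ⟨e, he0, he⟩ := exists_singular (nondeg_restr (Q := Q) (R := S) fun x hx h => by
    by_contra hx0
    obtain ⟨y, hy, hxy⟩ := hS x hx hx0
    exact hxy (h y hy)) hn
  obtain ⟨a', ha', h⟩ := exists_pair_of hS e.2 (fun h0 => he0 (Subtype.ext h0)) he
  exact ⟨e, e.2, a', ha', h⟩

theorem ne_bot_of_finrank {S : Submodule F V} (h : 1 ≤ finrank F S) : S ≠ ⊥ := fun h0 => by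
  rw [h0, finrank_bot] at h
  exact Nat.not_succ_le_zero _ h

end Finite

/-! ### Siegel elements -/

theorem b_neg_right (x y : V) : polar Q x (-y) = -polar Q x y := by
  rw [← neg_one_smul F, b_smul_right, neg_one_mul]

theorem b_neg_left (x y : V) : polar Q (-x) y = -polar Q x y := by
  rw [b_comm, b_neg_right, b_comm]

theorem sg_zero_left (y : V) : sg Q (0 : V) y = 1 := by
  refine Subtype.ext (LinearEquiv.ext fun x => ?_)
  rw [sg_apply (map_zero Q) (b_zero_left y), b_zero_right]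
  simp

theorem sg_fix_self {u y : V} (hu : Q u = 0) (hy : polar Q u y = 0) : (sg Q u y).1 u = u :=
  sg_fix hu hy (by rw [b_self, hu, mul_zero]) hy

theorem sg_add_self {u y : V} (c : F) (hu : Q u = 0) (hy : polar Q u y = 0) :
    sg Q u (y + c • u) = sg Q u y := by
  rw [sg_add hu hy (by rw [b_smul_right, b_self, hu, mul_zero, mul_zero]), sg_self hu, mul_one]

theorem sg_fix_perp {u y x : V} {a : V} (hu : Q u = 0) (hy : polar Q u y = 0) (h1 : polar Q a u = 0)
    (h2 : polar Q a y = 0) (hx : x = a) : (sg Q u y).1 x = x := by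
  subst hx; exact sg_fix hu hy h1 h2

/-- A vector orthogonal to the direction moves along the centre only. -/
theorem sg_move {u y x : V} (hu : Q u = 0) (hy : polar Q u y = 0) (h : polar Q x u = 0) :
    (sg Q u y).1 x = x - polar Q x y • u := by
  rw [sg_apply hu hy, h, zero_smul, add_zero, mul_zero, add_zero]

theorem sg_conj_eq {g : oGroup Q} {u y u' y' : V} (hu : Q u = 0) (hy : polar Q u y = 0)
    (h1 : g.1 u = u') (h2 : g.1 y = y') : g * sg Q u y * g⁻¹ = sg Q u' y' := by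
  rw [sg_conj g hu hy, h1, h2]

theorem sg_commute_of_fix {g : oGroup Q} {u y : V} (hu : Q u = 0) (hy : polar Q u y = 0)
    (h1 : g.1 u = u) (h2 : g.1 y = y) : g * sg Q u y = sg Q u y * g := by
  rw [← mul_inv_eq_iff_eq_mul, sg_conj_eq hu hy h1 h2]

/-- The commutator of Siegel elements at two orthogonal centres. -/
theorem sg_comm {a b v w : V} (ha : Q a = 0) (hb : Q b = 0) (hab : polar Q a b = 0)
    (hva : polar Q v a = 0) (hvb : polar Q v b = 0) (hwa : polar Q w a = 0) (hwb : polar Q w b = 0) :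
    ⁅sg Q a v, sg Q b w⁆ = sg Q a (polar Q v w • b) := by
  have hav : polar Q a v = 0 := by rw [b_comm, hva]
  have hbw : polar Q b w = 0 := by rw [b_comm, hwb]
  have hbv : polar Q b v = 0 := by rw [b_comm, hvb]
  have hba : polar Q b a = 0 := by rw [b_comm, hab]
  have h1 : (sg Q a v).1 b = b := sg_fix ha hav hba hbv
  have h2 : (sg Q a v).1 w = w + (-polar Q v w) • a := by
    rw [sg_move ha hav hwa, b_comm w v, sub_eq_add_neg, neg_smul]
  rw [commutatorElement_def, sg_conj_eq hb hbw h1 h2, sg_add hb hbw (by rw [b_smul_right, hba, mul_zero]),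
    ← sg_neg hb hbw, ← sg_add hb hbw (by rw [b_smul_right, hba, mul_zero]),
    ← sg_add hb (by rw [b_add_right, b_smul_right, hba, hbw, mul_zero, add_zero])
      (by rw [b_neg_right, hbw, neg_zero]),
    show w + -polar Q v w • a + -w = -(polar Q v w • a) by module,
    sg_swap ha (y := polar Q v w • b) (by rw [q_smul, hb, mul_zero]) (by rw [b_smul_right, hab, mul_zero]),
    sg_scale _ hb (by rw [b_neg_right, hba, neg_zero]), smul_neg]

/-- The product representing the Weyl element of the root of a totally singular pair. -/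
noncomputable def wS (Q : QuadraticForm F V) (a a' b b' : V) (t : F) : oGroup Q :=
  sg Q a (t • b) * sg Q a' (t⁻¹ • b') * sg Q a (t • b)

/-- Two orthogonal hyperbolic pairs. -/
structure Quad (Q : QuadraticForm F V) (a a' b b' : V) : Prop where
  pa : Pair Q a a'
  pb : Pair Q b b'
  ab : polar Q a b = 0
  ab' : polar Q a b' = 0
  a'b : polar Q a' b = 0
  a'b' : polar Q a' b' = 0

theorem Quad.of_mem {a a' b b' : V} (ha : Pair Q a a') (hb : Pair Q b b') (h1 : b ∈ pp Q a a')
    (h2 : b' ∈ pp Q a a') : Quad Q a a' b b' :=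
  ⟨ha, hb, by rw [b_comm, h1.1], by rw [b_comm, h2.1], by rw [b_comm, h1.2], by rw [b_comm, h2.2]⟩

theorem Quad.swap {a a' b b' : V} (h : Quad Q a a' b b') : Quad Q b b' a a' :=
  ⟨h.pb, h.pa, by rw [b_comm, h.ab], by rw [b_comm, h.a'b], by rw [b_comm, h.ab'], by rw [b_comm, h.a'b']⟩

theorem Quad.map {a a' b b' : V} (h : Quad Q a a' b b') (g : oGroup Q) :
    Quad Q (g.1 a) (g.1 a') (g.1 b) (g.1 b') :=
  ⟨h.pa.map g, h.pb.map g, by rw [b_map g.2, h.ab], by rw [b_map g.2, h.ab'], by rw [b_map g.2, h.a'b],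
    by rw [b_map g.2, h.a'b']⟩

variable {a a' b b' : V}

theorem wS_apply (h : Quad Q a a' b b') {t : F} (ht : t ≠ 0) :
    (wS Q a a' b b' t).1 a = t⁻¹ • b' ∧ (wS Q a a' b b' t).1 b = -(t⁻¹ • a') ∧
      (wS Q a a' b b' t).1 a' = t • b ∧ (wS Q a a' b b' t).1 b' = -(t • a) ∧
      ∀ x, polar Q x a = 0 → polar Q x a' = 0 → polar Q x b = 0 → polar Q x b' = 0 →
        (wS Q a a' b b' t).1 x = x := by
  have hx : polar Q a (t • b) = 0 := by rw [b_smul_right, h.ab, mul_zero]
  have hy : polar Q a' (t⁻¹ • b') = 0 := by rw [b_smul_right, h.a'b', mul_zero]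
  have qb : Q (t • b) = 0 := by rw [q_smul, h.pb.qa, mul_zero]
  have qb' : Q (t⁻¹ • b') = 0 := by rw [q_smul, h.pb.qa', mul_zero]
  have ba : polar Q b a = 0 := by rw [b_comm, h.ab]
  have ba' : polar Q b a' = 0 := by rw [b_comm, h.a'b]
  have b'a : polar Q b' a = 0 := by rw [b_comm, h.ab']
  have b'a' : polar Q b' a' = 0 := by rw [b_comm, h.a'b']
  have aa := h.pa.aa
  have a'a' := h.pa.symm.aa
  have bb := h.pb.aa
  have b'b' := h.pb.symm.aa
  simp only [wS, Subgroup.coe_mul, LinearEquiv.mul_apply]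
  refine ⟨?_, ?_, ?_, ?_, fun x x1 x2 x3 x4 => ?_⟩
  iterate 4
    simp only [sg_apply h.pa.qa hx, sg_apply h.pa.qa' hy, qb, qb', map_add, map_sub, map_smul, b_add_left,
      b_sub_left, b_smul_left, b_smul_right, aa, a'a', bb, b'b', ba, ba', b'a, b'a', h.ab, h.ab', h.a'b,
      h.a'b', h.pa.b, h.pa.b', h.pb.b, h.pb.b', mul_zero, zero_mul, mul_one, one_mul, add_zero, zero_add,
      sub_zero]
    match_scalars <;> field_simp <;> ring
  rw [sg_fix h.pa.qa hx x1 (by rw [b_smul_right, x3, mul_zero]),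
    sg_fix h.pa.qa' hy x2 (by rw [b_smul_right, x4, mul_zero]),
    sg_fix h.pa.qa hx x1 (by rw [b_smul_right, x3, mul_zero])]

/-- Siegel elements lie in the commutator subgroup. -/
theorem sg_mem [FiniteDimensional F V] [Fintype F] (hQ : (polarBilin Q).Nondegenerate)
    (hn : 5 ≤ finrank F V) {u y : V} (hu : Q u = 0) (hy : polar Q u y = 0) :
    sg Q u y ∈ commutator (oGroup Q) :=
  siegelGroup_le hQ hn (siegel_mem hQ hn hu hy (sg_spec hu hy))

theorem wS_mem [FiniteDimensional F V] [Fintype F] (hQ : (polarBilin Q).Nondegenerate)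
    (hn : 5 ≤ finrank F V) (h : Quad Q a a' b b') (t : F) :
    wS Q a a' b b' t ∈ commutator (oGroup Q) := by
  have hx : polar Q a (t • b) = 0 := by rw [b_smul_right, h.ab, mul_zero]
  have hy : polar Q a' (t⁻¹ • b') = 0 := by rw [b_smul_right, h.a'b', mul_zero]
  exact mul_mem (mul_mem (sg_mem hQ hn h.pa.qa hx) (sg_mem hQ hn h.pa.qa' hy)) (sg_mem hQ hn h.pa.qa hx)

end Cfsg.Agent.OmegaMult
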