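import Cfsg.Agent.Lib.OmegaMult.Root

/-!
Equivariant homomorphic lifts of all Siegel elements at a centre.
-/

set_option autoImplicit false
set_option linter.unusedSectionVars false
set_option linter.unusedSimpArgs false
set_option linter.unusedVariables false
set_option linter.style.haveILetI false

namespace Cfsg.Agent.OmegaMult

open QuadraticMap Module Cfsg.Agent.Orth Cfsg.Agent.TwoGenOrth
open scoped commutatorElement

variable {F V : Type*} [Field F] [AddCommGroup V] [Module F V] {Q : QuadraticForm F V}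

section Extension

variable {A : Type*} [AddCommGroup A] (φ : V → A) (a : V)
  (hφ : ∀ x y, Tot Q a x → Tot Q a y → polar Q x y = 0 → φ (x + y) = φ x + φ y)

/-- The value forced on a vector orthogonal to a hyperbolic pair. -/
def ext0 (Q : QuadraticForm F V) (φ : V → A) (e f : V) (s : F) (w : V) : A :=
  φ (s • e + (-(Q w / s)) • f + w) - φ (s • e) - φ ((-(Q w / s)) • f)

variable {φ a} {e f e' f' : V}

include hφ

theorem phi_zero (ha : Q a = 0) : φ 0 = 0 := by
  have := hφ 0 0 ⟨ha, map_zero Q, b_zero_right a⟩ ⟨ha, map_zero Q, b_zero_right a⟩ (b_zero_left 0)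
  rw [add_zero] at this
  exact left_eq_add.1 this

theorem ext0_zero (ha : Q a = 0) (s : F) : ext0 Q φ e f s 0 = 0 := by
  rw [ext0, map_zero, zero_div, neg_zero, zero_smul, add_zero, add_zero, phi_zero hφ ha]
  abel

theorem cross (h : Quad Q e f e' f') (ha : Q a = 0) (hae : polar Q a e = 0) (haf : polar Q a f = 0)
    (hae' : polar Q a e' = 0) (haf' : polar Q a f' = 0) {v w : V} (hav : polar Q a v = 0) (haw : polar Q a w = 0)
    (hv : v ∈ pp Q e f ⊓ pp Q e' f') (hw : w ∈ pp Q e f ⊓ pp Q e' f') {s t : F} (hs : s ≠ 0) (ht : t ≠ 0) :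
    ext0 Q φ e f s (v + w) = ext0 Q φ e f s v + ext0 Q φ e' f' t w := by
  obtain ⟨β, hβ⟩ : ∃ β, polar Q v w = β := ⟨_, rfl⟩
  have hwv : polar Q w v = β := by rw [b_comm, hβ]
  obtain ⟨v1, v2⟩ := hv.1
  obtain ⟨v3, v4⟩ := hv.2
  obtain ⟨w1, w2⟩ := hw.1
  obtain ⟨w3, w4⟩ := hw.2
  have ev : polar Q e v = 0 := by rw [b_comm, v1]
  have fv : polar Q f v = 0 := by rw [b_comm, v2]
  have e'v : polar Q e' v = 0 := by rw [b_comm, v3]
  have f'v : polar Q f' v = 0 := by rw [b_comm, v4]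
  have ew : polar Q e w = 0 := by rw [b_comm, w1]
  have fw : polar Q f w = 0 := by rw [b_comm, w2]
  have e'w : polar Q e' w = 0 := by rw [b_comm, w3]
  have f'w : polar Q f' w = 0 := by rw [b_comm, w4]
  have e'e : polar Q e' e = 0 := h.swap.ab
  have e'f : polar Q e' f = 0 := h.swap.ab'
  have f'e : polar Q f' e = 0 := h.swap.a'b
  have f'f : polar Q f' f = 0 := h.swap.a'b'
  have qe := h.pa.qa
  have qf := h.pa.qa'
  have qe' := h.pb.qa
  have qf' := h.pb.qa'
  have tot : ∀ p q p' q' : F, ∀ u : V, u ∈ pp Q e f ⊓ pp Q e' f' → polar Q a u = 0 →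
      p * q + p' * q' + Q u = 0 → Tot Q a (p • e + q • f + p' • e' + q' • f' + u) := by
    intro p q p' q' u hu hau hq
    have eu : polar Q e u = 0 := by rw [b_comm]; exact hu.1.1
    have fu : polar Q f u = 0 := by rw [b_comm]; exact hu.1.2
    have e'u : polar Q e' u = 0 := by rw [b_comm]; exact hu.2.1
    have f'u : polar Q f' u = 0 := by rw [b_comm]; exact hu.2.2
    refine ⟨ha, ?_, ?_⟩
    · simp only [q_add, q_smul, b_add_left, b_smul_left, b_smul_right, qe, qf, qe', qf', eu, fu, e'u, f'u,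
        h.pa.b, h.pb.b, h.ab, h.ab', h.a'b, h.a'b']
      linear_combination hq
    · simp only [b_add_right, b_smul_right, hae, haf, hae', haf', hau]; ring
  obtain ⟨T₁, hT₁⟩ : ∃ T : V, T = s • e + (-((Q v + Q w + β) / s)) • f + (v + w) := ⟨_, rfl⟩
  have hqvw : Q (v + w) = Q v + Q w + β := by rw [q_add, hβ]
  have z0 : (0 : V) ∈ pp Q e f ⊓ pp Q e' f' := Submodule.zero_mem _
  have hP : Tot Q a (s • e + (-(Q v / s)) • f + v) := by
    have := tot s (-(Q v / s)) 0 0 v hv hav (by field_simp; ring)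
    simpa using this
  have hR : Tot Q a (t • e' + (-(Q w / t)) • f' + w) := by
    have := tot 0 0 t (-(Q w / t)) w hw haw (by field_simp; ring)
    simpa using this
  have tf : ∀ c : F, Tot Q a (c • f) := fun c => by simpa using tot 0 c 0 0 0 z0 (b_zero_right a) (by simp)
  have tf' : ∀ c : F, Tot Q a (c • f') := fun c => by simpa using tot 0 0 0 c 0 z0 (b_zero_right a) (by simp)
  have te' : Tot Q a (t • e') := by simpa using tot 0 0 t 0 0 z0 (b_zero_right a) (by simp)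
  have hR' : Tot Q a (t • e' + (-(Q w / t)) • f' + w + (-(β / s)) • f) := hR.add (tf _) (by
    rw [b_add_left, b_add_left, b_smul_left, b_smul_right, b_smul_left, b_smul_right, b_smul_right, e'f,
      f'f, w2]
    ring)
  have hS : Tot Q a T₁ := by
    have := tot s (-((Q v + Q w + β) / s)) 0 0 (v + w) (Submodule.add_mem _ hv hw)
      (by rw [b_add_right, hav, haw, add_zero]) (by rw [hqvw]; field_simp; ring)
    rw [hT₁]; simpa using this
  have hb1 : polar Q (t • e' + (-(Q w / t)) • f' + w) ((-(β / s)) • f) = 0 := by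
    simp only [b_add_left, b_smul_left, b_smul_right, e'f, f'f, w2]; ring
  have hb2 : polar Q (s • e + (-(Q v / s)) • f + v) (t • e' + (-(Q w / t)) • f' + w + (-(β / s)) • f) = 0 := by
    simp only [b_add_left, b_add_right, b_smul_left, b_smul_right, h.ab, h.ab', h.a'b, h.a'b', v3, v4, v2, ew,
      fw, h.pa.b, h.pa.symm.aa, hβ]
    field_simp
    ring
  have hb3 : polar Q T₁ (t • e') = 0 := by
    simp only [hT₁, b_add_left, b_smul_left, b_smul_right, h.ab, h.a'b, v3, w3]; ring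
  have hb4 : polar Q ((Q w / s) • f) ((-(Q w / t)) • f') = 0 := by
    simp only [b_smul_left, b_smul_right, h.a'b', mul_zero]
  have hb5 : polar Q (T₁ + t • e') ((Q w / s) • f + (-(Q w / t)) • f') = 0 := by
    simp only [hT₁, b_add_left, b_add_right, b_smul_left, b_smul_right, h.pa.b, h.pa.symm.aa, h.ab', h.a'b',
      v2, w2, v4, w4, e'f, h.pb.b]
    field_simp
    ring
  have hb6 : polar Q ((-((Q v + Q w + β) / s)) • f) ((Q w / s) • f) = 0 := by
    simp only [b_smul_left, b_smul_right, h.pa.symm.aa, mul_zero]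
  have hb7 : polar Q ((-(Q v / s)) • f) ((-(β / s)) • f) = 0 := by
    simp only [b_smul_left, b_smul_right, h.pa.symm.aa, mul_zero]
  have key : φ ((s • e + (-(Q v / s)) • f + v) + (t • e' + (-(Q w / t)) • f' + w + (-(β / s)) • f)) =
      φ ((T₁ + t • e') + ((Q w / s) • f + (-(Q w / t)) • f')) := by
    congr 1
    rw [hT₁]
    match_scalars <;> field_simp <;> ring
  rw [hφ _ _ hP hR' hb2, hφ _ _ hR (tf _) hb1, hφ _ _ (hS.add te' hb3) ((tf _).add (tf' _) hb4) hb5,
    hφ _ _ hS te' hb3, hφ _ _ (tf _) (tf' _) hb4] at key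
  have k2 : φ ((-((Q v + Q w + β) / s)) • f) + φ ((Q w / s) • f) = φ ((-(Q v / s)) • f) + φ ((-(β / s)) • f) := by
    rw [← hφ _ _ (tf _) (tf _) hb6, ← hφ _ _ (tf _) (tf _) hb7, ← add_smul, ← add_smul]
    congr 2
    field_simp
    ring
  rw [ext0, ext0, ext0, hqvw, ← hT₁]
  have k3 : φ ((-((Q v + Q w + β) / s)) • f) = φ ((-(Q v / s)) • f) + φ ((-(β / s)) • f) - φ ((Q w / s) • f) :=
    eq_sub_of_add_eq k2
  have k4 : φ T₁ = φ (s • e + (-(Q v / s)) • f + v) + (φ (t • e' + (-(Q w / t)) • f' + w) + φ ((-(β / s)) • f)) -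
      (φ ((Q w / s) • f) + φ ((-(Q w / t)) • f')) - φ (t • e') := by
    rw [key]; abel
  rw [k3, k4]
  abel

/-- A function additive on orthogonal singular vectors extends to a homomorphism. -/
theorem exists_ext (ha : Q a = 0) (hs : ∀ (x : V) (s : F), Tot Q a x → φ (x + s • a) = φ x) {e₁ f₁ e₂ f₂ a' : V}
    (hPa : Pair Q a a') (h : Quad Q e₁ f₁ e₂ f₂) (h1 : e₁ ∈ pp Q a a') (h2 : f₁ ∈ pp Q a a')
    (h3 : e₂ ∈ pp Q a a') (h4 : f₂ ∈ pp Q a a') :
    ∃ lam : V → A, (∀ x y, polar Q a x = 0 → polar Q a y = 0 → lam (x + y) = lam x + lam y) ∧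
      ∀ x, Tot Q a x → lam x = φ x := by
  have ae₁ : polar Q a e₁ = 0 := by rw [b_comm]; exact h1.1
  have af₁ : polar Q a f₁ = 0 := by rw [b_comm]; exact h2.1
  have ae₂ : polar Q a e₂ = 0 := by rw [b_comm]; exact h3.1
  have af₂ : polar Q a f₂ = 0 := by rw [b_comm]; exact h4.1
  obtain ⟨W, hW⟩ : ∃ W, W = pp Q e₁ f₁ ⊓ pp Q e₂ f₂ := ⟨_, rfl⟩
  obtain ⟨X, hX⟩ : ∃ X : Submodule F V, X = LinearMap.ker (polarBilin Q a) := ⟨_, rfl⟩
  have memX : ∀ x, x ∈ X ↔ polar Q a x = 0 := fun x => by rw [hX]; exact LinearMap.mem_ker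
  let Lam : V → A := fun w => ext0 Q φ e₁ f₁ 1 w
  have same2 : ∀ w ∈ W, polar Q a w = 0 → ∀ t : F, t ≠ 0 → ext0 Q φ e₂ f₂ t w = Lam w := by
    intro w hw haw t ht
    have := cross hφ h ha ae₁ af₁ ae₂ af₂ (v := 0) (w := w) (b_zero_right a) haw (Submodule.zero_mem _)
      (hW ▸ hw) one_ne_zero ht
    rw [zero_add, ext0_zero hφ ha, zero_add] at this
    exact this.symm
  have Ladd : ∀ v w, v ∈ W → w ∈ W → polar Q a v = 0 → polar Q a w = 0 → Lam (v + w) = Lam v + Lam w := by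
    intro v w hv hw hav haw
    rw [← same2 w hw haw 1 one_ne_zero]
    exact cross hφ h ha ae₁ af₁ ae₂ af₂ hav haw (hW ▸ hv) (hW ▸ hw) one_ne_zero one_ne_zero
  have flip : ∀ (e f e' f' : V), Quad Q e f e' f' → polar Q a e = 0 → polar Q a f = 0 → polar Q a e' = 0 →
      polar Q a f' = 0 → pp Q e f ⊓ pp Q e' f' = W → (∀ w ∈ W, polar Q a w = 0 → ext0 Q φ e' f' 1 w = Lam w) →
      ∀ w ∈ W, polar Q a w = 0 → ∀ s : F, s ≠ 0 → ext0 Q φ e f s w = Lam w := by
    intro e f e' f' hq he hf he' hf' hWeq hbase w hw haw s hs0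
    have := cross hφ hq ha he hf he' hf' (v := 0) (w := w) (b_zero_right a) haw (Submodule.zero_mem _)
      (hWeq ▸ hw) hs0 one_ne_zero
    rw [zero_add, ext0_zero hφ ha, zero_add] at this
    rw [this]
    exact hbase w hw haw
  obtain ⟨co, hco⟩ : ∃ co : V → V, co = fun x => x - polar Q x a' • a - polar Q x a • a' := ⟨_, rfl⟩
  obtain ⟨rest, hrest⟩ : ∃ rest : V → V, rest = fun x => co x - polar Q x f₁ • e₁ - polar Q x e₁ • f₁
      - polar Q x f₂ • e₂ - polar Q x e₂ • f₂ := ⟨_, rfl⟩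
  have hrW : ∀ x, polar Q a x = 0 → rest x ∈ W ∧ polar Q a (rest x) = 0 := by
    intro x hx
    have hxa : polar Q x a = 0 := by rw [b_comm, hx]
    have aa := hPa.aa
    have a'e₁ : polar Q a' e₁ = 0 := by rw [b_comm]; exact h1.2
    have a'f₁ : polar Q a' f₁ = 0 := by rw [b_comm]; exact h2.2
    have a'e₂ : polar Q a' e₂ = 0 := by rw [b_comm]; exact h3.2
    have a'f₂ : polar Q a' f₂ = 0 := by rw [b_comm]; exact h4.2
    rw [hW]
    refine ⟨⟨⟨?_, ?_⟩, ⟨?_, ?_⟩⟩, ?_⟩
    all_goals simp only [hrest, hco, b_sub_left, b_sub_right, b_smul_left, b_smul_right, hxa, hx, aa, a'e₁,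
      a'f₁, a'e₂, a'f₂, ae₁, af₁, ae₂, af₂, h.pa.b, h.pa.b', h.pb.b, h.pb.b', h.pa.aa, h.pa.symm.aa, h.pb.aa,
      h.pb.symm.aa, h.ab, h.ab', h.a'b, h.a'b', h.swap.ab, h.swap.ab', h.swap.a'b, h.swap.a'b', hPa.b]
    all_goals ring
  refine ⟨fun x => φ (polar Q x f₁ • e₁) + φ (polar Q x e₁ • f₁) + φ (polar Q x f₂ • e₂) +
    φ (polar Q x e₂ • f₂) + Lam (rest x), fun x y hx hy => ?_, fun x hx => ?_⟩
  · have tt : ∀ (u : V) (c : F), Q u = 0 → polar Q a u = 0 → Tot Q a (c • u) := fun u c hu hau =>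
      ⟨ha, by rw [q_smul, hu, mul_zero], by rw [b_smul_right, hau, mul_zero]⟩
    have addc : ∀ (u : V) (c d : F), Q u = 0 → polar Q a u = 0 → φ ((c + d) • u) = φ (c • u) + φ (d • u) :=
      fun u c d hu hau => by
        rw [add_smul, hφ _ _ (tt u c hu hau) (tt u d hu hau)
          (by rw [b_smul_left, b_smul_right, b_self, hu, mul_zero, mul_zero, mul_zero])]
    have hr : rest (x + y) = rest x + rest y := by
      simp only [hrest, hco, b_add_left]; module
    obtain ⟨hx1, hx2⟩ := hrW x hx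
    obtain ⟨hy1, hy2⟩ := hrW y hy
    dsimp only
    rw [hr, Ladd _ _ hx1 hy1 hx2 hy2, b_add_left, b_add_left, b_add_left, b_add_left,
      addc e₁ _ _ h.pa.qa ae₁, addc f₁ _ _ h.pa.qa' af₁, addc e₂ _ _ h.pb.qa ae₂, addc f₂ _ _ h.pb.qa' af₂]
    abel
  · obtain ⟨hw, haw⟩ := hrW x hx.ab
    obtain ⟨w, hwdef⟩ : ∃ w, rest x = w := ⟨_, rfl⟩
    rw [hwdef] at hw haw
    obtain ⟨x₁, hx₁⟩ : ∃ c, polar Q x f₁ = c := ⟨_, rfl⟩
    obtain ⟨y₁, hy₁⟩ : ∃ c, polar Q x e₁ = c := ⟨_, rfl⟩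
    obtain ⟨x₂, hx₂⟩ : ∃ c, polar Q x f₂ = c := ⟨_, rfl⟩
    obtain ⟨y₂, hy₂⟩ : ∃ c, polar Q x e₂ = c := ⟨_, rfl⟩
    show φ (polar Q x f₁ • e₁) + φ (polar Q x e₁ • f₁) + φ (polar Q x f₂ • e₂) + φ (polar Q x e₂ • f₂) +
      Lam (rest x) = φ x
    rw [hwdef, hx₁, hy₁, hx₂, hy₂]
    obtain ⟨α, hα⟩ : ∃ α, polar Q x a' = α := ⟨_, rfl⟩
    have hxa : polar Q x a = 0 := by rw [b_comm, hx.ab]
    have hdec : x = (x₁ • e₁ + y₁ • f₁ + x₂ • e₂ + y₂ • f₂ + w) + α • a := by
      rw [← hwdef, hrest, hco, ← hx₁, ← hy₁, ← hx₂, ← hy₂, ← hα]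
      simp only [hxa]
      module
    have hW' := hW ▸ hw
    have zf : ∀ {e f e' f' : V}, Quad Q e f e' f' → polar Q a e = 0 → polar Q a f = 0 → polar Q a e' = 0 →
        polar Q a f' = 0 → w ∈ pp Q e f ⊓ pp Q e' f' → ∀ {s t s' t' : F}, s ≠ 0 →
        Tot Q a (s • e + t • f + s' • e' + t' • f' + w) → ext0 Q φ e f s w = Lam w →
        φ (s • e + t • f + s' • e' + t' • f' + w) = φ (s • e) + φ (t • f) + φ (s' • e') + φ (t' • f') + Lam w := by
      intro e f e' f' hq he hf he' hf' hwm s t s' t' hs0 hT hL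
      have ew : polar Q e w = 0 := by rw [b_comm]; exact hwm.1.1
      have fw : polar Q f w = 0 := by rw [b_comm]; exact hwm.1.2
      have e'w : polar Q e' w = 0 := by rw [b_comm]; exact hwm.2.1
      have f'w : polar Q f' w = 0 := by rw [b_comm]; exact hwm.2.2
      have hq0 : s * t + s' * t' + Q w = 0 := by
        have := hT.qb
        simp only [q_add, q_smul, b_add_left, b_smul_left, b_smul_right, hq.pa.qa, hq.pa.qa', hq.pb.qa,
          hq.pb.qa', ew, fw, e'w, f'w, hq.pa.b, hq.pb.b, hq.ab, hq.ab', hq.a'b, hq.a'b'] at this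
        linear_combination this
      have tf : ∀ c : F, Tot Q a (c • f) := fun c =>
        ⟨ha, by rw [q_smul, hq.pa.qa', mul_zero], by rw [b_smul_right, hf, mul_zero]⟩
      have te' : Tot Q a (s' • e') := ⟨ha, by rw [q_smul, hq.pb.qa, mul_zero], by rw [b_smul_right, he', mul_zero]⟩
      have tf' : Tot Q a (t' • f') := ⟨ha, by rw [q_smul, hq.pb.qa', mul_zero], by rw [b_smul_right, hf', mul_zero]⟩
      have hP : Tot Q a (s • e + (-(Q w / s)) • f + w) := by
        refine ⟨ha, ?_, ?_⟩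
        · simp only [q_add, q_smul, b_add_left, b_smul_left, b_smul_right, hq.pa.qa, hq.pa.qa', ew, fw, hq.pa.b]
          field_simp; ring
        · simp only [b_add_right, b_smul_right, he, hf, haw]; ring
      have hN : Tot Q a (t' • f' + (-(t' * s' / s)) • f) := tf'.add (tf _)
        (by rw [b_smul_left, b_smul_right, b_comm, hq.a'b', mul_zero, mul_zero])
      have hb1 : polar Q (s • e + (-(Q w / s)) • f + w) (s' • e') = 0 := by
        simp only [b_add_left, b_smul_left, b_smul_right, hq.ab, hq.a'b, hwm.2.1]; ring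
      have hb2 : polar Q ((s • e + (-(Q w / s)) • f + w) + s' • e') (t' • f' + (-(t' * s' / s)) • f) = 0 := by
        simp only [b_add_left, b_add_right, b_smul_left, b_smul_right, hq.ab', hq.a'b', hwm.2.2, hwm.1.2,
          hq.pa.b, hq.pa.symm.aa, hq.pb.b, hq.swap.ab']
        field_simp; ring
      have e1 : s • e + t • f + s' • e' + t' • f' + w =
          ((s • e + (-(Q w / s)) • f + w) + s' • e') + (t' • f' + (-(t' * s' / s)) • f) := by
        match_scalars <;> field_simp <;> linear_combination hq0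
      have e2 : φ (t • f) = φ ((-(Q w / s)) • f) + φ ((-(t' * s' / s)) • f) := by
        rw [← hφ _ _ (tf _) (tf _) (by rw [b_smul_left, b_smul_right, hq.pa.symm.aa, mul_zero, mul_zero]),
          ← add_smul]
        congr 2
        field_simp; linear_combination hq0
      rw [e1, hφ _ _ (hP.add te' hb1) hN hb2, hφ _ _ hP te' hb1,
        hφ _ _ tf' (tf _) (by rw [b_smul_left, b_smul_right, b_comm, hq.a'b', mul_zero, mul_zero]), e2, ← hL,
        ext0]
      abel
    have hT' : Tot Q a (x₁ • e₁ + y₁ • f₁ + x₂ • e₂ + y₂ • f₂ + w) := by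
      have hu : x₁ • e₁ + y₁ • f₁ + x₂ • e₂ + y₂ • f₂ + w = x + (-α) • a := by
        conv_rhs => rw [hdec]
        module
      rw [hu]
      exact hx.add ⟨ha, by rw [q_smul, ha, mul_zero], by rw [b_smul_right, hPa.aa, mul_zero]⟩
        (by rw [b_smul_right, hxa, mul_zero])
    conv_rhs => rw [hdec, hs _ α hT']
    symm
    by_cases c1 : x₁ ≠ 0
    · exact zf h ae₁ af₁ ae₂ af₂ hW' c1 hT' (flip _ _ _ _ h ae₁ af₁ ae₂ af₂ hW.symm
        (fun w hw haw => same2 w hw haw 1 one_ne_zero) w hw haw _ c1)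
    push Not at c1
    by_cases c2 : y₁ ≠ 0
    · have hq : Quad Q f₁ e₁ e₂ f₂ := ⟨h.pa.symm, h.pb, h.a'b, h.a'b', h.ab, h.ab'⟩
      have e1 : x₁ • e₁ + y₁ • f₁ + x₂ • e₂ + y₂ • f₂ + w = y₁ • f₁ + x₁ • e₁ + x₂ • e₂ + y₂ • f₂ + w := by abel
      rw [e1] at hT' ⊢
      rw [zf hq af₁ ae₁ ae₂ af₂ (by rw [pp_comm]; exact hW') c2 hT' (flip _ _ _ _ hq af₁ ae₁ ae₂ af₂
        (by rw [hW, pp_comm]) (fun w hw haw => same2 w hw haw 1 one_ne_zero) w hw haw _ c2)]
      abel
    push Not at c2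
    by_cases c3 : x₂ ≠ 0
    · have e1 : x₁ • e₁ + y₁ • f₁ + x₂ • e₂ + y₂ • f₂ + w = x₂ • e₂ + y₂ • f₂ + x₁ • e₁ + y₁ • f₁ + w := by abel
      rw [e1] at hT' ⊢
      rw [zf h.swap ae₂ af₂ ae₁ af₁ (by rw [inf_comm]; exact hW') c3 hT' (flip _ _ _ _ h.swap ae₂ af₂ ae₁ af₁
        (by rw [hW, inf_comm]) (fun _ _ _ => rfl) w hw haw _ c3)]
      abel
    push Not at c3
    by_cases c4 : y₂ ≠ 0
    · have hq : Quad Q f₂ e₂ e₁ f₁ := ⟨h.pb.symm, h.pa, h.swap.a'b, h.swap.a'b', h.swap.ab, h.swap.ab'⟩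
      have e1 : x₁ • e₁ + y₁ • f₁ + x₂ • e₂ + y₂ • f₂ + w = y₂ • f₂ + x₂ • e₂ + x₁ • e₁ + y₁ • f₁ + w := by abel
      rw [e1] at hT' ⊢
      rw [zf hq af₂ ae₂ ae₁ af₁ (by rw [pp_comm, inf_comm]; exact hW') c4 hT' (flip _ _ _ _ hq af₂ ae₂ ae₁ af₁
        (by rw [hW, pp_comm f₂, inf_comm]) (fun _ _ _ => rfl) w hw haw _ c4)]
      abel
    push Not at c4
    rw [c1, c2, c3, c4] at hT' ⊢
    simp only [zero_smul, zero_add, add_zero, phi_zero hφ ha] at hT' ⊢
    obtain ⟨w1, w2⟩ := hW'.1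
    have te : Tot Q a e₁ := ⟨ha, h.pa.qa, ae₁⟩
    show φ w = ext0 Q φ e₁ f₁ 1 w
    rw [ext0, hT'.qb, zero_div, neg_zero, zero_smul, add_zero, one_smul, phi_zero hφ ha,
      hφ _ _ te hT' (by rw [b_comm, w1])]
    abel

end Extension

variable [FiniteDimensional F V] [Fintype F] {E : Type*} [Group E] {π : E →* oGroup Q}

/-- The lift of a Siegel element, as a product of lifts of root elements. -/
noncomputable def kappa (π : E →* oGroup Q) (a y : V) : E := by
  classical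
  exact if h : ∃ l : List V, (∀ z ∈ l, Q z = 0 ∧ polar Q a z = 0) ∧ l.sum = y then
    (h.choose.map (r π a)).prod else 1

/-- The group of lifts at one centre. -/
noncomputable def centreSub (π : E →* oGroup Q) (a : V) (ha : Q a = 0) : Subgroup E where
  carrier := {z | ∃ y, polar Q a y = 0 ∧ π z = sg Q a y}
  one_mem' := ⟨0, b_zero_right a, by rw [map_one, sg_zero ha]⟩
  mul_mem' {x y} := by
    rintro ⟨u, hu, hs⟩ ⟨v, hv, ht⟩
    exact ⟨u + v, by rw [b_add_right, hu, hv, add_zero], by rw [map_mul, hs, ht, sg_add ha hu hv]⟩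
  inv_mem' {x} := by
    rintro ⟨u, hu, hs⟩
    exact ⟨-u, by rw [b_neg_right, hu, neg_zero], by rw [map_inv, hs, sg_neg ha hu]⟩

variable (hπ : IsCov π) (hchi : Chi π)
include hπ hchi

theorem exists_hom {a : V} (ha : Q a = 0) : ∃ lam : V → E,
    (∀ x y, polar Q a x = 0 → polar Q a y = 0 → lam (x + y) = lam x * lam y) ∧
      ∀ x, Tot Q a x → lam x = r π a x := by
  classical
  rcases eq_or_ne a 0 with rfl | ha0
  · exact ⟨fun _ => 1, fun _ _ _ _ => (one_mul 1).symm, fun x _ => (r_zero_left x).symm⟩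
  letI : CommGroup (centreSub π a ha) :=
    { (inferInstance : Group (centreSub π a ha)) with
      mul_comm := fun x y => Subtype.ext <| by
        obtain ⟨u, hu, hx⟩ := x.2
        obtain ⟨v, hv, hy⟩ := y.2
        exact hπ.eq_comm_of_C (by rw [hx, hy]; exact hπ.omega_one hchi ha hu hv) }
  let φ : V → Additive (centreSub π a ha) := fun x =>
    if h : Tot Q a x then Additive.ofMul ⟨r π a x, x, h.ab, pi_r hπ hchi h⟩ else 0
  have hφv : ∀ x (h : Tot Q a x), φ x = Additive.ofMul ⟨r π a x, x, h.ab, pi_r hπ hchi h⟩ :=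
    fun x h => dif_pos h
  have hφ : ∀ x y, Tot Q a x → Tot Q a y → polar Q x y = 0 → φ (x + y) = φ x + φ y := by
    intro x y hx hy hxy
    rw [hφv x hx, hφv y hy, hφv _ (hx.add hy hxy), ← ofMul_mul]
    exact congrArg Additive.ofMul (Subtype.ext (r_add hπ hchi hx hy hxy))
  have hT := good_top (Q := Q) hπ.nd
  obtain ⟨a', -, hPa⟩ := exists_pair_of hT Submodule.mem_top ha0 ha
  have hS1 := good_inf hT hPa Submodule.mem_top Submodule.mem_top
  have hd1 := finrank_inf_pp (Q := Q) ⊤ a a'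
  rw [finrank_top] at hd1
  have hdim := hπ.dim
  obtain ⟨e₁, he₁, f₁, hf₁, h₁⟩ := exists_pair hS1 (by omega)
  have hS2 := good_inf hS1 h₁ he₁ hf₁
  have hd2 := finrank_inf_pp (Q := Q) (⊤ ⊓ pp Q a a') e₁ f₁
  obtain ⟨e₂, he₂, f₂, hf₂, h₂⟩ := exists_pair hS2 (by omega)
  obtain ⟨lam, hadd, hsing⟩ := exists_ext hφ ha (fun x s hx => by
      have hxs : Tot Q a (x + s • a) := hx.add
        ⟨ha, by rw [q_smul, ha, mul_zero], by rw [b_smul_right, hPa.aa, mul_zero]⟩
        (by rw [b_smul_right, b_comm, hx.ab, mul_zero])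
      rw [hφv x hx, hφv _ hxs]
      exact congrArg Additive.ofMul (Subtype.ext (r_add_self hπ hchi hx s)))
    hPa (Quad.of_mem h₁ h₂ he₂.2 hf₂.2) he₁.2 hf₁.2 he₂.1.2 hf₂.1.2
  refine ⟨fun x => ((Additive.toMul (lam x) : centreSub π a ha) : E), fun x y hx hy => ?_, fun x hx => ?_⟩
  · dsimp only
    rw [hadd x y hx hy]; rfl
  · dsimp only
    rw [hsing x hx, hφv x hx]; rfl

theorem kappa_list {a : V} (ha : Q a = 0) (l : List V) (hl : ∀ z ∈ l, Q z = 0 ∧ polar Q a z = 0) :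
    (l.map (r π a)).prod = kappa π a l.sum := by
  obtain ⟨lam, hadd, hsing⟩ := exists_hom hπ hchi ha
  have h0 : lam 0 = 1 := by
    have := hadd 0 0 (b_zero_right a) (b_zero_right a)
    rw [add_zero] at this
    exact mul_eq_left.1 this.symm
  have key : ∀ l : List V, (∀ z ∈ l, Q z = 0 ∧ polar Q a z = 0) →
      polar Q a l.sum = 0 ∧ (l.map (r π a)).prod = lam l.sum := by
    intro l hl
    induction l with
    | nil => exact ⟨b_zero_right a, h0.symm⟩
    | cons z l ih =>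
      obtain ⟨h1, h2⟩ := ih fun w hw => hl w (List.mem_cons_of_mem _ hw)
      obtain ⟨hz1, hz2⟩ := hl z List.mem_cons_self
      refine ⟨by rw [List.sum_cons, b_add_right, hz2, h1, add_zero], ?_⟩
      rw [List.map_cons, List.prod_cons, h2, List.sum_cons, hadd z _ hz2 h1, hsing z ⟨ha, hz1, hz2⟩]
  have hex : ∃ l' : List V, (∀ z ∈ l', Q z = 0 ∧ polar Q a z = 0) ∧ l'.sum = l.sum := ⟨l, hl, rfl⟩
  rw [kappa, dif_pos hex, (key l hl).2, (key _ hex.choose_spec.1).2, hex.choose_spec.2]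

theorem exists_sum {a y : V} (ha : Q a = 0) (hy : polar Q a y = 0) :
    ∃ l : List V, (∀ z ∈ l, Q z = 0 ∧ polar Q a z = 0) ∧ l.sum = y := by
  have hn : 5 ≤ finrank F V := by have := hπ.dim; omega
  rcases eq_or_ne a 0 with rfl | ha0
  · obtain ⟨e, he0, he⟩ := exists_singular hπ.nd (by omega)
    obtain ⟨f, hef, hf⟩ := exists_partner hπ.nd he0 he
    obtain ⟨y₁, hy₁⟩ : ∃ y₁, y - polar Q y e • f = y₁ := ⟨_, rfl⟩
    have h1 : polar Q e y₁ = 0 := by rw [← hy₁, b_sub_right, b_smul_right, hef, b_comm e y]; ring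
    obtain ⟨l, hl, hls⟩ := exists_singular_sum hπ.nd hn he he0 h1
    refine ⟨(polar Q y e • f) :: l, fun z hz => ⟨?_, b_zero_left z⟩, ?_⟩
    · rcases List.mem_cons.1 hz with rfl | hz
      · rw [q_smul, hf, mul_zero]
      · exact (hl z hz).1
    · rw [List.sum_cons, hls, ← hy₁, add_sub_cancel]
  · exact exists_singular_sum hπ.nd hn ha ha0 hy

theorem kappa_eq_r {a x : V} (h : Tot Q a x) : kappa π a x = r π a x := by
  have := kappa_list hπ hchi h.qa [x] (by simpa using ⟨h.qb, h.ab⟩)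
  simpa using this.symm

theorem kappa_add {a x y : V} (ha : Q a = 0) (hx : polar Q a x = 0) (hy : polar Q a y = 0) :
    kappa π a (x + y) = kappa π a x * kappa π a y := by
  obtain ⟨l, hl, rfl⟩ := exists_sum hπ hchi ha hx
  obtain ⟨l', hl', rfl⟩ := exists_sum hπ hchi ha hy
  rw [← kappa_list hπ hchi ha l hl, ← kappa_list hπ hchi ha l' hl', ← List.prod_append, ← List.map_append,
    ← List.sum_append, kappa_list hπ hchi ha _ fun z hz => ?_]
  rcases List.mem_append.1 hz with hz | hz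
  exacts [hl z hz, hl' z hz]

theorem pi_kappa {a y : V} (ha : Q a = 0) (hy : polar Q a y = 0) : π (kappa π a y) = sg Q a y := by
  obtain ⟨l, hl, rfl⟩ := exists_sum hπ hchi ha hy
  rw [← kappa_list hπ hchi ha l hl]
  clear hy
  induction l with
  | nil => rw [List.map_nil, List.prod_nil, map_one, List.sum_nil, sg_zero ha]
  | cons z l ih =>
    obtain ⟨hz1, hz2⟩ := hl z List.mem_cons_self
    have hl' : ∀ w ∈ l, Q w = 0 ∧ polar Q a w = 0 := fun w hw => hl w (List.mem_cons_of_mem _ hw)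
    have hls : polar Q a l.sum = 0 := by
      clear ih hl
      induction l with
      | nil => exact b_zero_right a
      | cons w l ih =>
        rw [List.sum_cons, b_add_right, (hl' w List.mem_cons_self).2,
          ih fun v hv => hl' v (List.mem_cons_of_mem _ hv), add_zero]
    rw [List.map_cons, List.prod_cons, map_mul, ih hl', pi_r hπ hchi ⟨ha, hz1, hz2⟩, List.sum_cons,
      sg_add ha hz2 hls]

theorem kappa_conj (z : E) {a y : V} (ha : Q a = 0) (hy : polar Q a y = 0) :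
    z * kappa π a y * z⁻¹ = kappa π ((π z).1 a) ((π z).1 y) := by
  obtain ⟨l, hl, rfl⟩ := exists_sum hπ hchi ha hy
  rw [← kappa_list hπ hchi ha l hl,
    show (π z).1 l.sum = (l.map fun w => (π z).1 w).sum from map_list_sum (π z).1 l,
    ← kappa_list hπ hchi (by rw [(π z).2, ha]) _ (fun w hw => by
      obtain ⟨u, hu, rfl⟩ := List.mem_map.1 hw
      exact ⟨by rw [(π z).2, (hl u hu).1], by rw [b_map (π z).2, (hl u hu).2]⟩),
    List.map_map]
  clear hy
  induction l with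
  | nil => simp
  | cons w l ih =>
    obtain ⟨hw1, hw2⟩ := hl w List.mem_cons_self
    rw [List.map_cons, List.map_cons, List.prod_cons, List.prod_cons,
      ← ih fun v hv => hl v (List.mem_cons_of_mem _ hv)]
    simp only [Function.comp_apply]
    rw [← r_conj hπ hchi z ⟨ha, hw1, hw2⟩]
    group

theorem kappa_smul_left {a y : V} (ha : Q a = 0) (hy : polar Q a y = 0) (s : F) :
    kappa π (s • a) y = kappa π a (s • y) := by
  obtain ⟨l, hl, rfl⟩ := exists_sum hπ hchi ha hy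
  have hl2 : ∀ z ∈ l, Q z = 0 ∧ polar Q (s • a) z = 0 := fun z hz =>
    ⟨(hl z hz).1, by rw [b_smul_left, (hl z hz).2, mul_zero]⟩
  rw [← kappa_list hπ hchi (by rw [q_smul, ha, mul_zero]) l hl2,
    show s • l.sum = (l.map fun z => s • z).sum from List.smul_sum, ← kappa_list hπ hchi ha _ (fun z hz => by
      obtain ⟨u, hu, rfl⟩ := List.mem_map.1 hz
      exact ⟨by rw [q_smul, (hl u hu).1, mul_zero], by rw [b_smul_right, (hl u hu).2, mul_zero]⟩), List.map_map]
  congr 1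
  exact List.map_congr_left fun z hz => r_smul_left hπ hchi ⟨ha, (hl z hz).1, (hl z hz).2⟩ s

theorem kappa_zero {a : V} (ha : Q a = 0) : kappa π a 0 = 1 := by
  have := kappa_list hπ hchi ha [] (by simp)
  simpa using this.symm

theorem kappa_neg {a y : V} (ha : Q a = 0) (hy : polar Q a y = 0) :
    kappa π a (-y) = (kappa π a y)⁻¹ := by
  rw [eq_inv_iff_mul_eq_one, ← kappa_add hπ hchi ha (by rw [b_neg_right, hy, neg_zero]) hy, neg_add_cancel,
    kappa_zero hπ hchi ha]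

theorem kappa_self {a : V} (ha : Q a = 0) (s : F) : kappa π a (s • a) = 1 := by
  rw [kappa_eq_r hπ hchi ⟨ha, by rw [q_smul, ha, mul_zero],
      by rw [b_smul_right, b_self, ha, mul_zero, mul_zero]⟩,
    r_dep (Submodule.mem_span_singleton.2 ⟨s, rfl⟩)]

theorem kappa_commute {a x y : V} (ha : Q a = 0) (hx : polar Q a x = 0) (hy : polar Q a y = 0) :
    kappa π a x * kappa π a y = kappa π a y * kappa π a x := by
  rw [← kappa_add hπ hchi ha hx hy, ← kappa_add hπ hchi ha hy hx, add_comm]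

theorem kappa_swap {a y : V} (h : Tot Q a y) : kappa π a y = kappa π y (-a) := by
  have hn : Tot Q y (-a) := by simpa using h.symm.smul_right (-1)
  have hp := r_smul_add hπ hchi h.symm (1 : F) (-1)
  rw [add_neg_cancel, zero_smul, r_zero_right, one_smul, neg_one_smul, r_inv hπ hchi h] at hp
  rw [kappa_eq_r hπ hchi h, kappa_eq_r hπ hchi hn]
  exact (inv_mul_eq_one.1 hp.symm)

/-- An element commutes with the lifts of the Siegel elements it fixes. -/
theorem kappa_fix (z : E) {a y : V} (ha : Q a = 0) (hy : polar Q a y = 0) (h1 : (π z).1 a = a)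
    (h2 : (π z).1 y = y) : Commute z (kappa π a y) := by
  have := kappa_conj hπ hchi z ha hy
  rw [h1, h2] at this
  exact mul_inv_eq_iff_eq_mul.1 this

end Cfsg.Agent.OmegaMult
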