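import Cfsg.Agent.Lib.OmegaMult.Frame

/-!
Commutators of lifts in a central extension, and invariant pairings on orthogonal spaces.
-/

set_option autoImplicit false
set_option linter.unusedSectionVars false

namespace Cfsg.Agent.OmegaMult

open QuadraticMap Module Cfsg.Agent.Orth Cfsg.Agent.TwoGenOrth
open scoped commutatorElement

variable {F V : Type*} [Field F] [AddCommGroup V] [Module F V] {Q : QuadraticForm F V}

/-- A perfect central extension of the commutator subgroup of the isometry group. -/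
structure IsCov {E : Type*} [Group E] (π : E →* oGroup Q) : Prop where
  nd : (polarBilin Q).Nondegenerate
  dim : 7 ≤ finrank F V
  central : π.ker ≤ Subgroup.center E
  range : π.range = commutator (oGroup Q)
  perfect : commutator E = ⊤

variable {E : Type*} [Group E] {π : E →* oGroup Q}

/-- A chosen preimage. -/
noncomputable def lift (π : E →* oGroup Q) (g : oGroup Q) : E := Function.invFun π g

/-- The commutator of preimages. -/
noncomputable def C (π : E →* oGroup Q) (g h : oGroup Q) : E := ⁅lift π g, lift π h⁆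

theorem lift_spec {g : oGroup Q} (hg : g ∈ π.range) : π (lift π g) = g :=
  Function.invFun_eq hg

theorem central_mul_comm {z : E} (hz : z ∈ Subgroup.center E) (x : E) : z * x = x * z :=
  ((Subgroup.mem_center_iff.1 hz) x).symm

theorem IsCov.diff_central (hπ : IsCov π) {x y : E} (h : π x = π y) : y⁻¹ * x ∈ Subgroup.center E :=
  hπ.central (by rw [MonoidHom.mem_ker, map_mul, map_inv, h, inv_mul_cancel])

theorem comm_left {z : E} (hz : z ∈ Subgroup.center E) (x y : E) : ⁅x * z, y⁆ = ⁅x, y⁆ := by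
  rw [commutatorElement_def, commutatorElement_def,
    show x * z * y * (x * z)⁻¹ = x * (z * y) * z⁻¹ * x⁻¹ by group, central_mul_comm hz y,
    show x * (y * z) * z⁻¹ * x⁻¹ = x * y * x⁻¹ by group]

theorem comm_right {z : E} (hz : z ∈ Subgroup.center E) (x y : E) : ⁅x, y * z⁆ = ⁅x, y⁆ := by
  rw [← commutatorElement_inv (y * z) x, comm_left hz, commutatorElement_inv]

theorem IsCov.comm_eq (hπ : IsCov π) (x y : E) : ⁅x, y⁆ = C π (π x) (π y) := by
  have hx := hπ.diff_central (x := x) (y := lift π (π x)) (lift_spec ⟨x, rfl⟩).symm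
  have hy := hπ.diff_central (x := y) (y := lift π (π y)) (lift_spec ⟨y, rfl⟩).symm
  rw [show x = lift π (π x) * ((lift π (π x))⁻¹ * x) by group,
    show y = lift π (π y) * ((lift π (π y))⁻¹ * y) by group, comm_left hx, comm_right hy]
  simp [C]

theorem pi_C {g h : oGroup Q} (hg : g ∈ π.range) (hh : h ∈ π.range) : π (C π g h) = ⁅g, h⁆ := by
  rw [C, map_commutatorElement, lift_spec hg, lift_spec hh]

theorem IsCov.C_conj (hπ : IsCov π) (z : E) {g h : oGroup Q} (hg : g ∈ π.range) (hh : h ∈ π.range) :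
    z * C π g h * z⁻¹ = C π (π z * g * (π z)⁻¹) (π z * h * (π z)⁻¹) := by
  have : z * C π g h * z⁻¹ = ⁅z * lift π g * z⁻¹, z * lift π h * z⁻¹⁆ := by
    simp only [C, commutatorElement_def]; group
  rw [this, hπ.comm_eq]
  simp only [map_mul, map_inv, lift_spec hg, lift_spec hh]

theorem IsCov.C_inv (hπ : IsCov π) (g h : oGroup Q) : (C π g h)⁻¹ = C π h g :=
  commutatorElement_inv _ _

theorem IsCov.C_one_left (hπ : IsCov π) {h : oGroup Q} (hh : h ∈ π.range) : C π 1 h = 1 := by
  have := hπ.comm_eq 1 (lift π h)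
  rw [map_one, lift_spec hh, commutatorElement_one_left] at this
  exact this.symm

theorem IsCov.C_mul_left (hπ : IsCov π) {g g' h : oGroup Q} (hg : g ∈ π.range) (hg' : g' ∈ π.range)
    (hh : h ∈ π.range) :
    C π (g * g') h = lift π g * C π g' h * (lift π g)⁻¹ * C π g h := by
  have := hπ.comm_eq (lift π g * lift π g') (lift π h)
  rw [map_mul, lift_spec hg, lift_spec hg', lift_spec hh] at this
  rw [← this]
  simp only [C, commutatorElement_def]; group

theorem IsCov.C_mul_right (hπ : IsCov π) {g h h' : oGroup Q} (hg : g ∈ π.range) (hh : h ∈ π.range)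
    (hh' : h' ∈ π.range) :
    C π g (h * h') = C π g h * (lift π h * C π g h' * (lift π h)⁻¹) := by
  have := hπ.comm_eq (lift π g) (lift π h * lift π h')
  rw [map_mul, lift_spec hg, lift_spec hh, lift_spec hh'] at this
  rw [← this]
  simp only [C, commutatorElement_def]; group

theorem IsCov.C_central (hπ : IsCov π) {g h : oGroup Q} (hg : g ∈ π.range) (hh : h ∈ π.range)
    (hc : g * h = h * g) : C π g h ∈ Subgroup.center E :=
  hπ.central (by rw [MonoidHom.mem_ker, pi_C hg hh, commutatorElement_eq_one_iff_mul_comm.2 hc])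

theorem IsCov.C_mul_left' (hπ : IsCov π) {g g' h : oGroup Q} (hg : g ∈ π.range) (hg' : g' ∈ π.range)
    (hh : h ∈ π.range) (hc : g' * h = h * g') :
    C π (g * g') h = C π g h * C π g' h := by
  rw [hπ.C_mul_left hg hg' hh, ← central_mul_comm (hπ.C_central hg' hh hc), mul_assoc (C π g' h),
    mul_inv_cancel, mul_one, central_mul_comm (hπ.C_central hg' hh hc)]

theorem IsCov.C_mul_right' (hπ : IsCov π) {g h h' : oGroup Q} (hg : g ∈ π.range) (hh : h ∈ π.range)
    (hh' : h' ∈ π.range) (hc : g * h' = h' * g) :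
    C π g (h * h') = C π g h * C π g h' := by
  rw [hπ.C_mul_right hg hh hh', ← central_mul_comm (hπ.C_central hg hh' hc), mul_assoc (C π g h'),
    mul_inv_cancel, mul_one]

/-- Conjugation does not move a central commutator. -/
theorem IsCov.C_conj_central (hπ : IsCov π) {z g h : oGroup Q} (hz : z ∈ π.range) (hg : g ∈ π.range)
    (hh : h ∈ π.range) (hc : g * h = h * g) : C π (z * g * z⁻¹) (z * h * z⁻¹) = C π g h := by
  have h1 := hπ.C_conj (lift π z) hg hh
  rw [lift_spec hz] at h1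
  rw [← h1, ← central_mul_comm (hπ.C_central hg hh hc), mul_assoc, mul_inv_cancel, mul_one]

theorem IsCov.eq_comm_of_C (hπ : IsCov π) {x y : E} (h : C π (π x) (π y) = 1) : x * y = y * x := by
  rw [← hπ.comm_eq] at h
  exact commutatorElement_eq_one_iff_mul_comm.1 h

variable [FiniteDimensional F V] [Fintype F]

theorem IsCov.sg_range (hπ : IsCov π) {u y : V} (hu : Q u = 0) (hy : polar Q u y = 0) :
    sg Q u y ∈ π.range := by
  rw [hπ.range]
  exact sg_mem hπ.nd (by have := hπ.dim; omega) hu hy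

theorem IsCov.wS_range (hπ : IsCov π) {a a' b b' : V} (h : Quad Q a a' b b') (t : F) :
    wS Q a a' b b' t ∈ π.range := by
  rw [hπ.range]
  exact wS_mem hπ.nd (by have := hπ.dim; omega) h t

/-- Lifts of a long root element commute with lifts of the short ones orthogonal to it. -/
def Chi (π : E →* oGroup Q) : Prop :=
  ∀ a b c v : V, Q a = 0 → Q b = 0 → Q c = 0 → polar Q a b = 0 → polar Q a c = 0 → polar Q b c = 0 →
    a ≠ 0 → b ∉ Submodule.span F {a} → c ∉ Submodule.span F {a, b} →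
    polar Q v a = 0 → polar Q v b = 0 → polar Q v c = 0 →
    C π (sg Q a b) (sg Q c v) = 1

section Pairing

variable {Z : Type*} [CommGroup Z] {X : Submodule F V} {c c' : V}

/-- An invariant biadditive pairing depends on the polar form only. -/
theorem pair_lemma (hc : c ∈ X) (hc' : c' ∈ X) (hP : Pair Q c c') (β : X → X → Z)
    (h1 : ∀ x x' y, β (x + x') y = β x y * β x' y) (h2 : ∀ x y y', β x (y + y') = β x y * β x y')
    (hinv : ∀ d d' : V, (d = c ∧ d' = c') ∨ (d = c' ∧ d' = c) → ∀ w ∈ X, polar Q w d = 0 →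
      polar Q w d' = 0 → ∀ x y x' y' : X, (x' : V) = (sg Q d w).1 x → (y' : V) = (sg Q d w).1 y →
      β x' y' = β x y)
    {w₀ w₁ : V} (hw₀ : w₀ ∈ X ⊓ pp Q c c') (hw₁ : w₁ ∈ X ⊓ pp Q c c') (hw : polar Q w₀ w₁ = 1)
    (x y x' y' : X) (hB : polar Q (x : V) y = polar Q (x' : V) y') : β x y = β x' y' := by
  have z1 : ∀ y, β 0 y = 1 := fun y => by
    have := h1 0 0 y; rw [add_zero] at this; exact mul_eq_left.1 this.symm
  have z2 : ∀ x, β x 0 = 1 := fun x => by
    have := h2 x 0 0; rw [add_zero] at this; exact mul_eq_left.1 this.symm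
  obtain ⟨W, hW⟩ : ∃ W, W = X ⊓ pp Q c c' := ⟨_, rfl⟩
  rw [← hW] at hw₀ hw₁
  have key : ∀ (d d' : X), ((d : V) = c ∧ (d' : V) = c') ∨ ((d : V) = c' ∧ (d' : V) = c) →
      (∀ s t : F, β (s • d) (t • d) = 1) ∧
      (∀ (s : F) (z : X), (z : V) ∈ W → β (s • d) z = 1 ∧ β z (s • d) = 1) ∧
      (∀ z w : X, (z : V) ∈ W → (w : V) ∈ W → β z w = β (polar Q (z : V) w • d) d') ∧
      (∀ s t : F, β (s • d) (t • d') = β ((s * t) • d) d' ∧ β (t • d') (s • d) = β ((s * t) • d) d') := by
    intro d d' hd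
    have hPd : Pair Q (d : V) d' := by
      rcases hd with ⟨e1, e2⟩ | ⟨e1, e2⟩ <;> rw [e1, e2]
      exacts [hP, hP.symm]
    have hWd : ∀ z : X, (z : V) ∈ W → polar Q (z : V) d = 0 ∧ polar Q (z : V) d' = 0 := by
      intro z hz
      rw [hW] at hz
      rcases hd with ⟨e1, e2⟩ | ⟨e1, e2⟩ <;> rw [e1, e2]
      exacts [hz.2, hz.2.symm]
    have act : ∀ w : X, (w : V) ∈ W → ∀ x y x' y' : X, (x' : V) = (sg Q (d : V) w).1 x →
        (y' : V) = (sg Q (d : V) w).1 y → β x' y' = β x y :=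
      fun w hw' => hinv d d' hd w w.2 (hWd w hw').1 (hWd w hw').2
    have mvd : ∀ (w : X), (w : V) ∈ W → ∀ s : F, ((s • d : X) : V) = (sg Q (d : V) w).1 (s • d : X) := by
      intro w hw' s
      rw [Submodule.coe_smul, map_smul, sg_fix_self hPd.qa (by rw [b_comm]; exact (hWd w hw').1)]
    have mvz : ∀ (w z : X), (w : V) ∈ W → (z : V) ∈ W →
        ((z + (-polar Q (z : V) w) • d : X) : V) = (sg Q (d : V) w).1 z := by
      intro w z hw' hz
      rw [sg_move hPd.qa (by rw [b_comm]; exact (hWd w hw').1) (hWd z hz).1, Submodule.coe_add,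
        Submodule.coe_smul]
      module
    have mvd' : ∀ (w : X), (w : V) ∈ W → ∀ t : F,
        ((t • d' + t • w + (-(t * Q (w : V))) • d : X) : V) = (sg Q (d : V) w).1 (t • d' : X) := by
      intro w hw' t
      rw [Submodule.coe_smul, map_smul, sg_apply hPd.qa (by rw [b_comm]; exact (hWd w hw').1), hPd.b',
        b_comm (d' : V) w, (hWd w hw').2]
      simp only [Submodule.coe_add, Submodule.coe_smul]
      module
    have w0W : ((⟨w₀, (hW ▸ hw₀).1⟩ : X) : V) ∈ W := hw₀
    have w1W : ((⟨w₁, (hW ▸ hw₁).1⟩ : X) : V) ∈ W := hw₁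
    have hB0 : ∀ s : F, polar Q ((s • (⟨w₀, (hW ▸ hw₀).1⟩ : X) : X) : V) w₁ = s := fun s => by
      rw [Submodule.coe_smul, b_smul_left, hw, mul_one]
    have hs0 : ∀ s : F, ((s • (⟨w₀, (hW ▸ hw₀).1⟩ : X) : X) : V) ∈ W := fun s => by
      rw [Submodule.coe_smul]; exact W.smul_mem s hw₀
    -- two multiples of the singular vector
    have dd : ∀ s t : F, β (s • d) (t • d) = 1 := by
      intro s t
      have h := act ⟨w₁, (hW ▸ hw₁).1⟩ w1W (s • d) ((-t) • (⟨w₀, (hW ▸ hw₀).1⟩ : X)) _ _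
        (mvd _ w1W s) (mvz _ _ w1W (hs0 _))
      rw [h2, hB0, _root_.neg_neg] at h
      exact mul_eq_left.1 h
    -- the singular vector against the complement
    have dw : ∀ (s : F) (z : X), (z : V) ∈ W → β (s • d) z = 1 ∧ β z (s • d) = 1 := by
      intro s z hz
      constructor
      · have h := act z hz (s • d) ((1 : F) • d') _ _ (mvd _ hz s) (mvd' _ hz 1)
        rw [h2, h2, dd, mul_one, one_smul, one_smul] at h
        exact mul_eq_left.1 h
      · have h := act z hz ((1 : F) • d') (s • d) _ _ (mvd' _ hz 1) (mvd _ hz s)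
        rw [h1, h1, dd, mul_one, one_smul, one_smul] at h
        exact mul_eq_left.1 h
    have hneg : ∀ (s : F) (y : X), β ((-s) • d) y = (β (s • d) y)⁻¹ := fun s y => by
      refine eq_inv_of_mul_eq_one_left ?_
      rw [← h1, ← add_smul, neg_add_cancel, zero_smul, z1]
    have gen : ∀ (z w : X), (z : V) ∈ W → (w : V) ∈ W → ∀ t : F,
        β z (t • w) = β (polar Q (z : V) w • d) (t • d') := by
      intro z w hz hw' t
      have h := act w hw' z (t • d') _ _ (mvz _ _ hw' hz) (mvd' _ hw' t)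
      rw [h1, h2, h2, h2, h2, (dw _ z hz).2, mul_one, dd, mul_one,
        (dw _ (t • w) (by rw [Submodule.coe_smul]; exact W.smul_mem t hw')).1, mul_one, hneg, mul_assoc] at h
      exact mul_inv_eq_one.1 (mul_eq_left.1 h)
    have gen' : ∀ (z w : X), (z : V) ∈ W → (w : V) ∈ W → ∀ t : F,
        β (t • w) z = β (t • d') (polar Q (z : V) w • d) := by
      intro z w hz hw' t
      have h := act w hw' (t • d') z _ _ (mvd' _ hw' t) (mvz _ _ hw' hz)
      have hneg2 : ∀ (s : F) (y : X), β y ((-s) • d) = (β y (s • d))⁻¹ := fun s y => by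
        refine eq_inv_of_mul_eq_one_left ?_
        rw [← h2, ← add_smul, neg_add_cancel, zero_smul, z2]
      rw [h2, h1, h1, h1, h1, (dw _ z hz).1, mul_one, dd, mul_one,
        (dw _ (t • w) (by rw [Submodule.coe_smul]; exact W.smul_mem t hw')).2, mul_one, hneg2, mul_assoc] at h
      exact mul_inv_eq_one.1 (mul_eq_left.1 h)
    have main : ∀ z w : X, (z : V) ∈ W → (w : V) ∈ W → β z w = β (polar Q (z : V) w • d) d' := by
      intro z w hz hw'
      have := gen z w hz hw' 1
      rwa [one_smul, one_smul] at this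
    have hts : ∀ t : F, ((t • (⟨w₁, (hW ▸ hw₁).1⟩ : X) : X) : V) ∈ W := fun t => by
      rw [Submodule.coe_smul]; exact W.smul_mem t hw₁
    refine ⟨dd, dw, main, fun s t => ⟨?_, ?_⟩⟩
    · have h := gen _ _ (hs0 s) w1W t
      rw [hB0] at h
      rw [← h, main _ _ (hs0 s) (hts t), Submodule.coe_smul t, b_smul_right, hB0, mul_comm]
    · have h := gen' _ _ (hs0 s) w1W t
      rw [hB0] at h
      rw [← h, main _ _ (hts t) (hs0 s), Submodule.coe_smul t, b_smul_left, b_comm, hB0, mul_comm]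
  obtain ⟨dd, dw, main, dd'⟩ := key ⟨c, hc⟩ ⟨c', hc'⟩ (Or.inl ⟨rfl, rfl⟩)
  obtain ⟨ee, ew, -, -⟩ := key ⟨c', hc'⟩ ⟨c, hc⟩ (Or.inr ⟨rfl, rfl⟩)
  have phi_add : ∀ s t : F, β ((s + t) • (⟨c, hc⟩ : X)) ⟨c', hc'⟩ =
      β (s • (⟨c, hc⟩ : X)) ⟨c', hc'⟩ * β (t • (⟨c, hc⟩ : X)) ⟨c', hc'⟩ := fun s t => by
    rw [add_smul, h1]
  have dec : ∀ x : X, ∃ (s t : F) (z : X), (z : V) ∈ W ∧
      x = s • (⟨c, hc⟩ : X) + t • (⟨c', hc'⟩ : X) + z := by
    intro x
    obtain ⟨z, hz⟩ : ∃ z : X, z = x - polar Q (x : V) c' • (⟨c, hc⟩ : X) - polar Q (x : V) c • (⟨c', hc'⟩ : X) :=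
      ⟨_, rfl⟩
    refine ⟨_, _, z, ?_, by rw [hz]; abel⟩
    rw [hW, hz]
    exact proj_mem' hP hc hc' x.2
  have val : ∀ x y : X, β x y = β (polar Q (x : V) y • (⟨c, hc⟩ : X)) ⟨c', hc'⟩ := by
    intro x y
    obtain ⟨s, t, z, hz, rfl⟩ := dec x
    obtain ⟨s', t', z', hz', rfl⟩ := dec y
    have hzW := hz; have hzW' := hz'
    rw [hW] at hzW hzW'
    simp only [h1, h2, dd, ee, (dw _ _ hz).1, (dw _ _ hz).2, (dw _ _ hz').1, (dw _ _ hz').2, (ew _ _ hz).1,
      (ew _ _ hz).2, (ew _ _ hz').1, (ew _ _ hz').2, (dd' _ _).1, (dd' _ _).2, main _ _ hz hz',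
      mul_one, one_mul, ← phi_add]
    congr 2
    simp only [Submodule.coe_add, Submodule.coe_smul, b_add_left, b_add_right, b_smul_left, b_smul_right,
      hzW.2.1, hzW.2.2, b_comm c (z' : V), b_comm c' (z' : V), hzW'.2.1, hzW'.2.2, hP.aa, hP.symm.aa, hP.b,
      hP.b']
    ring
  rw [val, val x' y', hB]

end Pairing

end Cfsg.Agent.OmegaMult
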