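import Cfsg.Agent.Lib.OmegaMult.Weyl

/-!
The subgroups generated by lifts of Siegel elements of a subspace, and torus elements inside them.
-/

set_option autoImplicit false
set_option linter.unusedSectionVars false
set_option linter.unusedSimpArgs false
set_option linter.unusedVariables false

namespace Cfsg.Agent.OmegaMult

open QuadraticMap Module Cfsg.Agent.Orth Cfsg.Agent.TwoGenOrth
open scoped commutatorElement

variable {F V : Type*} [Field F] [AddCommGroup V] [Module F V] {Q : QuadraticForm F V}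
  [FiniteDimensional F V] [Fintype F] {E : Type*} [Group E] {π : E →* oGroup Q}

/-- The generating lifts of a subspace. -/
def locGens (π : E →* oGroup Q) (S : Submodule F V) : Set E :=
  {g | ∃ a y, a ∈ S ∧ y ∈ S ∧ Q a = 0 ∧ polar Q a y = 0 ∧ g = kappa π a y}

/-- The subgroup of a subspace. -/
noncomputable def Loc (π : E →* oGroup Q) (S : Submodule F V) : Subgroup E :=
  Subgroup.closure (locGens π S)

theorem kappa_mem_Loc {S : Submodule F V} {a y : V} (ha : a ∈ S) (hy : y ∈ S) (hq : Q a = 0)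
    (hb : polar Q a y = 0) : kappa π a y ∈ Loc π S :=
  Subgroup.subset_closure ⟨a, y, ha, hy, hq, hb, rfl⟩

theorem Loc_mono {S T : Submodule F V} (h : S ≤ T) : Loc π S ≤ Loc π T :=
  Subgroup.closure_mono fun _ ⟨a, y, ha, hy, h1, h2, h3⟩ => ⟨a, y, h ha, h hy, h1, h2, h3⟩

variable (hπ : IsCov π) (hchi : Chi π)
include hπ hchi

theorem Loc_fix {S : Submodule F V} {g : E} (hg : g ∈ Loc π S) {x : V}
    (hx : ∀ s ∈ S, polar Q x s = 0) : (π g).1 x = x := by
  induction hg using Subgroup.closure_induction with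
  | mem g hg =>
    obtain ⟨a, y, ha, hy, h1, h2, rfl⟩ := hg
    rw [pi_kappa hπ hchi h1 h2, sg_fix h1 h2 (hx a ha) (hx y hy)]
  | one => rw [map_one]; rfl
  | mul a b _ _ iha ihb => rw [map_mul, Subgroup.coe_mul, LinearEquiv.mul_apply, ihb, iha]
  | inv a _ ih =>
    rw [map_inv, Subgroup.coe_inv]
    exact ((π a).1.symm_apply_eq).2 ih.symm

theorem Loc_map {S : Submodule F V} {g : E} (hg : g ∈ Loc π S) :
    ∀ x, x ∈ S ↔ (π g).1 x ∈ S := by
  induction hg using Subgroup.closure_induction with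
  | mem g hg =>
    obtain ⟨a, y, ha, hy, h1, h2, rfl⟩ := hg
    intro x
    rw [pi_kappa hπ hchi h1 h2, sg_apply h1 h2]
    refine ⟨fun hx => S.sub_mem (S.add_mem hx (S.smul_mem _ hy)) (S.smul_mem _ ha), fun hx => ?_⟩
    have h := S.add_mem hx (S.smul_mem (polar Q x y + Q y * polar Q x a) ha)
    rw [sub_add_cancel] at h
    have h' := S.sub_mem h (S.smul_mem (polar Q x a) hy)
    rwa [add_sub_cancel_right] at h'
  | one => intro x; rw [map_one]; rfl
  | mul a b _ _ iha ihb => intro x; rw [map_mul, Subgroup.coe_mul, LinearEquiv.mul_apply, ihb x, iha _]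
  | inv a _ ih =>
    intro x
    rw [map_inv, Subgroup.coe_inv, ih ((π a).1⁻¹ x)]
    rw [show (π a).1 ((π a).1⁻¹ x) = x from (π a).1.apply_symm_apply x]

theorem Loc_conj {S T : Submodule F V} (z : E) (h : ∀ x ∈ S, (π z).1 x ∈ T) {g : E} (hg : g ∈ Loc π S) :
    z * g * z⁻¹ ∈ Loc π T := by
  induction hg using Subgroup.closure_induction with
  | mem g hg =>
    obtain ⟨a, y, ha, hy, h1, h2, rfl⟩ := hg
    rw [kappa_conj hπ hchi z h1 h2]
    exact kappa_mem_Loc (h a ha) (h y hy) (by rw [(π z).2, h1]) (by rw [b_map (π z).2, h2])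
  | one => simp
  | mul a b _ _ iha ihb =>
    rw [show z * (a * b) * z⁻¹ = (z * a * z⁻¹) * (z * b * z⁻¹) by group]
    exact mul_mem iha ihb
  | inv a _ ih =>
    rw [show z * a⁻¹ * z⁻¹ = (z * a * z⁻¹)⁻¹ by group]
    exact inv_mem ih

theorem Loc_commute {S : Submodule F V} (z : E) (h : ∀ x ∈ S, (π z).1 x = x) {g : E} (hg : g ∈ Loc π S) :
    Commute z g := by
  induction hg using Subgroup.closure_induction with
  | mem g hg =>
    obtain ⟨a, y, ha, hy, h1, h2, rfl⟩ := hg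
    exact kappa_fix hπ hchi z h1 h2 (h a ha) (h y hy)
  | one => exact Commute.one_right z
  | mul a b _ _ iha ihb => exact iha.mul_right ihb
  | inv a _ ih => exact ih.inv_right

/-- All of the extension is generated by the lifts. -/
theorem Loc_top : Loc π (⊤ : Submodule F V) = ⊤ := by
  have hn : 5 ≤ finrank F V := by have := hπ.dim; omega
  have himg : ∀ g ∈ commutator (oGroup Q), ∃ l ∈ Loc π (⊤ : Submodule F V), π l = g := by
    intro g hg
    rw [← siegelGroup_eq hπ.nd hn] at hg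
    refine Subgroup.mem_map.1 ((Subgroup.closure_le ((Loc π (⊤ : Submodule F V)).map π)).2 ?_ hg)
    rintro s ⟨u, y, hu, hy, huy, hs⟩
    exact ⟨kappa π u y, kappa_mem_Loc Submodule.mem_top Submodule.mem_top hu huy, by
      rw [pi_kappa hπ hchi hu huy]; exact Subtype.ext ((sg_spec hu huy).eq hs)⟩
  rw [eq_top_iff, ← hπ.perfect, commutator_eq_closure, Subgroup.closure_le]
  rintro _ ⟨x, y, rfl⟩
  obtain ⟨l, hl, hlx⟩ := himg (π x) (hπ.range ▸ ⟨x, rfl⟩)
  obtain ⟨m, hm, hmy⟩ := himg (π y) (hπ.range ▸ ⟨y, rfl⟩)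
  rw [hπ.comm_eq, ← hlx, ← hmy, ← hπ.comm_eq, SetLike.mem_coe, commutatorElement_def]
  exact mul_mem (mul_mem (mul_mem hl hm) (inv_mem hl)) (inv_mem hm)

/-- A non-zero vector can be moved into a hyperbolic plane. -/
theorem exists_move {A : Submodule F V} (hA : Good Q A) {u v : V} (h : Pair Q u v) (hu : u ∈ A) (hv : v ∈ A)
    {x : V} (hx : x ∈ A) (hx0 : x ≠ 0) : ∃ l ∈ Loc π A, ∃ p q : F, (π l).1 x = p • u + q • v := by
  have step : ∀ {u v x : V}, Pair Q u v → u ∈ A → v ∈ A → x ∈ A → polar Q x v ≠ 0 →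
      ∃ l ∈ Loc π A, ∃ p q : F, (π l).1 x = p • u + q • v := by
    intro u v x h hu hv hx hxv
    obtain ⟨w, hwdef⟩ : ∃ w, x - polar Q x v • u - polar Q x u • v = w := ⟨_, rfl⟩
    obtain ⟨hwA, hwu, hwv⟩ : w ∈ A ⊓ pp Q u v := hwdef ▸ proj_mem' h hu hv hx
    obtain ⟨c, hc⟩ : ∃ c, -(polar Q x v)⁻¹ = c := ⟨_, rfl⟩
    have hvw : polar Q v (c • w) = 0 := by rw [b_smul_right, b_comm v w, hwv, mul_zero]
    refine ⟨kappa π v (c • w), kappa_mem_Loc hv (A.smul_mem c hwA) h.qa' hvw, polar Q x v,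
      polar Q x u - (polar Q x (c • w) + Q (c • w) * polar Q x v), ?_⟩
    rw [pi_kappa hπ hchi h.qa' hvw, sg_apply h.qa' hvw, ← hc, smul_smul, mul_neg, mul_inv_cancel₀ hxv, ← hwdef]
    module
  have both : ∀ {x : V}, x ∈ A → (polar Q x v ≠ 0 ∨ polar Q x u ≠ 0) →
      ∃ l ∈ Loc π A, ∃ p q : F, (π l).1 x = p • u + q • v := by
    intro x hx hne
    rcases hne with hne | hne
    · exact step h hu hv hx hne
    · obtain ⟨l, hl, p, q, e⟩ := step h.symm hv hu hx hne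
      exact ⟨l, hl, q, p, by rw [e, add_comm]⟩
  by_cases hne : polar Q x v ≠ 0 ∨ polar Q x u ≠ 0
  · exact both hx hne
  push Not at hne
  obtain ⟨hxv, hxu⟩ := hne
  obtain ⟨y, ⟨hyA, hyu, hyv⟩, hxy⟩ := (good_inf hA h hu hv) x ⟨hx, hxu, hxv⟩ hx0
  have huy : polar Q u y = 0 := by rw [b_comm, hyu]
  have hm : (π (kappa π u y)).1 x = x - polar Q x y • u := by
    rw [pi_kappa hπ hchi h.qa huy, sg_move h.qa huy hxu]
  have hk := kappa_mem_Loc (π := π) hu hyA h.qa huy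
  obtain ⟨l, hl, p, q, e⟩ := both ((Loc_map hπ hchi hk x).1 hx) (Or.inl (by
    rw [hm, b_sub_left, b_smul_left, hxv, h.b, zero_sub, mul_one]; exact neg_ne_zero.2 hxy))
  exact ⟨l * kappa π u y, mul_mem hl hk, p, q, by rw [map_mul, Subgroup.coe_mul, LinearEquiv.mul_apply, e]⟩

variable {e f u v : V}

theorem Wk_neg {e f x : V} (h : Pair Q e f) (hx : x ∈ pp Q e f) :
    (Wk π e f x)⁻¹ = Wk π e f (-x) := by
  rw [Wk, Wk, QuadraticMap.map_neg, smul_neg, kappa_neg hπ hchi h.qa (by rw [b_comm]; exact hx.1),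
    kappa_neg hπ hchi h.qa' (by rw [b_smul_right, b_comm f x, hx.2, mul_zero])]
  group

/-- The torus element of a scaled anisotropic vector does not depend on the vector. -/
theorem Wk_scale (h : Quad Q e f u v) {x : V} (hx : x ∈ pp Q e f) (hq : Q x ≠ 0) {s : F} (hs : s ≠ 0) :
    Wk π e f (s • x) * Wk π e f (-x) = hL π e f u v s * hL π e f v u s := by
  have hT := good_top (Q := Q) hπ.nd
  have hA := good_inf hT h.pa Submodule.mem_top Submodule.mem_top
  have huA : u ∈ (⊤ : Submodule F V) ⊓ pp Q e f :=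
    ⟨Submodule.mem_top, by rw [b_comm]; exact h.ab, by rw [b_comm]; exact h.a'b⟩
  have hvA : v ∈ (⊤ : Submodule F V) ⊓ pp Q e f :=
    ⟨Submodule.mem_top, by rw [b_comm]; exact h.ab', by rw [b_comm]; exact h.a'b'⟩
  have hx0 : x ≠ 0 := fun h0 => hq (by rw [h0, map_zero])
  obtain ⟨l, hl, p, q, hpq⟩ := exists_move hπ hchi hA h.pb huA hvA (x := x) ⟨Submodule.mem_top, hx⟩ hx0
  have hpq0 : p * q = Q x := by
    rw [← (π l).2 x, hpq, q_add, q_smul, q_smul, h.pb.qa, h.pb.qa', b_smul_left, b_smul_right, h.pb.b]; ring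
  have hp : p ≠ 0 := fun h0 => hq (by rw [← hpq0, h0, zero_mul])
  have hq' : q ≠ 0 := fun h0 => hq (by rw [← hpq0, h0, mul_zero])
  have hfix : ∀ z, (∀ y ∈ (⊤ : Submodule F V) ⊓ pp Q e f, polar Q z y = 0) → (π l).1 z = z :=
    fun z hz => Loc_fix hπ hchi hl hz
  have fe : (π l).1 e = e := hfix e fun y hy => by rw [b_comm]; exact hy.2.1
  have ff : (π l).1 f = f := hfix f fun y hy => by rw [b_comm]; exact hy.2.2
  have hq2 : Quad Q e f v u := ⟨h.pa, h.pb.symm, h.ab', h.ab, h.a'b', h.a'b⟩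
  have conj : ∀ y ∈ pp Q e f, l * Wk π e f y * l⁻¹ = Wk π e f ((π l).1 y) := fun y hy => by
    rw [Wk_conj hπ hchi l h.pa hy, fe, ff]
  obtain ⟨hmul, hww, -⟩ := hL_props hπ hchi h
  obtain ⟨hmul', hww', -⟩ := hL_props hπ hchi hq2
  obtain ⟨H, hH⟩ : ∃ H, hL π e f u v s * hL π e f v u s = H := ⟨_, rfl⟩
  rw [hH]
  have key : l * (Wk π e f (s • x) * Wk π e f (-x)) * l⁻¹ = H := by
    rw [show l * (Wk π e f (s • x) * Wk π e f (-x)) * l⁻¹ =
      (l * Wk π e f (s • x) * l⁻¹) * (l * Wk π e f (-x) * l⁻¹) by group,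
      conj _ ((pp Q e f).smul_mem s hx), conj _ ((pp Q e f).neg_mem hx), map_smul, map_neg, hpq, smul_add,
      smul_smul, smul_smul, neg_add, ← neg_smul, ← neg_smul,
      Wk_split hπ hchi h (mul_ne_zero hs hp) (mul_ne_zero hs hq'),
      Wk_split hπ hchi h (neg_ne_zero.2 hp) (neg_ne_zero.2 hq'), ← hH,
      show wL π e f u v (s * p) * wL π e f v u (s * q) * (wL π e f u v (-p) * wL π e f v u (-q)) =
        wL π e f u v (s * p) * (wL π e f v u (s * q) * wL π e f u v (-p)) * wL π e f v u (-q) by group,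
      ← (wL_pair hπ hchi h (-p) (s * q)).eq,
      show wL π e f u v (s * p) * (wL π e f u v (-p) * wL π e f v u (s * q)) * wL π e f v u (-q) =
        (wL π e f u v (s * p) * wL π e f u v (-p)) * (wL π e f v u (s * q) * wL π e f v u (-q)) by group,
      hww _ _ (mul_ne_zero hs hp) (neg_ne_zero.2 hp), hww' _ _ (mul_ne_zero hs hq') (neg_ne_zero.2 hq')]
    congr 2 <;> field_simp
  have hc : Commute H l := by
    refine Loc_commute hπ hchi H ?_ hl
    intro y hy
    obtain ⟨a1, a2, a3, a4, a5⟩ := hL_apply hπ hchi h hs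
    obtain ⟨b1, b2, b3, b4, b5⟩ := hL_apply hπ hchi hq2 hs
    obtain ⟨w, hw, hwd⟩ : ∃ w, (polar Q w e = 0 ∧ polar Q w f = 0 ∧ polar Q w u = 0 ∧ polar Q w v = 0) ∧
        y = polar Q y v • u + polar Q y u • v + w := by
      refine ⟨y - polar Q y v • u - polar Q y u • v, ?_, by abel⟩
      obtain ⟨-, hye, hyf⟩ := hy
      refine ⟨?_, ?_, ?_, ?_⟩ <;>
        simp only [b_sub_left, b_smul_left, hye, hyf, h.pb.aa, h.pb.symm.aa, h.pb.b, h.pb.b', h.swap.ab, h.swap.ab',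
          h.swap.a'b, h.swap.a'b'] <;> ring
    rw [← hH, map_mul, Subgroup.coe_mul, LinearEquiv.mul_apply]
    conv_lhs => rw [hwd]
    simp only [map_add, map_smul, b4, b2, a2, a4, b5 w hw.1 hw.2.1 hw.2.2.2 hw.2.2.1,
      a5 w hw.1 hw.2.1 hw.2.2.1 hw.2.2.2, smul_smul]
    rw [mul_assoc, inv_mul_cancel₀ hs, mul_one, mul_assoc, mul_inv_cancel₀ hs, mul_one]
    exact hwd.symm
  calc Wk π e f (s • x) * Wk π e f (-x) = l⁻¹ * (l * (Wk π e f (s • x) * Wk π e f (-x)) * l⁻¹) * l := by group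
    _ = l⁻¹ * H * l := by rw [key]
    _ = H := by rw [mul_assoc, hc.eq, ← mul_assoc, inv_mul_cancel, one_mul]

/-- Exchanging the roles of the two hyperbolic pairs. -/
theorem hL_swap (h : Quad Q e f u v) {s : F} (hs : s ≠ 0) :
    hL π u v e f s * hL π u v f e s = hL π e f u v s * hL π e f v u s⁻¹ := by
  have hq2 : Quad Q e f v u := ⟨h.pa, h.pb.symm, h.ab', h.ab, h.a'b', h.a'b⟩
  have hte : Tot Q e u := ⟨h.pa.qa, h.pb.qa, h.ab⟩
  have htf : Tot Q f v := ⟨h.pa.qa', h.pb.qa', h.a'b'⟩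
  have hte' : Tot Q e v := ⟨h.pa.qa, h.pb.qa', h.ab'⟩
  have htf' : Tot Q f u := ⟨h.pa.qa', h.pb.qa, h.a'b⟩
  have neg_mid : ∀ t : F, t⁻¹ = -(-t)⁻¹ := fun t => by rw [inv_neg, _root_.neg_neg]
  have e1 : ∀ t : F, wL π u v e f t = wL π e f u v (-t) := fun t => by
    simp only [wL]
    rw [r_rev hπ hchi hte, r_rev hπ hchi htf, ← neg_smul, ← neg_smul, inv_neg]
  have e2 : ∀ t : F, t ≠ 0 → wL π u v f e t = wL π e f v u (-t⁻¹) := fun t ht => by
    rw [(hL_props hπ hchi hq2).2.2 _ (neg_ne_zero.2 (inv_ne_zero ht))]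
    simp only [wL]
    rw [r_rev hπ hchi htf', r_rev hπ hchi hte', ← neg_smul, ← neg_smul, inv_neg, inv_inv]
  obtain ⟨-, hww, -⟩ := hL_props hπ hchi h
  obtain ⟨-, hww', -⟩ := hL_props hπ hchi hq2
  have n1 : (-1 : F) ≠ 0 := neg_ne_zero.2 one_ne_zero
  simp only [hL, e1, e2 s hs, e2 _ n1]
  rw [hww _ _ (neg_ne_zero.2 hs) (neg_ne_zero.2 n1), hww' _ _ (neg_ne_zero.2 (inv_ne_zero hs))
    (neg_ne_zero.2 (inv_ne_zero n1)), hww _ _ hs n1, hww' _ _ (inv_ne_zero hs) n1]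
  congr 1 <;> congr 1 <;> field_simp

/-- The torus element with inverse parameters belongs to the subgroup of the orthogonal subspace. -/
theorem hL_mem_Loc (h : Quad Q e f u v) {A : Submodule F V} (hu : u ∈ A) (hv : v ∈ A) {x : V} (hx : x ∈ A)
    (hxu : x ∈ pp Q u v) (hq : Q x ≠ 0) {s : F} (hs : s ≠ 0) :
    hL π e f u v s * hL π e f v u s⁻¹ ∈ Loc π A := by
  rw [← hL_swap hπ hchi h hs, ← Wk_scale hπ hchi h.swap hxu hq hs]
  have hk : ∀ y ∈ A, y ∈ pp Q u v → Wk π u v y ∈ Loc π A := fun y hy hy' => by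
    have h1 : polar Q u y = 0 := by rw [b_comm]; exact hy'.1
    have h2 : polar Q v ((Q y)⁻¹ • y) = 0 := by rw [b_smul_right, b_comm v y, hy'.2, mul_zero]
    exact mul_mem (mul_mem (kappa_mem_Loc hu hy h.pb.qa h1) (kappa_mem_Loc hv (A.smul_mem _ hy) h.pb.qa' h2))
      (kappa_mem_Loc hu hy h.pb.qa h1)
  exact mul_mem (hk _ (A.smul_mem s hx) ((pp Q u v).smul_mem s hxu))
    (hk _ (A.neg_mem hx) ((pp Q u v).neg_mem hxu))

end Cfsg.Agent.OmegaMult
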