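import Cfsg.Agent.Lib.OmegaMult.Spin
import Cfsg.Agent.Lib.Orthogonal.POmega
import Cfsg.Agent.Lib.Schur.PerfectQuot
import Cfsg.Agent.Lib.Schur.Basic
import Mathlib.GroupTheory.SpecificGroups.KleinFour

/-!
Schur multipliers of the projective Omega groups from the bound on the kernel of a perfect central extension.
-/

set_option autoImplicit false
set_option linter.unusedSectionVars false
set_option linter.unusedSimpArgs false
set_option linter.unusedVariables false
set_option linter.style.haveILetI false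

namespace Cfsg.Agent.OmegaMult

open QuadraticMap Module Cfsg.Agent.Orth Cfsg.Agent.TwoGenOrth
open scoped commutatorElement

universe u w

section Groups

variable {G : Type u} [Group G] {O : Type w} [Group O]

theorem exists_mult_equiv_klein {A : Type u} [Group A] (hA : Nat.card A = 4) (h : ∀ x : A, x * x = 1) :
    Nonempty (Multiplicative (ZMod 2 × ZMod 2) ≃* A) := by
  haveI : Finite A := Nat.finite_of_card_ne_zero (by omega)
  haveI : IsKleinFour A := ⟨hA, by
    have h1 : Monoid.exponent A ∣ 2 := Monoid.exponent_dvd_of_forall_pow_eq_one fun x => by rw [pow_two]; exact h x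
    rcases (Nat.dvd_prime Nat.prime_two).1 h1 with h1 | h1
    · have := Monoid.exp_eq_one_iff.1 h1
      have := Nat.card_of_subsingleton (1 : A)
      omega
    · exact h1⟩
  exact IsKleinFour.nonempty_mulEquiv

theorem exists_mult_equiv_cyclic {A : Type u} [Group A] {n : ℕ} [NeZero n] (hA : Nat.card A = n)
    (hc : IsCyclic A) : Nonempty (Multiplicative (ZMod n) ≃* A) :=
  ⟨by rw [← hA]; exact zmodCyclicMulEquiv hc⟩

/-- A perfect central extension of a perfect group, cut down to the derived subgroup, is central over any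
image of the group by a central map. -/
theorem derived_central {X : Type u} [Group X] (ξ : X →* G) (hs : Function.Surjective ξ)
    (hc : ξ.ker ≤ Subgroup.center X) (hperf : commutator G = ⊤) :
    (commutator X).map ξ = ⊤ ∧ commutator ↥(commutator X) = ⊤ ∧
      ∀ d : ↥(commutator X), ξ d.1 ∈ Subgroup.center G → d ∈ Subgroup.center ↥(commutator X) := by
  have hmap : (commutator X).map ξ = ⊤ := by
    rw [commutator_def, Subgroup.map_commutator, Subgroup.map_top_of_surjective _ hs, ← commutator_def, hperf]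
  have hdec : ∀ x : X, ∃ d ∈ commutator X, d⁻¹ * x ∈ Subgroup.center X := by
    intro x
    obtain ⟨d, hd, hdx⟩ := (hmap ▸ Subgroup.mem_top (ξ x) : ξ x ∈ (commutator X).map ξ)
    exact ⟨d, hd, hc (by rw [MonoidHom.mem_ker, map_mul, map_inv, hdx, inv_mul_cancel])⟩
  have hdd : commutator X ≤ ⁅commutator X, commutator X⁆ := by
    rw [commutator_eq_closure, Subgroup.closure_le]
    rintro _ ⟨x, y, rfl⟩
    obtain ⟨a, ha, hax⟩ := hdec x
    obtain ⟨b, hb, hby⟩ := hdec y
    rw [show x = a * (a⁻¹ * x) by group, show y = b * (b⁻¹ * y) by group, comm_left hax, comm_right hby]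
    rw [← commutator_eq_closure]
    exact Subgroup.commutator_mem_commutator ha hb
  have hperfD : commutator ↥(commutator X) = ⊤ := by
    refine Subgroup.map_injective (commutator X).subtype_injective ?_
    rw [commutator_def ↥(commutator X), Subgroup.map_commutator, ← MonoidHom.range_eq_map, Subgroup.range_subtype]
    exact le_antisymm (Subgroup.commutator_le.2 fun a ha b hb =>
      mul_mem (mul_mem (mul_mem ha hb) (inv_mem ha)) (inv_mem hb)) hdd
  refine ⟨hmap, hperfD, fun d hd => ?_⟩
  -- commutation with the element is a homomorphism into the centre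
  have hcent : ∀ x : ↥(commutator X), ⁅d.1, x.1⁆ ∈ Subgroup.center X := fun x => hc (by
    rw [MonoidHom.mem_ker, map_commutatorElement, commutatorElement_eq_one_iff_mul_comm]
    exact ((Subgroup.mem_center_iff.1 hd) (ξ x.1)).symm)
  let θ : ↥(commutator X) →* Subgroup.center X :=
    MonoidHom.mk' (fun x => ⟨⁅d.1, x.1⁆, hcent x⟩) fun x y => Subtype.ext (by
      show ⁅d.1, x.1 * y.1⁆ = ⁅d.1, x.1⁆ * ⁅d.1, y.1⁆
      rw [show ⁅d.1, x.1 * y.1⁆ = ⁅d.1, x.1⁆ * (x.1 * ⁅d.1, y.1⁆ * x.1⁻¹) by
        simp only [commutatorElement_def]; group, ← central_mul_comm (hcent y) x.1, mul_assoc ⁅d.1, y.1⁆,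
        mul_inv_cancel, mul_one])
  have hθ : ∀ x, θ x = 1 := by
    intro x
    have : commutator ↥(commutator X) ≤ θ.ker := by
      refine le_of_eq_of_le (commutator_eq_closure ↥(commutator X)) ((Subgroup.closure_le _).2 ?_)
      rintro _ ⟨a, b, rfl⟩
      rw [SetLike.mem_coe, MonoidHom.mem_ker, map_commutatorElement, commutatorElement_eq_one_iff_mul_comm]
      exact Subtype.ext ((Subgroup.mem_center_iff.1 (θ b).2) (θ a).1)
    exact this (hperfD ▸ Subgroup.mem_top x)
  rw [Subgroup.mem_center_iff]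
  intro x
  exact Subtype.ext (commutatorElement_eq_one_iff_mul_comm.1 (congrArg Subtype.val (hθ x))).symm

end Groups

variable {F V : Type*} [Field F] [AddCommGroup V] [Module F V] {Q : QuadraticForm F V}
  [FiniteDimensional F V] [Fintype F]

variable (Q) in
/-- The range of parameters. -/
def Case : Prop :=
  4 ≤ Fintype.card F ∨ (8 ≤ finrank F V ∧ (9 ≤ finrank F V ∨ (2 : F) ≠ 0 ∨ NoFour Q))

variable {E : Type*} [Group E] {π : E →* oGroup Q}

theorem exists_quad (hQ : (polarBilin Q).Nondegenerate) (hn : 7 ≤ finrank F V) :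
    ∃ b b' c c', Quad Q b b' c c' := by
  have hT := good_top (Q := Q) hQ
  obtain ⟨b, -, b', -, hb⟩ := exists_pair hT (by rw [finrank_top]; omega)
  have := finrank_inf_pp (Q := Q) (⊤ : Submodule F V) b b'
  rw [finrank_top] at this
  obtain ⟨c, hc, c', hc', h⟩ := exists_pair (good_inf hT hb Submodule.mem_top Submodule.mem_top) (by omega)
  exact ⟨b, b', c, c', Quad.of_mem hb h hc.2 hc'.2⟩

/-- The kernel has at most two elements. -/
theorem ker_two (hπ : IsCov π) (hcase : Case Q) :
    ∃ ζ : E, ∀ k, π k = 1 → k = 1 ∨ k = ζ := by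
  obtain ⟨b, b', c, c', h⟩ := exists_quad hπ.nd hπ.dim
  exact ⟨_, fun k hk => kernel_bound hπ (chi_of hπ hcase) h hk⟩

theorem cov_finite [Finite (oGroup Q)] (hπ : IsCov π) (hcase : Case Q) : Finite E := by
  obtain ⟨ζ, hζ⟩ := ker_two hπ hcase
  haveI : Finite π.ker := by
    have hsub : (π.ker : Set E) ⊆ {1, ζ} := fun k hk => by
      rcases hζ k hk with rfl | rfl <;> simp
    exact ((Set.toFinite _).subset hsub).to_subtype
  haveI : Finite π.range := inferInstance
  exact π.finite_iff_finite_ker_range.2 ⟨inferInstance, inferInstance⟩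

instance finite_oGroup [Finite V] : Finite (oGroup Q) :=
  Finite.of_injective (fun g : oGroup Q => (g.1 : V → V)) fun a b h =>
    Subtype.ext (LinearEquiv.ext (congrFun h))

/-- The composite of a central extension with the cover is a cover. -/
theorem comp_isCov (hπ : IsCov π) {X : Type*} [Group X] (ξ : X →* E) (hs : Function.Surjective ξ)
    (hperf : commutator X = ⊤) (hc : ∀ x, ξ x ∈ Subgroup.center E → x ∈ Subgroup.center X) :
    IsCov (π.comp ξ) :=
  ⟨hπ.nd, hπ.dim, fun x hx => hc x (hπ.central hx), by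
    rw [MonoidHom.range_comp, MonoidHom.range_eq_top.2 hs, ← MonoidHom.range_eq_map, hπ.range], hperf⟩

end Cfsg.Agent.OmegaMult

namespace Cfsg.Agent.OmegaMult

open QuadraticMap Module Cfsg.Agent.Orth Cfsg.Agent.TwoGenOrth
open scoped commutatorElement

universe v

variable {F V : Type*} [Field F] [AddCommGroup V] [Module F V] {Q : QuadraticForm F V}
  [FiniteDimensional F V] [Fintype F] {E : Type v} [Group E] {π : E →* oGroup Q}

/-- A cover has trivial multiplier once its kernel is as large as allowed. -/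
theorem cov_mult_one [Finite E] (hπ : IsCov π) (hcase : Case Q)
    (hmax : (2 : F) = 0 ∨ ∃ z, π z = 1 ∧ z ≠ 1) : Cfsg.HasCyclicSchurMultiplier E 1 := by
  refine Schur.hasCyclicSchurMultiplier_one_of fun X _ ξ hs hc => ?_
  obtain ⟨hmap, hperfD, hcent⟩ := derived_central ξ hs hc hπ.perfect
  obtain ⟨ξ', hξ'⟩ : ∃ f, f = ξ.comp (commutator X).subtype := ⟨_, rfl⟩
  have hs' : Function.Surjective ξ' := fun g => by
    obtain ⟨d, hd, rfl⟩ := (hmap ▸ Subgroup.mem_top g : g ∈ (commutator X).map ξ)
    exact ⟨⟨d, hd⟩, by rw [hξ']; rfl⟩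
  have hcov := comp_isCov hπ ξ' hs' hperfD fun d hd => hcent d (by rw [hξ'] at hd; exact hd)
  rw [eq_bot_iff]
  rintro k ⟨hk, hkD⟩
  have hk1 : π.comp ξ' ⟨k, hkD⟩ = 1 := by
    rw [hξ']; show π (ξ k) = 1; rw [show ξ k = 1 from hk, map_one]
  rw [Subgroup.mem_bot]
  suffices h : (⟨k, hkD⟩ : ↥(commutator X)) = 1 from congrArg Subtype.val h
  rcases hmax with h2 | ⟨z, hz, hz1⟩
  · obtain ⟨b, b', c, c', h⟩ := exists_quad hπ.nd hπ.dim
    exact kernel_trivial hcov (chi_of hcov hcase) h h2 hk1
  · obtain ⟨ζ, hζ⟩ := ker_two hcov hcase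
    obtain ⟨d, hd⟩ := hs' z
    have hd1 : π.comp ξ' d = 1 := by rw [MonoidHom.comp_apply, hd, hz]
    have hdne : d ≠ 1 := fun h => hz1 (by rw [← hd, h, map_one])
    rcases hζ _ hk1 with h | h
    · exact h
    · exfalso
      have hd2 : d = ζ := (hζ d hd1).resolve_left hdne
      apply hz1
      rw [← hd, hd2, ← h, hξ']
      exact hk

/-- The kernel of a proper cover has two elements. -/
theorem cov_ker_card (hπ : IsCov π) (hcase : Case Q) (hz : ∃ z, π z = 1 ∧ z ≠ 1) : Nat.card π.ker = 2 := by
  obtain ⟨ζ, hζ⟩ := ker_two hπ hcase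
  obtain ⟨z, hz, hz1⟩ := hz
  have hzζ : z = ζ := (hζ z hz).resolve_left hz1
  rw [Nat.card_eq_two_iff]
  refine ⟨1, ⟨z, hz⟩, fun h => hz1 (congrArg Subtype.val h).symm, Set.eq_univ_iff_forall.2 fun k => ?_⟩
  rcases hζ k.1 k.2 with h | h
  · exact Or.inl (Subtype.ext h)
  · exact Or.inr (Subtype.ext (h.trans hzζ.symm))

/-- With a proper kernel, the torus element of any frame generates it. -/
theorem zeta_ne_one (hπ : IsCov π) (hcase : Case Q) (hz : ∃ z, π z = 1 ∧ z ≠ 1) {b b' c c' : V}
    (h : Quad Q b b' c c') : hL π b b' c c' (-1) * hL π b b' c' c (-1) ≠ 1 := by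
  intro h0
  obtain ⟨z, hz, hz1⟩ := hz
  rcases kernel_bound hπ (chi_of hπ hcase) h hz with h1 | h1
  · exact hz1 h1
  · exact hz1 (h1.trans h0)

end Cfsg.Agent.OmegaMult
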