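import Cfsg.Agent.Lib.OmegaMult.Torus

/-!
The multipliers of the projective Omega groups in terms of the centre and of a square.
-/

set_option autoImplicit false
set_option linter.unusedSectionVars false
set_option linter.unusedSimpArgs false
set_option linter.unusedVariables false
set_option linter.style.haveILetI false

namespace Cfsg.Agent.OmegaMult

open QuadraticMap Module Cfsg.Agent.Orth Cfsg.Agent.TwoGenOrth
open scoped commutatorElement

universe u

variable {ι : Type} [Fintype ι] [DecidableEq ι] {F : Type u} [Field F] [Fintype F] {Q : QuadraticForm F (ι → F)}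
  {E : Type u} [Group E] {π : E →* oGroup Q}

/-- The projection of a cover onto the projective group. -/
theorem exists_proj (hπ : IsCov π) (hn : 7 ≤ Fintype.card ι) :
    ∃ Φ : E →* Cfsg.POmega F (⇑Q), Function.Surjective Φ ∧ Φ.ker ≤ Subgroup.center E ∧
      Nat.card Φ.ker = Nat.card π.ker * Nat.card (Subgroup.center ↥(Cfsg.Omega F (⇑Q))) ∧
      (∀ g, Φ g = 1 ↔ ∃ a : F, a * a = 1 ∧ ∀ x, (π g).1 x = a • x) ∧
      ∀ g, (∀ x, (π g).1 x = -x) → ∃ s : ↥(Cfsg.isometryGroup F (⇑Q)), s ∈ Cfsg.Omega F (⇑Q) ∧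
        ((s : GL ι F) : Matrix ι ι F) = -1 := by
  obtain ⟨π', hπ'⟩ : ∃ f : E →* omg Q, ∀ g, (f g).1 = π g :=
    ⟨π.codRestrict (omg Q) fun g => (hπ.range ▸ ⟨g, rfl⟩ : π g ∈ commutator (oGroup Q)), fun g => rfl⟩
  obtain ⟨ρ, hρ⟩ : ∃ f : E →* ↥(Cfsg.Omega F (⇑Q)), f = (omegaEquiv Q).symm.toMonoidHom.comp π' := ⟨_, rfl⟩
  have hs' : Function.Surjective π' := by
    intro g
    obtain ⟨x, hx⟩ := (hπ.range.symm ▸ g.2 : g.1 ∈ π.range)
    exact ⟨x, Subtype.ext ((hπ' x).trans hx)⟩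
  have hsρ : Function.Surjective ρ := hρ ▸ (omegaEquiv Q).symm.surjective.comp hs'
  have hk : ρ.ker = π.ker := by
    ext g
    rw [hρ, MonoidHom.mem_ker, MonoidHom.mem_ker, MonoidHom.comp_apply, MulEquiv.coe_toMonoidHom,
      MulEquiv.map_eq_one_iff, ← hπ' g]
    exact ⟨fun h => by rw [h]; rfl, fun h => Subtype.ext h⟩
  have happ : ∀ g x, ((ρ g).1 : GL ι F).1.mulVec x = (π g).1 x := fun g x => by
    rw [← omegaEquiv_apply, hρ, MonoidHom.comp_apply, MulEquiv.coe_toMonoidHom, MulEquiv.apply_symm_apply, hπ']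
  have hcent : ∀ g, ρ g ∈ Subgroup.center ↥(Cfsg.Omega F (⇑Q)) ↔ ∃ a : F, a * a = 1 ∧ ∀ x, (π g).1 x = a • x := by
    intro g
    rw [center_omega_iff hπ.nd hn]
    refine ⟨fun ⟨a, ha, h⟩ => ⟨a, ha, fun x => by rw [← happ, h, Matrix.smul_mulVec, Matrix.one_mulVec]⟩,
      fun ⟨a, ha, h⟩ => ⟨a, ha, Matrix.ext_iff_mulVec.2 fun x => ?_⟩⟩
    rw [happ, h, Matrix.smul_mulVec, Matrix.one_mulVec]
  let Φ : E →* Cfsg.POmega F (⇑Q) := (QuotientGroup.mk' (Subgroup.center ↥(Cfsg.Omega F (⇑Q)))).comp ρ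
  have hΦ : ∀ g, Φ g = 1 ↔ ρ g ∈ Subgroup.center ↥(Cfsg.Omega F (⇑Q)) := fun g => QuotientGroup.eq_one_iff _
  refine ⟨Φ, (QuotientGroup.mk'_surjective _).comp hsρ, fun g hg => ?_, ?_, fun g => (hΦ g).trans (hcent g),
    fun g hg => ⟨(ρ g).1, (ρ g).2, Matrix.ext_iff_mulVec.2 fun x => ?_⟩⟩
  · -- central by perfectness
    have hc : π'.ker ≤ Subgroup.center E := fun x hx => hπ.central (by
      rw [MonoidHom.mem_ker] at hx ⊢
      rw [← hπ' x, hx]; rfl)
    have hgc : π' g ∈ Subgroup.center (omg Q) := by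
      have h1 := (hΦ g).1 hg
      rw [Subgroup.mem_center_iff] at h1 ⊢
      intro y
      refine (omegaEquiv Q).symm.injective ?_
      rw [map_mul, map_mul]
      simpa [hρ] using h1 ((omegaEquiv Q).symm y)
    have hgD : g ∈ commutator E := hπ.perfect ▸ Subgroup.mem_top g
    have := (derived_central π' hs' hc (commutator_omg hπ.nd hπ.dim)).2.2 ⟨g, hgD⟩ hgc
    rw [Subgroup.mem_center_iff] at this ⊢
    exact fun y => congrArg Subtype.val (this ⟨y, hπ.perfect ▸ Subgroup.mem_top y⟩)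
  · let r : Φ.ker →* Subgroup.center ↥(Cfsg.Omega F (⇑Q)) :=
      (ρ.comp Φ.ker.subtype).codRestrict _ fun g => (hΦ g.1).1 g.2
    have hr : Function.Surjective r := fun c => by
      obtain ⟨g, hg⟩ := hsρ c.1
      exact ⟨⟨g, (hΦ g).2 (hg.symm ▸ c.2)⟩, Subtype.ext hg⟩
    have hker : Nat.card r.ker = Nat.card π.ker := by
      refine Nat.card_congr
        ⟨fun g => ⟨g.1.1, ?_⟩, fun g => ⟨⟨g.1, ?_⟩, ?_⟩, fun g => rfl, fun g => rfl⟩
      · rw [← hk, MonoidHom.mem_ker]; exact congrArg Subtype.val g.2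
      · exact (hΦ g.1).2 (by rw [show ρ g.1 = 1 from MonoidHom.mem_ker.1 (hk.symm ▸ g.2)]; exact Subgroup.one_mem _)
      · refine Subtype.ext ?_
        show ρ g.1 = 1
        exact MonoidHom.mem_ker.1 ((SetLike.ext_iff.1 hk g.1).2 g.2)
    rw [← hker, Subgroup.card_eq_card_quotient_mul_card_subgroup r.ker,
      Nat.card_congr (QuotientGroup.quotientKerEquivOfSurjective r hr).toEquiv, mul_comm]
  · rw [happ, hg, Matrix.neg_mulVec, Matrix.one_mulVec]

/-- The value of the case split for a projective group. -/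
theorem pomega_mult [Finite E] (hπ : IsCov π) (hn : 7 ≤ Fintype.card ι) (hE : Cfsg.HasCyclicSchurMultiplier E 1)
    {A : Type} [CommGroup A]
    (hA : ∀ (K : Subgroup E),
      Nat.card K = Nat.card π.ker * Nat.card (Subgroup.center ↥(Cfsg.Omega F (⇑Q))) →
      (∀ g, g ∈ K ↔ ∃ a : F, a * a = 1 ∧ ∀ x, (π g).1 x = a • x) → Nonempty (A ≃* K)) :
    Cfsg.HasSchurMultiplier (Cfsg.POmega F (⇑Q)) A := by
  obtain ⟨Φ, hs, hc, hcard, hmem, -⟩ := exists_proj hπ hn
  obtain ⟨e⟩ := hA Φ.ker hcard hmem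
  exact Schur.hasSchurMultiplier_of_perfect hπ.perfect hE Φ hs hc e

/-- Characteristic two: trivial. -/
theorem pomega_even (hQ : (polarBilin Q).Nondegenerate) (hn : 7 ≤ Fintype.card ι) (h2 : (2 : F) = 0)
    (hcase : Case Q) : Cfsg.HasCyclicSchurMultiplier (Cfsg.POmega F (⇑Q)) 1 := by
  have hn' : 7 ≤ finrank F (ι → F) := by rwa [Module.finrank_fintype_fun_eq_card]
  have hπ : IsCov (omg Q).subtype :=
    ⟨hQ, hn', fun g hg => by
      have : g = 1 := Subtype.ext hg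
      rw [this]; exact Subgroup.one_mem _, Subgroup.range_subtype _, commutator_omg hQ hn'⟩
  refine pomega_mult hπ hn (cov_mult_one hπ hcase (Or.inl h2)) fun K hK _ => ?_
  have h1 : Nat.card (omg Q).subtype.ker = 1 := by
    rw [(MonoidHom.ker_eq_bot_iff _).2 (omg Q).subtype_injective, Subgroup.card_bot]
  rw [h1, card_center_one hQ hn (Or.inl h2)] at hK
  haveI : Subsingleton K := (Nat.card_eq_one_iff_unique.1 hK).1
  exact exists_mult_equiv_cyclic hK isCyclic_of_subsingleton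

section Odd

variable (hπ : IsCov π) (hcase : Case Q) (hz : ∃ z, π z = 1 ∧ z ≠ 1) (hn : 7 ≤ Fintype.card ι)
  (h2 : (2 : F) ≠ 0)
include hπ hcase hz hn h2

theorem ker_sq {k : E} (hk : π k = 1) : k * k = 1 := by
  obtain ⟨ζ, hζ⟩ := ker_two hπ hcase
  rcases hζ k hk with rfl | rfl
  · exact mul_one 1
  · rcases hζ (k * k) (by rw [map_mul, hk, one_mul]) with h | h
    · exact h
    · rw [mul_eq_left] at h; rw [h, mul_one]

/-- Trivial centre: order two. -/
theorem pomega_two [Finite E] (h1 : Nat.card (Subgroup.center ↥(Cfsg.Omega F (⇑Q))) = 1) :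
    Cfsg.HasCyclicSchurMultiplier (Cfsg.POmega F (⇑Q)) 2 := by
  haveI := Fact.mk Nat.prime_two
  refine pomega_mult hπ hn (cov_mult_one hπ hcase (Or.inr hz)) fun K hK _ => ?_
  rw [cov_ker_card hπ hcase hz, h1, mul_one] at hK
  exact exists_mult_equiv_cyclic hK (isCyclic_of_prime_card hK)

theorem center_two {z : E} (hzneg : ∀ x, (π z).1 x = -x) :
    Nat.card (Subgroup.center ↥(Cfsg.Omega F (⇑Q))) = 2 := by
  obtain ⟨Φ, -, -, -, -, hneg⟩ := exists_proj hπ hn
  exact (card_center_two hπ.nd hn h2).1 (hneg z hzneg)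

theorem pomega_four_klein [Finite E] {z : E} (hzneg : ∀ x, (π z).1 x = -x) (hzz : z * z = 1) :
    Cfsg.HasSchurMultiplier (Cfsg.POmega F (⇑Q)) (Multiplicative (ZMod 2 × ZMod 2)) := by
  refine pomega_mult hπ hn (cov_mult_one hπ hcase (Or.inr hz)) fun K hK hKmem => ?_
  rw [cov_ker_card hπ hcase hz, center_two hπ hcase hz hn h2 hzneg] at hK
  refine exists_mult_equiv_klein hK fun g => Subtype.ext ?_
  show g.1 * g.1 = 1
  obtain ⟨a, ha, hga⟩ := (hKmem g.1).1 g.2
  rcases mul_self_eq_one_iff.1 ha with rfl | rfl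
  · exact ker_sq hπ hcase hz hn h2 (Subtype.ext (LinearEquiv.ext fun x => by rw [hga, one_smul]; rfl))
  · have hd : π (z⁻¹ * g.1) = 1 := by
      rw [map_mul, map_inv, inv_mul_eq_one]
      exact Subtype.ext (LinearEquiv.ext fun x => by rw [hzneg, hga, neg_one_smul])
    have hk := hπ.central (MonoidHom.mem_ker.2 hd)
    have hsq := ker_sq hπ hcase hz hn h2 hd
    obtain ⟨d, hdd⟩ : ∃ d, z⁻¹ * g.1 = d := ⟨_, rfl⟩
    rw [hdd] at hk hsq
    rw [show g.1 = z * d by rw [← hdd, mul_inv_cancel_left], show z * d * (z * d) = z * (d * z) * d by group,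
      central_mul_comm hk z, ← mul_assoc, hzz, one_mul, hsq]

theorem pomega_four_cyclic [Finite E] {z : E} (hzneg : ∀ x, (π z).1 x = -x) (hzz : z * z ≠ 1) :
    Cfsg.HasCyclicSchurMultiplier (Cfsg.POmega F (⇑Q)) 4 := by
  refine pomega_mult hπ hn (cov_mult_one hπ hcase (Or.inr hz)) fun K hK hKmem => ?_
  rw [cov_ker_card hπ hcase hz, center_two hπ hcase hz hn h2 hzneg] at hK
  haveI : Finite K := Nat.finite_of_card_ne_zero (by omega)
  refine exists_mult_equiv_cyclic hK ?_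
  obtain ⟨w, hw⟩ : ∃ w : K, w.1 = z := ⟨⟨z, (hKmem z).2 ⟨-1, by ring, fun x => by rw [hzneg, neg_one_smul]⟩⟩, rfl⟩
  refine isCyclic_of_orderOf_eq_card w ?_
  rw [hK]
  refine orderOf_eq_prime_pow (p := 2) (n := 1) (fun h => hzz ?_) ?_
  · have h' := congrArg Subtype.val h
    rw [pow_one, Subgroup.coe_pow, hw, pow_two] at h'
    exact h'
  · have h := pow_card_eq_one' (G := K) (x := w)
    rw [hK] at h
    exact h

end Odd

/-- The spin cover with all its properties. -/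
theorem spin_props (hQ : (polarBilin Q).Nondegenerate) (hn : 7 ≤ Fintype.card ι) (h2 : (2 : F) ≠ 0)
    (hcase : Case Q) :
    IsCov (spinProj Q) ∧ (∃ z, spinProj Q z = 1 ∧ z ≠ 1) ∧ Finite ↥(spinSub Q) := by
  have hn' : 7 ≤ finrank F (ι → F) := by rwa [Module.finrank_fintype_fun_eq_card]
  exact ⟨spin_isCov hQ hn', spin_ker_ne hQ hn' h2, cov_finite (spin_isCov hQ hn') hcase⟩

end Cfsg.Agent.OmegaMult
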