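import Cfsg.Agent.Lib.OmegaMult.Comm

/-!
Equivariant lifts of the long root elements.
-/

set_option autoImplicit false
set_option linter.unusedSectionVars false
set_option linter.unusedSimpArgs false
set_option linter.unusedVariables false

namespace Cfsg.Agent.OmegaMult

open QuadraticMap Module Cfsg.Agent.Orth Cfsg.Agent.TwoGenOrth
open scoped commutatorElement

variable {F V : Type*} [Field F] [AddCommGroup V] [Module F V] {Q : QuadraticForm F V}

variable (Q) in
/-- A totally singular pair. -/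
structure Tot (a b : V) : Prop where
  qa : Q a = 0
  qb : Q b = 0
  ab : polar Q a b = 0

theorem Tot.symm {a b : V} (h : Tot Q a b) : Tot Q b a := ⟨h.qb, h.qa, by rw [b_comm, h.ab]⟩

theorem Tot.smul_right {a b : V} (h : Tot Q a b) (s : F) : Tot Q a (s • b) :=
  ⟨h.qa, by rw [q_smul, h.qb, mul_zero], by rw [b_smul_right, h.ab, mul_zero]⟩

theorem Tot.add {a b b' : V} (h : Tot Q a b) (h' : Tot Q a b') (hbb : polar Q b b' = 0) :
    Tot Q a (b + b') :=
  ⟨h.qa, by rw [q_add, h.qb, h'.qb, hbb]; ring, by rw [b_add_right, h.ab, h'.ab, add_zero]⟩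

theorem Tot.map {a b : V} (h : Tot Q a b) (g : oGroup Q) : Tot Q (g.1 a) (g.1 b) :=
  ⟨by rw [g.2, h.qa], by rw [g.2, h.qb], by rw [b_map g.2, h.ab]⟩

theorem sg_tot_swap {a b : V} (h : Tot Q a b) (k : F) : sg Q b (k • a) = sg Q a (-(k • b)) := by
  rw [← sg_scale k h.qb h.symm.ab,
    sg_swap (u := k • b) (y := a) (by rw [q_smul, h.qb, mul_zero]) h.qa (by rw [b_smul_left, h.symm.ab, mul_zero])]

theorem notMem_span_pair_map {a b c : V} (g : oGroup Q) (h : c ∉ Submodule.span F {a, b}) :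
    g.1 c ∉ Submodule.span F {g.1 a, g.1 b} := by
  rw [Submodule.mem_span_pair]
  rintro ⟨s, t, hst⟩
  rw [← map_smul, ← map_smul, ← map_add] at hst
  exact h (Submodule.mem_span_pair.2 ⟨s, t, g.1.injective hst⟩)

variable [FiniteDimensional F V] [Fintype F]

/-- Partners for three independent totally singular vectors. -/
theorem exists_frame3 (hQ : (polarBilin Q).Nondegenerate) {a b c : V} (hab : Tot Q a b) (hac : Tot Q a c)
    (hbc : Tot Q b c) (ha0 : a ≠ 0) (hb : b ∉ Submodule.span F {a}) (hc : c ∉ Submodule.span F {a, b}) :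
    ∃ a' b' c', Pair Q a a' ∧ Pair Q b b' ∧ Pair Q c c' ∧ b ∈ pp Q a a' ∧ b' ∈ pp Q a a' ∧
      c ∈ pp Q a a' ∧ c' ∈ pp Q a a' ∧ c ∈ pp Q b b' ∧ c' ∈ pp Q b b' := by
  have hT := good_top (Q := Q) hQ
  have hc0 : c ≠ 0 := fun h => hc (h ▸ Submodule.zero_mem _)
  have haS : a ∉ Submodule.span F {b, c} := by
    rw [Submodule.mem_span_pair]
    rintro ⟨s, t, hst⟩
    rcases eq_or_ne t 0 with rfl | ht
    · rcases eq_or_ne s 0 with rfl | hs
      · exact ha0 (by rw [← hst, zero_smul, zero_smul, add_zero])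
      exact hb (Submodule.mem_span_singleton.2 ⟨s⁻¹, by
        rw [← hst, zero_smul, add_zero, smul_smul, inv_mul_cancel₀ hs, one_smul]⟩)
    refine hc (Submodule.mem_span_pair.2 ⟨t⁻¹, -(t⁻¹ * s), ?_⟩)
    rw [← hst]; match_scalars <;> field_simp <;> ring
  obtain ⟨a', -, hPa, ha'⟩ := exists_pair_avoid hT (T := Submodule.span F {b, c}) le_top Submodule.mem_top haS
    hab.qa (fun t ht => by
      obtain ⟨s, u, rfl⟩ := Submodule.mem_span_pair.1 ht
      rw [b_add_left, b_smul_left, b_smul_left, hab.symm.ab, hac.symm.ab]; ring)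
  have hS1 := good_inf hT hPa Submodule.mem_top Submodule.mem_top
  have hbS : b ∈ (⊤ : Submodule F V) ⊓ pp Q a a' :=
    ⟨Submodule.mem_top, hab.symm.ab, ha' b (Submodule.subset_span (by simp))⟩
  have hcS : c ∈ (⊤ : Submodule F V) ⊓ pp Q a a' :=
    ⟨Submodule.mem_top, hac.symm.ab, ha' c (Submodule.subset_span (by simp))⟩
  have hbT : b ∉ Submodule.span F {c} := by
    rw [Submodule.mem_span_singleton]
    rintro ⟨t, ht⟩
    rcases eq_or_ne t 0 with rfl | ht0
    · exact hb (by rw [← ht, zero_smul]; exact Submodule.zero_mem _)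
    exact hc (Submodule.mem_span_pair.2 ⟨0, t⁻¹, by
      rw [← ht, smul_smul, inv_mul_cancel₀ ht0, zero_smul, one_smul, zero_add]⟩)
  obtain ⟨b', hb'S, hPb, hb'⟩ := exists_pair_avoid hS1 (T := Submodule.span F {c})
    (by rw [Submodule.span_singleton_le_iff_mem]; exact hcS) hbS hbT hab.qb
    (fun t ht => by
      obtain ⟨s, rfl⟩ := Submodule.mem_span_singleton.1 ht
      rw [b_smul_left, hbc.symm.ab, mul_zero])
  have hcS2 : c ∈ pp Q b b' := ⟨hbc.symm.ab, hb' c (Submodule.mem_span_singleton_self c)⟩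
  obtain ⟨c', hc'S, hPc⟩ := exists_pair_of (good_inf hS1 hPb hbS hb'S) ⟨hcS, hcS2⟩ hc0 hac.qb
  exact ⟨a', b', c', hPa, hPb, hPc, hbS.2, hb'S.2, hcS.2, hc'S.1.2, hcS2, hc'S.2⟩

/-- Auxiliary vectors orthogonal to three totally singular ones. -/
theorem exists_vw3 (hQ : (polarBilin Q).Nondegenerate) (hn : 7 ≤ finrank F V) {a b c : V} (hab : Tot Q a b)
    (hac : Tot Q a c) (hbc : Tot Q b c) (ha0 : a ≠ 0) (hb : b ∉ Submodule.span F {a})
    (hc : c ∉ Submodule.span F {a, b}) :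
    ∃ v w, polar Q v w = 1 ∧ polar Q v a = 0 ∧ polar Q v b = 0 ∧ polar Q v c = 0 ∧ polar Q w a = 0 ∧
      polar Q w b = 0 ∧ polar Q w c = 0 := by
  obtain ⟨a', b', c', hPa, hPb, hPc, h1, h2, h3, h4, h5, h6⟩ := exists_frame3 hQ hab hac hbc ha0 hb hc
  have hS1 := good_inf (good_top hQ) hPa Submodule.mem_top Submodule.mem_top
  have hS2 := good_inf hS1 hPb ⟨Submodule.mem_top, h1⟩ ⟨Submodule.mem_top, h2⟩
  have hS3 := good_inf hS2 hPc ⟨⟨Submodule.mem_top, h3⟩, h5⟩ ⟨⟨Submodule.mem_top, h4⟩, h6⟩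
  have hd1 := finrank_inf_pp (Q := Q) ⊤ a a'
  rw [finrank_top] at hd1
  have hd2 := finrank_inf_pp (Q := Q) (⊤ ⊓ pp Q a a') b b'
  have hd3 := finrank_inf_pp (Q := Q) (⊤ ⊓ pp Q a a' ⊓ pp Q b b') c c'
  obtain ⟨v, hv, w, hw, hvw⟩ := exists_one hS3 (ne_bot_of_finrank (by omega))
  exact ⟨v, w, hvw, hv.1.1.2.1, hv.1.2.1, hv.2.1, hw.1.1.2.1, hw.1.2.1, hw.2.1⟩

theorem exists_vw (hQ : (polarBilin Q).Nondegenerate) (hn : 7 ≤ finrank F V) {a b : V} (hab : Tot Q a b)
    (ha0 : a ≠ 0) (hb : b ∉ Submodule.span F {a}) :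
    ∃ v w, polar Q v w = 1 ∧ polar Q v a = 0 ∧ polar Q v b = 0 ∧ polar Q w a = 0 ∧ polar Q w b = 0 := by
  have hT := good_top (Q := Q) hQ
  have hb0 : b ≠ 0 := fun h => hb (h ▸ Submodule.zero_mem _)
  have haT : a ∉ Submodule.span F {b} := by
    rw [Submodule.mem_span_singleton]
    rintro ⟨t, ht⟩
    rcases eq_or_ne t 0 with rfl | ht0
    · exact ha0 (by rw [← ht, zero_smul])
    exact hb (Submodule.mem_span_singleton.2 ⟨t⁻¹, by rw [← ht, smul_smul, inv_mul_cancel₀ ht0, one_smul]⟩)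
  obtain ⟨a', -, hPa, ha'⟩ := exists_pair_avoid hT (T := Submodule.span F {b}) le_top Submodule.mem_top haT
    hab.qa (fun t ht => by
      obtain ⟨s, rfl⟩ := Submodule.mem_span_singleton.1 ht
      rw [b_smul_left, hab.symm.ab, mul_zero])
  have hS1 := good_inf hT hPa Submodule.mem_top Submodule.mem_top
  have hbS : b ∈ (⊤ : Submodule F V) ⊓ pp Q a a' :=
    ⟨Submodule.mem_top, hab.symm.ab, ha' b (Submodule.mem_span_singleton_self b)⟩
  obtain ⟨b', hb'S, hPb⟩ := exists_pair_of hS1 hbS hb0 hab.qb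
  have hd1 := finrank_inf_pp (Q := Q) ⊤ a a'
  rw [finrank_top] at hd1
  have hd2 := finrank_inf_pp (Q := Q) (⊤ ⊓ pp Q a a') b b'
  obtain ⟨v, hv, w, hw, hvw⟩ := exists_one (good_inf hS1 hPb hbS hb'S) (ne_bot_of_finrank (by omega))
  exact ⟨v, w, hvw, hv.1.2.1, hv.2.1, hw.1.2.1, hw.2.1⟩

variable {E : Type*} [Group E] {π : E →* oGroup Q}

/-- Data defining the lift of a root element. -/
def RootWit (Q : QuadraticForm F V) (a b : V) (p : V × V) : Prop :=
  Tot Q a b ∧ a ≠ 0 ∧ b ∉ Submodule.span F {a} ∧ polar Q p.1 p.2 = 1 ∧ polar Q p.1 a = 0 ∧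
    polar Q p.1 b = 0 ∧ polar Q p.2 a = 0 ∧ polar Q p.2 b = 0

/-- The lift of the root element of a totally singular pair. -/
noncomputable def r (π : E →* oGroup Q) (a b : V) : E := by
  classical
  exact if h : ∃ p, RootWit Q a b p then C π (sg Q a h.choose.1) (sg Q b h.choose.2) else 1

theorem r_dep {a b : V} (h : b ∈ Submodule.span F {a}) : r π a b = 1 := by
  rw [r, dif_neg]
  rintro ⟨p, -, -, hb, -⟩
  exact hb h

theorem r_zero_left (b : V) : r π 0 b = 1 := by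
  rw [r, dif_neg]
  rintro ⟨p, -, ha, -⟩
  exact ha rfl

theorem r_zero_right (a : V) : r π a 0 = 1 := r_dep (Submodule.zero_mem _)

variable (hπ : IsCov π) (hchi : Chi π)
include hπ hchi

theorem r_eq {a b v w : V} (h : Tot Q a b) (ha : a ≠ 0) (hb : b ∉ Submodule.span F {a})
    (hvw : polar Q v w = 1) (hva : polar Q v a = 0) (hvb : polar Q v b = 0) (hwa : polar Q w a = 0)
    (hwb : polar Q w b = 0) : r π a b = C π (sg Q a v) (sg Q b w) := by
  have hex : ∃ p, RootWit Q a b p := ⟨(v, w), h, ha, hb, hvw, hva, hvb, hwa, hwb⟩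
  rw [r, dif_pos hex]
  obtain ⟨-, -, -, h1, h2, h3, h4, h5⟩ := hex.choose_spec
  exact hπ.R_indep hchi h.qa h.qb h.ab ha hb h2 h3 h4 h5 hva hvb hwa hwb (h1.trans hvw.symm)

theorem pi_r {a b : V} (h : Tot Q a b) : π (r π a b) = sg Q a b := by
  by_cases hb : b ∈ Submodule.span F {a}
  · obtain ⟨s, rfl⟩ := Submodule.mem_span_singleton.1 hb
    rw [r_dep hb, map_one, sg_self h.qa]
  rcases eq_or_ne a 0 with rfl | ha
  · rw [r_zero_left, map_one, sg_zero_left]
  obtain ⟨v, w, hvw, hva, hvb, hwa, hwb⟩ := exists_vw hπ.nd hπ.dim h ha hb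
  rw [r_eq hπ hchi h ha hb hvw hva hvb hwa hwb,
    pi_C (hπ.sg_range h.qa (by rw [b_comm]; exact hva)) (hπ.sg_range h.qb (by rw [b_comm]; exact hwb)),
    sg_comm h.qa h.qb h.ab hva hvb hwa hwb, hvw, one_smul]

theorem r_conj (z : E) {a b : V} (h : Tot Q a b) :
    z * r π a b * z⁻¹ = r π ((π z).1 a) ((π z).1 b) := by
  obtain ⟨g, hg⟩ : ∃ g, g = π z := ⟨_, rfl⟩
  rw [← hg]
  by_cases hb : b ∈ Submodule.span F {a}
  · obtain ⟨s, rfl⟩ := Submodule.mem_span_singleton.1 hb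
    rw [r_dep hb, mul_one, mul_inv_cancel,
      r_dep (Submodule.mem_span_singleton.2 ⟨s, (map_smul g.1 s a).symm⟩)]
  rcases eq_or_ne a 0 with rfl | ha
  · rw [r_zero_left, map_zero, r_zero_left, mul_one, mul_inv_cancel]
  obtain ⟨v, w, hvw, hva, hvb, hwa, hwb⟩ := exists_vw hπ.nd hπ.dim h ha hb
  have hgb : g.1 b ∉ Submodule.span F {g.1 a} := by
    rw [Submodule.mem_span_singleton]
    rintro ⟨s, hs⟩
    rw [← map_smul] at hs
    exact hb (Submodule.mem_span_singleton.2 ⟨s, g.1.injective hs⟩)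
  rw [r_eq hπ hchi h ha hb hvw hva hvb hwa hwb,
    r_eq hπ hchi (h.map g) ((LinearEquiv.map_ne_zero_iff _).2 ha) hgb (v := g.1 v) (w := g.1 w)
      (by rw [b_map g.2, hvw]) (by rw [b_map g.2, hva]) (by rw [b_map g.2, hvb]) (by rw [b_map g.2, hwa])
      (by rw [b_map g.2, hwb]),
    hπ.C_conj z (hπ.sg_range h.qa (by rw [b_comm]; exact hva)) (hπ.sg_range h.qb (by rw [b_comm]; exact hwb)),
    ← hg, sg_conj_eq h.qa (by rw [b_comm]; exact hva) rfl rfl,
    sg_conj_eq h.qb (by rw [b_comm]; exact hwb) rfl rfl]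

theorem r_inv {a b : V} (h : Tot Q a b) : r π b a = (r π a b)⁻¹ := by
  rcases eq_or_ne a 0 with rfl | ha
  · rw [r_zero_left, r_zero_right, inv_one]
  rcases eq_or_ne b 0 with rfl | hb0
  · rw [r_zero_left, r_zero_right, inv_one]
  by_cases hb : b ∈ Submodule.span F {a}
  · obtain ⟨s, rfl⟩ := Submodule.mem_span_singleton.1 hb
    have hs : s ≠ 0 := fun h0 => hb0 (by rw [h0, zero_smul])
    rw [r_dep hb, r_dep (Submodule.mem_span_singleton.2 ⟨s⁻¹, by rw [smul_smul, inv_mul_cancel₀ hs, one_smul]⟩),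
      inv_one]
  have hba : a ∉ Submodule.span F {b} := by
    rw [Submodule.mem_span_singleton]
    rintro ⟨t, ht⟩
    rcases eq_or_ne t 0 with rfl | ht0
    · exact ha (by rw [← ht, zero_smul])
    exact hb (Submodule.mem_span_singleton.2 ⟨t⁻¹, by rw [← ht, smul_smul, inv_mul_cancel₀ ht0, one_smul]⟩)
  obtain ⟨v, w, hvw, hva, hvb, hwa, hwb⟩ := exists_vw hπ.nd hπ.dim h ha hb
  rw [r_eq hπ hchi h ha hb hvw hva hvb hwa hwb,
    r_eq hπ hchi h.symm hb0 hba (v := w) (w := v) (by rw [b_comm, hvw]) hwb hwa hvb hva, hπ.C_inv]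

/-- Lifts of two root elements at one centre commute. -/
theorem r_commute {a b b' : V} (h : Tot Q a b) (h' : Tot Q a b') :
    r π a b * r π a b' = r π a b' * r π a b := by
  refine hπ.eq_comm_of_C ?_
  rw [pi_r hπ hchi h, pi_r hπ hchi h']
  exact hπ.omega_one hchi h.qa h.ab h'.ab

theorem r_eq_smul {a b v w : V} (h : Tot Q a b) (ha : a ≠ 0) (hb : b ∉ Submodule.span F {a})
    (hvw : polar Q v w = 1) (hva : polar Q v a = 0) (hvb : polar Q v b = 0) (hwa : polar Q w a = 0)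
    (hwb : polar Q w b = 0) (s : F) :
    r π a (s • b) = C π (sg Q a v) (sg Q b (s • w)) := by
  rcases eq_or_ne s 0 with rfl | hs
  · rw [zero_smul, zero_smul, r_zero_right, sg_zero h.qb, ← hπ.C_inv,
      hπ.C_one_left (hπ.sg_range h.qa (by rw [b_comm]; exact hva)), inv_one]
  rw [r_eq hπ hchi (h.smul_right s) ha (fun hm => hb ((Submodule.smul_mem_iff _ hs).1 hm)) hvw hva
    (by rw [b_smul_right, hvb, mul_zero]) hwa (by rw [b_smul_right, hwb, mul_zero]),
    sg_scale s h.qb (by rw [b_comm]; exact hwb)]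

theorem r_smul_add {a b : V} (h : Tot Q a b) (s t : F) :
    r π a ((s + t) • b) = r π a (s • b) * r π a (t • b) := by
  by_cases hb : b ∈ Submodule.span F {a}
  · rw [r_dep (Submodule.smul_mem _ _ hb), r_dep (Submodule.smul_mem _ _ hb),
      r_dep (Submodule.smul_mem _ _ hb), one_mul]
  rcases eq_or_ne a 0 with rfl | ha
  · rw [r_zero_left, r_zero_left, r_zero_left, one_mul]
  obtain ⟨v, w, hvw, hva, hvb, hwa, hwb⟩ := exists_vw hπ.nd hπ.dim h ha hb
  have hbw : polar Q b w = 0 := by rw [b_comm, hwb]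
  have hsw : ∀ u : F, polar Q b (u • w) = 0 := fun u => by rw [b_smul_right, hbw, mul_zero]
  rw [r_eq_smul hπ hchi h ha hb hvw hva hvb hwa hwb, r_eq_smul hπ hchi h ha hb hvw hva hvb hwa hwb,
    r_eq_smul hπ hchi h ha hb hvw hva hvb hwa hwb, add_smul, sg_add h.qb (hsw s) (hsw t),
    hπ.C_mul_right (hπ.sg_range h.qa (by rw [b_comm]; exact hva)) (hπ.sg_range h.qb (hsw s))
      (hπ.sg_range h.qb (hsw t))]
  congr 1
  rw [mul_inv_eq_iff_eq_mul]
  refine hπ.eq_comm_of_C ?_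
  rw [lift_spec (hπ.sg_range h.qb (hsw s)),
    pi_C (hπ.sg_range h.qa (by rw [b_comm]; exact hva)) (hπ.sg_range h.qb (hsw t)),
    sg_comm h.qa h.qb h.ab hva hvb (by rw [b_smul_left, hwa, mul_zero]) (by rw [b_smul_left, hwb, mul_zero]),
    b_smul_right, hvw, mul_one, show t • b = -((-t) • b) by module, ← sg_tot_swap h]
  exact hπ.omega_one hchi h.qb (hsw s) (by rw [b_smul_right, h.symm.ab, mul_zero])

theorem r_smul_left {a b : V} (h : Tot Q a b) (s : F) : r π (s • a) b = r π a (s • b) := by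
  rcases eq_or_ne s 0 with rfl | hs
  · rw [zero_smul, zero_smul, r_zero_left, r_zero_right]
  rcases eq_or_ne a 0 with rfl | ha
  · rw [smul_zero, r_zero_left, r_zero_left]
  by_cases hb : b ∈ Submodule.span F {a}
  · rw [r_dep (Submodule.smul_mem _ _ hb), r_dep]
    rwa [Submodule.span_singleton_smul_eq hs.isUnit]
  obtain ⟨v, w, hvw, hva, hvb, hwa, hwb⟩ := exists_vw hπ.nd hπ.dim h ha hb
  have h' : Tot Q (s • a) b := (h.symm.smul_right s).symm
  rw [r_eq_smul hπ hchi h ha hb hvw hva hvb hwa hwb,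
    r_eq hπ hchi h' (smul_ne_zero hs ha) (by rwa [Submodule.span_singleton_smul_eq hs.isUnit]) hvw
      (by rw [b_smul_right, hva, mul_zero]) hvb (by rw [b_smul_right, hwa, mul_zero]) hwb,
    sg_scale s h.qa (by rw [b_comm]; exact hva)]
  exact hπ.R_indep hchi h.qa h.qb h.ab ha hb (by rw [b_smul_left, hva, mul_zero]) (by rw [b_smul_left, hvb, mul_zero])
    hwa hwb hva hvb (by rw [b_smul_left, hwa, mul_zero]) (by rw [b_smul_left, hwb, mul_zero])
    (by rw [b_smul_left, b_smul_right])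

theorem r_add_self {a b : V} (h : Tot Q a b) (s : F) : r π a (b + s • a) = r π a b := by
  by_cases hb : b ∈ Submodule.span F {a}
  · rw [r_dep hb, r_dep (Submodule.add_mem _ hb (Submodule.smul_mem _ _ (Submodule.mem_span_singleton_self a)))]
  rcases eq_or_ne a 0 with rfl | ha
  · rw [r_zero_left, r_zero_left]
  obtain ⟨v, w, hvw, hva, hvb, hwa, hwb⟩ := exists_vw hπ.nd hπ.dim h ha hb
  have hav : polar Q a v = 0 := by rw [b_comm, hva]
  have hbw : polar Q b w = 0 := by rw [b_comm, hwb]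
  have haa : polar Q a a = 0 := by rw [b_self, h.qa, mul_zero]
  have hsw : polar Q a (s • w) = 0 := by rw [b_smul_right, b_comm, hwa, mul_zero]
  have hsa : Tot Q a (s • a) := ⟨h.qa, by rw [q_smul, h.qa, mul_zero], by rw [b_smul_right, haa, mul_zero]⟩
  have hbsa : polar Q b (s • a) = 0 := by rw [b_smul_right, h.symm.ab, mul_zero]
  have e3 : sg Q b ((-Q w) • s • a) = sg Q a (-((-Q w * s) • b)) := by rw [smul_smul, sg_tot_swap h]
  have hk : polar Q a (-((-Q w * s) • b)) = 0 := by rw [b_neg_right, b_smul_right, h.ab, mul_zero, neg_zero]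
  rw [r_eq hπ hchi h ha hb hvw hva hvb hwa hwb,
    r_eq hπ hchi (h.add hsa hbsa) ha
      (fun hm => hb (by
        have := Submodule.sub_mem _ hm (Submodule.smul_mem _ s (Submodule.mem_span_singleton_self a))
        rwa [add_sub_cancel_right] at this))
      hvw hva (by rw [b_add_right, b_smul_right, hvb, hva, mul_zero, add_zero]) hwa
      (by rw [b_add_right, b_smul_right, hwb, hwa, mul_zero, add_zero]),
    sg_add_left h.qb (by rw [q_smul, h.qa, mul_zero]) hbsa hbw (by rw [b_smul_left, b_comm, hwa, mul_zero]),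
    sg_scale s h.qa (by rw [b_comm]; exact hwa), e3]
  have r1 := hπ.sg_range h.qa hav
  have r2 := hπ.sg_range h.qb hbw
  have r3 := hπ.sg_range h.qa hsw
  have r4 := hπ.sg_range h.qa hk
  rw [hπ.C_mul_right r1 (mul_mem r2 r3) r4, hπ.omega_one hchi h.qa hav hk, mul_one, mul_inv_cancel, mul_one,
    hπ.C_mul_right r1 r2 r3, hπ.omega_one hchi h.qa hav hsw, mul_one, mul_inv_cancel, mul_one]

theorem r_add {a b b' : V} (h : Tot Q a b) (h' : Tot Q a b') (hbb : polar Q b b' = 0) :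
    r π a (b + b') = r π a b * r π a b' := by
  by_cases hb : b ∈ Submodule.span F {a}
  · obtain ⟨s, rfl⟩ := Submodule.mem_span_singleton.1 hb
    rw [add_comm, r_add_self hπ hchi h', r_dep hb, one_mul]
  rcases eq_or_ne a 0 with rfl | ha
  · rw [r_zero_left, r_zero_left, r_zero_left, one_mul]
  by_cases hb' : b' ∈ Submodule.span F {a, b}
  · obtain ⟨s, t, rfl⟩ := Submodule.mem_span_pair.1 hb'
    rw [show b + (s • a + t • b) = (1 + t) • b + s • a by module, r_add_self hπ hchi (h.smul_right _),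
      r_smul_add hπ hchi h, one_smul, add_comm (s • a), r_add_self hπ hchi (h.smul_right _)]
  have hbt : Tot Q b b' := ⟨h.qb, h'.qb, hbb⟩
  obtain ⟨v, w, hvw, hva, hvb, hvb', hwa, hwb, hwb'⟩ := exists_vw3 hπ.nd hπ.dim h h' hbt ha hb hb'
  have hav : polar Q a v = 0 := by rw [b_comm, hva]
  have hbw : polar Q b w = 0 := by rw [b_comm, hwb]
  have hb'w : polar Q b' w = 0 := by rw [b_comm, hwb']
  have hbq : polar Q b ((-Q w) • b') = 0 := by rw [b_smul_right, hbb, mul_zero]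
  have hnb : b' ∉ Submodule.span F {a} := fun hm => hb' (Submodule.span_mono (by simp) hm)
  have hbb' : b + b' ∉ Submodule.span F {a} := fun hm => hb' (by
    have := Submodule.sub_mem (Submodule.span F ({a, b} : Set V)) (Submodule.span_mono (by simp) hm)
      (Submodule.subset_span (show b ∈ ({a, b} : Set V) by simp))
    rwa [add_sub_cancel_left] at this)
  have hb0 : b ≠ 0 := fun h0 => hb (h0 ▸ Submodule.zero_mem _)
  have r1 := hπ.sg_range h.qa hav
  have r2 := hπ.sg_range h.qb hbw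
  have r3 := hπ.sg_range h'.qb hb'w
  have r4 := hπ.sg_range h.qb hbq
  have hab' : a ∉ Submodule.span F {b, b'} := by
    rw [Submodule.mem_span_pair]
    rintro ⟨s, t, hst⟩
    rcases eq_or_ne t 0 with rfl | ht
    · rcases eq_or_ne s 0 with rfl | hs
      · exact ha (by rw [← hst, zero_smul, zero_smul, add_zero])
      exact hb (Submodule.mem_span_singleton.2 ⟨s⁻¹, by
        rw [← hst, zero_smul, add_zero, smul_smul, inv_mul_cancel₀ hs, one_smul]⟩)
    refine hb' (Submodule.mem_span_pair.2 ⟨t⁻¹, -(t⁻¹ * s), ?_⟩)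
    rw [← hst]; match_scalars <;> field_simp <;> ring
  rw [r_eq hπ hchi h ha hb hvw hva hvb hwa hwb, r_eq hπ hchi h' ha hnb hvw hva hvb' hwa hwb',
    r_eq hπ hchi (h.add h' hbb) ha hbb' hvw hva (by rw [b_add_right, hvb, hvb', add_zero]) hwa
      (by rw [b_add_right, hwb, hwb', add_zero]),
    sg_add_left h.qb h'.qb hbb hbw hb'w]
  have hX : C π (sg Q a v) (sg Q b ((-Q w) • b')) = 1 := by
    rcases eq_or_ne (-Q w) 0 with h0 | h0
    · rw [h0, zero_smul, sg_zero h.qb, ← hπ.C_inv, hπ.C_one_left r1, inv_one]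
    rw [← hπ.C_inv, inv_eq_one]
    refine hchi b _ a v h.qb (by rw [q_smul, h'.qb, mul_zero]) h.qa hbq h.symm.ab
      (by rw [b_smul_left, h'.symm.ab, mul_zero]) hb0 (fun hm => hb' ?_) (fun hm => hab' ?_) hvb
      (by rw [b_smul_right, hvb', mul_zero]) hva
    · exact Submodule.span_mono (by simp) ((Submodule.smul_mem_iff _ h0).1 hm)
    · obtain ⟨s, t, hst⟩ := Submodule.mem_span_pair.1 hm
      exact Submodule.mem_span_pair.2 ⟨s, t * -Q w, by rw [← hst, smul_smul]⟩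
  rw [hπ.C_mul_right r1 (mul_mem r2 r3) r4, hX, mul_one, mul_inv_cancel, mul_one, hπ.C_mul_right r1 r2 r3]
  congr 1
  rw [mul_inv_eq_iff_eq_mul]
  refine hπ.eq_comm_of_C ?_
  rw [lift_spec r2, pi_C r1 r3, sg_comm h.qa h'.qb h'.ab hva hvb' hwa hwb', hvw, one_smul, ← hπ.C_inv,
    inv_eq_one]
  refine hchi a b' b w h.qa h'.qb h.qb h'.ab h.ab hbt.symm.ab ha hnb (fun hm => ?_) hwa hwb' hwb
  obtain ⟨s, t, hst⟩ := Submodule.mem_span_pair.1 hm
  rcases eq_or_ne t 0 with rfl | ht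
  · exact hb (Submodule.mem_span_singleton.2 ⟨s, by rw [← hst, zero_smul, add_zero]⟩)
  refine hb' (Submodule.mem_span_pair.2 ⟨-(t⁻¹ * s), t⁻¹, ?_⟩)
  rw [← hst]; match_scalars <;> field_simp <;> ring

end Cfsg.Agent.OmegaMult
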