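import Cfsg.Agent.Lib.OmegaMult.ChiProof
import Cfsg.Agent.Lib.Orthogonal.Spinor

/-!
The spin cover of the commutator subgroup of an orthogonal group in odd characteristic.
-/

set_option autoImplicit false
set_option linter.unusedSectionVars false
set_option linter.unusedSimpArgs false
set_option linter.unusedVariables false

namespace Cfsg.Agent.OmegaMult

open QuadraticMap Module Cfsg.Agent.Orth Cfsg.Agent.TwoGenOrth
open scoped commutatorElement

variable {F V : Type*} [Field F] [AddCommGroup V] [Module F V] {Q : QuadraticForm F V}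

theorem isRefl_smul {r : V ≃ₗ[F] V} {v : V} (h : IsRefl r Q v) {k : F} (hk : k ≠ 0) : IsRefl r Q (k • v) := by
  refine ⟨by rw [q_smul]; exact mul_ne_zero (mul_ne_zero hk hk) h.1, fun x => ?_⟩
  rw [h.2, q_smul, b_smul_right, smul_smul]
  congr 2
  have := h.1
  field_simp

/-- The generators: reflections with the vectors inducing them. -/
def cliffGens (Q : QuadraticForm F V) : Set (oGroup Q × (CliffordAlgebra Q)ˣ) :=
  {p | ∃ v, IsRefl p.1.1 Q v ∧ (p.2 : CliffordAlgebra Q) = CliffordAlgebra.ι Q v}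

/-- The Clifford group. -/
def cliff (Q : QuadraticForm F V) : Subgroup (oGroup Q × (CliffordAlgebra Q)ˣ) :=
  Subgroup.closure (cliffGens Q)

theorem cliffGens_inv {p : oGroup Q × (CliffordAlgebra Q)ˣ} (hp : p ∈ cliffGens Q) : p⁻¹ ∈ cliffGens Q := by
  obtain ⟨v, hv, hu⟩ := hp
  refine ⟨(Q v)⁻¹ • v, ?_, ?_⟩
  · have : (p⁻¹).1 = p.1 := inv_eq_of_mul_eq_one_left (Subtype.ext hv.mul_self)
    rw [this]
    exact isRefl_smul hv (inv_ne_zero hv.1)
  · show ((p.2⁻¹ : (CliffordAlgebra Q)ˣ) : CliffordAlgebra Q) = _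
    refine Units.inv_eq_of_mul_eq_one_right ?_
    rw [hu, map_smul, mul_smul_comm, CliffordAlgebra.ι_sq_scalar, Algebra.algebraMap_eq_smul_one, smul_smul,
      inv_mul_cancel₀ hv.1, one_smul]

theorem exists_cliffGen {v : V} (hv : Q v ≠ 0) :
    ∃ p ∈ cliffGens Q, IsRefl p.1.1 Q v ∧ (p.2 : CliffordAlgebra Q) = CliffordAlgebra.ι Q v := by
  obtain ⟨r, hr, h⟩ := exists_isRefl hv
  have h1 : CliffordAlgebra.ι Q v * CliffordAlgebra.ι Q ((Q v)⁻¹ • v) = 1 := by
    rw [map_smul, mul_smul_comm, CliffordAlgebra.ι_sq_scalar, Algebra.algebraMap_eq_smul_one, smul_smul,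
      inv_mul_cancel₀ hv, one_smul]
  have h2 : CliffordAlgebra.ι Q ((Q v)⁻¹ • v) * CliffordAlgebra.ι Q v = 1 := by
    rw [map_smul, smul_mul_assoc, CliffordAlgebra.ι_sq_scalar, Algebra.algebraMap_eq_smul_one, smul_smul,
      inv_mul_cancel₀ hv, one_smul]
  exact ⟨(⟨r, hr⟩, ⟨_, _, h1, h2⟩), ⟨v, h, rfl⟩, h, rfl⟩

theorem cliff_isLift {p : oGroup Q × (CliffordAlgebra Q)ˣ} (hp : p ∈ cliff Q) :
    ∃ (ε : ZMod 2) (c : Fˣ), IsLift Q p.1.1 ε c (p.2 : CliffordAlgebra Q) := by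
  have step : ∀ s ∈ cliffGens Q, ∀ q : oGroup Q × (CliffordAlgebra Q)ˣ,
      (∃ (ε : ZMod 2) (c : Fˣ), IsLift Q q.1.1 ε c (q.2 : CliffordAlgebra Q)) →
      ∃ (ε : ZMod 2) (c : Fˣ), IsLift Q (s * q).1.1 ε c ((s * q).2 : CliffordAlgebra Q) := by
    rintro s ⟨v, hv, hu⟩ q ⟨ε, c, hq⟩
    refine ⟨1 + ε, Units.mk0 _ hv.1 * c, ?_⟩
    rw [Prod.fst_mul, Prod.snd_mul, Units.val_mul, hu]
    exact (isLift_refl hv).mul hq
  induction hp using Subgroup.closure_induction_left with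
  | one => exact ⟨0, 1, isLift_one⟩
  | mul_left s hs q _ hq => exact step s hs q hq
  | inv_mul_cancel s hs q _ hq => exact step s⁻¹ (cliffGens_inv hs) q hq

/-- The projection to the orthogonal group. -/
def cliffProj (Q : QuadraticForm F V) : cliff Q →* oGroup Q := (MonoidHom.fst _ _).comp (cliff Q).subtype

section Finite

variable [FiniteDimensional F V]

theorem lift_scalar (hQ : (polarBilin Q).Nondegenerate) {x : CliffordAlgebra Q} {ε : ZMod 2} {c : Fˣ}
    (h : IsLift Q 1 ε c x) : ∃ r : F, x = algebraMap F _ r := by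
  obtain ⟨hx1, hx2, hx3⟩ := h
  have hinvol : CliffordAlgebra.involute x = sgn F ε • x := by
    rcases (show ∀ e : ZMod 2, e = 0 ∨ e = 1 by decide) ε with rfl | rfl
    · rw [CliffordAlgebra.involute_eq_of_mem_even hx1, sgn, if_pos rfl, one_smul]
    · rw [CliffordAlgebra.involute_eq_of_mem_odd hx1, sgn, if_neg one_ne_zero, neg_one_smul]
  have hsq : sgn F ε * sgn F ε = 1 := by unfold sgn; split <;> simp
  refine exists_scalar x fun d => ?_
  obtain ⟨y, hy⟩ := exists_rep hQ d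
  have hd : d = polarBilin Q y := LinearMap.ext fun z => by
    rw [polarBilin_apply_apply, b_comm, hy]
  have h1 := ι_mul_eq_contract y x
  rw [hinvol, smul_mul_assoc, hx3, smul_smul, hsq, one_smul] at h1
  rw [hd]
  exact left_eq_add.1 h1

theorem cliffProj_ker (hQ : (polarBilin Q).Nondegenerate) :
    (cliffProj Q).ker ≤ Subgroup.center (cliff Q) := by
  intro p hp
  rw [MonoidHom.mem_ker] at hp
  obtain ⟨ε, c, h⟩ := cliff_isLift p.2
  rw [show p.1.1 = 1 from hp] at h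
  obtain ⟨r, hr⟩ := lift_scalar hQ h
  rw [Subgroup.mem_center_iff]
  intro q
  refine Subtype.ext (Prod.ext ?_ (Units.ext ?_))
  · show q.1.1 * p.1.1 = p.1.1 * q.1.1
    rw [show p.1.1 = 1 from hp, mul_one, one_mul]
  · show (q.1.2 : CliffordAlgebra Q) * p.1.2 = p.1.2 * q.1.2
    rw [hr, Algebra.commutes]

variable [Fintype F]

theorem cliffProj_surj (hQ : (polarBilin Q).Nondegenerate) (h : Fintype.card F ≠ 2 ∨ finrank F V ≠ 4) :
    Function.Surjective (cliffProj Q) := by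
  intro g
  have hle := oGroup_le_of_refl hQ h (K := (cliffProj Q).range.map (oGroup Q).subtype) fun {r a} hr => by
    obtain ⟨p, hp, hp1, -⟩ := exists_cliffGen hr.1
    refine ⟨⟨r, hr.mem⟩, ⟨⟨p, Subgroup.subset_closure hp⟩, Subtype.ext (LinearEquiv.ext fun x => ?_)⟩, rfl⟩
    show p.1.1 x = r x
    rw [hp1.2, hr.2]
  obtain ⟨g', ⟨p, hp⟩, hg'⟩ := hle g.2
  exact ⟨p, hp.trans (Subtype.ext hg')⟩

theorem omega_perfect (hQ : (polarBilin Q).Nondegenerate) (hn : 7 ≤ finrank F V) :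
    ⁅commutator (oGroup Q), commutator (oGroup Q)⁆ = commutator (oGroup Q) := by
  have h : ((commutator (omg Q)).map (omg Q).subtype) = omg Q := by
    rw [commutator_omg hQ hn, ← MonoidHom.range_eq_map, Subgroup.range_subtype]
  rw [commutator_def, Subgroup.map_commutator, ← MonoidHom.range_eq_map, Subgroup.range_subtype] at h
  exact h

variable (Q) in
/-- The second derived subgroup of the Clifford group. -/
def spinSub : Subgroup (cliff Q) := ⁅commutator (cliff Q), commutator (cliff Q)⁆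

variable (Q) in
/-- The spin cover. -/
def spinProj : ↥(spinSub Q) →* oGroup Q := (cliffProj Q).comp (spinSub Q).subtype

theorem map_derived (hQ : (polarBilin Q).Nondegenerate) (hn : 7 ≤ finrank F V) :
    (commutator (cliff Q)).map (cliffProj Q) = commutator (oGroup Q) ∧
      (spinSub Q).map (cliffProj Q) = commutator (oGroup Q) := by
  have hs := cliffProj_surj hQ (Or.inr (by omega))
  have h1 : (commutator (cliff Q)).map (cliffProj Q) = commutator (oGroup Q) := by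
    rw [commutator_def, Subgroup.map_commutator, Subgroup.map_top_of_surjective _ hs, ← commutator_def]
  refine ⟨h1, ?_⟩
  rw [spinSub, Subgroup.map_commutator, h1, omega_perfect hQ hn]

theorem mem_spinSub_of (hQ : (polarBilin Q).Nondegenerate) (hn : 7 ≤ finrank F V) {x : cliff Q}
    (hx : cliffProj Q x ∈ commutator (oGroup Q)) : ∃ y ∈ spinSub Q, y⁻¹ * x ∈ Subgroup.center (cliff Q) := by
  rw [← (map_derived hQ hn).2] at hx
  obtain ⟨y, hy, hyx⟩ := hx
  exact ⟨y, hy, cliffProj_ker hQ (by rw [MonoidHom.mem_ker, map_mul, map_inv, hyx, inv_mul_cancel])⟩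

theorem comm_mem_spinSub (hQ : (polarBilin Q).Nondegenerate) (hn : 7 ≤ finrank F V) {x y : cliff Q}
    (hx : cliffProj Q x ∈ commutator (oGroup Q)) (hy : cliffProj Q y ∈ commutator (oGroup Q)) :
    ⁅x, y⁆ ∈ ⁅spinSub Q, spinSub Q⁆ := by
  obtain ⟨a, ha, hax⟩ := mem_spinSub_of hQ hn hx
  obtain ⟨b, hb, hby⟩ := mem_spinSub_of hQ hn hy
  rw [show x = a * (a⁻¹ * x) by group, show y = b * (b⁻¹ * y) by group, comm_left hax, comm_right hby]
  exact Subgroup.commutator_mem_commutator ha hb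

theorem spinSub_perfect (hQ : (polarBilin Q).Nondegenerate) (hn : 7 ≤ finrank F V) :
    ⁅spinSub Q, spinSub Q⁆ = spinSub Q := by
  refine le_antisymm (Subgroup.commutator_le.2 fun a ha b hb =>
    mul_mem (mul_mem (mul_mem ha hb) (inv_mem ha)) (inv_mem hb)) ?_
  rw [show spinSub Q = ⁅commutator (cliff Q), commutator (cliff Q)⁆ from rfl]
  refine Subgroup.commutator_le.2 fun x hx y hy => ?_
  exact comm_mem_spinSub hQ hn ((map_derived hQ hn).1 ▸ ⟨x, hx, rfl⟩)
    ((map_derived hQ hn).1 ▸ ⟨y, hy, rfl⟩)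

theorem spin_isCov (hQ : (polarBilin Q).Nondegenerate) (hn : 7 ≤ finrank F V) : IsCov (spinProj Q) := by
  refine ⟨hQ, hn, fun p hp => ?_, ?_, ?_⟩
  · rw [Subgroup.mem_center_iff]
    intro q
    exact Subtype.ext (Subgroup.mem_center_iff.1 (cliffProj_ker hQ hp) q.1)
  · rw [spinProj, MonoidHom.range_comp, Subgroup.range_subtype, (map_derived hQ hn).2]
  · refine Subgroup.map_injective (spinSub Q).subtype_injective ?_
    rw [commutator_def, Subgroup.map_commutator, ← MonoidHom.range_eq_map, Subgroup.range_subtype,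
      spinSub_perfect hQ hn]

/-- A product of two reflections of equal norm lies in the commutator subgroup. -/
theorem refl_mul_mem (hQ : (polarBilin Q).Nondegenerate) (hn : 5 ≤ finrank F V) {e f a b : V} (h : Pair Q e f)
    (ha : a ∈ pp Q e f) (hb : b ∈ pp Q e f) (hqa : Q a ≠ 0) (hab : Q b = Q a) {ra rb : oGroup Q}
    (hra : IsRefl ra.1 Q a) (hrb : IsRefl rb.1 Q b) : ra * rb ∈ commutator (oGroup Q) := by
  have hw : ∀ x ∈ pp Q e f, wO Q e f x ∈ commutator (oGroup Q) := fun x hx => by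
    have h1 : polar Q e x = 0 := by rw [b_comm]; exact hx.1
    have h2 : polar Q f ((Q x)⁻¹ • x) = 0 := by rw [b_smul_right, b_comm f x, hx.2, mul_zero]
    exact mul_mem (mul_mem (sg_mem hQ hn h.qa h1) (sg_mem hQ hn h.qa' h2)) (sg_mem hQ hn h.qa h1)
  have hqb : Q b ≠ 0 := by rw [hab]; exact hqa
  obtain ⟨a1, a2, a3⟩ := wO_apply h ha hqa
  obtain ⟨b1, b2, b3⟩ := wO_apply h hb hqb
  have he : (wO Q e f a * wO Q e f b).1 e = e := by
    rw [Subgroup.coe_mul, LinearEquiv.mul_apply, b1, map_smul, a2, smul_smul, hab, neg_mul_neg,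
      inv_mul_cancel₀ hqa, one_smul]
  have hf : (wO Q e f a * wO Q e f b).1 f = f := by
    rw [Subgroup.coe_mul, LinearEquiv.mul_apply, b2, map_smul, a1, smul_smul, hab, neg_mul_neg,
      mul_inv_cancel₀ hqa, one_smul]
  have heq : ra * rb = wO Q e f a * wO Q e f b := by
    refine Subtype.ext (LinearEquiv.ext fun x => ?_)
    obtain ⟨z, hz⟩ : ∃ z, x - polar Q x f • e - polar Q x e • f = z := ⟨_, rfl⟩
    have hzp : z ∈ pp Q e f := hz ▸ proj_mem h x
    rw [show x = polar Q x f • e + polar Q x e • f + z by rw [← hz]; abel]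
    generalize polar Q x f = p
    generalize polar Q x e = q
    rw [map_add, map_add, map_smul, map_smul, map_add, map_add, map_smul, map_smul, he, hf]
    congr 1
    · rw [Subgroup.coe_mul, LinearEquiv.mul_apply, LinearEquiv.mul_apply,
        hrb.fix (by rw [b_comm]; exact hb.1), hrb.fix (by rw [b_comm]; exact hb.2),
        hra.fix (by rw [b_comm]; exact ha.1), hra.fix (by rw [b_comm]; exact ha.2)]
    · rw [Subgroup.coe_mul, Subgroup.coe_mul, LinearEquiv.mul_apply, LinearEquiv.mul_apply, b3 z hzp,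
        a3 _ (Submodule.sub_mem _ hzp (Submodule.smul_mem _ _ hb)), hrb.2, hra.2]
      simp only [div_eq_mul_inv]
  rw [heq]
  exact mul_mem (hw a ha) (hw b hb)

/-- The spin cover is proper in odd characteristic. -/
theorem spin_ker_ne (hQ : (polarBilin Q).Nondegenerate) (hn : 7 ≤ finrank F V) (h2 : (2 : F) ≠ 0) :
    ∃ z, spinProj Q z = 1 ∧ z ≠ 1 := by
  have hT := good_top (Q := Q) hQ
  obtain ⟨e₁, -, f₁, -, h1⟩ := exists_pair hT (by rw [finrank_top]; omega)
  have hS1 := good_inf hT h1 Submodule.mem_top Submodule.mem_top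
  have d1 := finrank_inf_pp (Q := Q) ⊤ e₁ f₁
  rw [finrank_top] at d1
  obtain ⟨e₂, he2, f₂, hf2, h2'⟩ := exists_pair hS1 (by omega)
  have d2 := finrank_inf_pp (Q := Q) ((⊤ : Submodule F V) ⊓ pp Q e₁ f₁) e₂ f₂
  obtain ⟨e₃, he3, f₃, hf3, h3⟩ := exists_pair (good_inf hS1 h2' he2 hf2) (by omega)
  have q12 : Quad Q e₁ f₁ e₂ f₂ := Quad.of_mem h1 h2' he2.2 hf2.2
  have q13 : Quad Q e₁ f₁ e₃ f₃ := Quad.of_mem h1 h3 he3.1.2 hf3.1.2
  have q23 : Quad Q e₂ f₂ e₃ f₃ := Quad.of_mem h2' h3 he3.2 hf3.2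
  have perp2 : ∀ {p p' r r' : V}, Quad Q p p' r r' → polar Q (p + p') (r + r') = 0 ∧ r + r' ∈ pp Q p p' ∧
      p + p' ∈ pp Q r r' := fun h => ⟨by
      rw [b_add_left, b_add_right, b_add_right, h.ab, h.ab', h.a'b, h.a'b']; ring,
    ⟨by rw [b_add_left, h.swap.ab, h.swap.a'b]; ring, by rw [b_add_left, h.swap.ab', h.swap.a'b']; ring⟩,
    ⟨by rw [b_add_left, h.ab, h.a'b]; ring, by rw [b_add_left, h.ab', h.a'b']; ring⟩⟩
  obtain ⟨a, ha⟩ : ∃ a, e₁ + f₁ = a := ⟨_, rfl⟩
  obtain ⟨b, hb⟩ : ∃ b, e₂ + f₂ = b := ⟨_, rfl⟩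
  obtain ⟨c, hc⟩ : ∃ c, e₃ + f₃ = c := ⟨_, rfl⟩
  have qa : Q a = 1 := by rw [← ha, q_add, h1.qa, h1.qa', h1.b]; ring
  have qb : Q b = 1 := by rw [← hb, q_add, h2'.qa, h2'.qa', h2'.b]; ring
  have qc : Q c = 1 := by rw [← hc, q_add, h3.qa, h3.qa', h3.b]; ring
  have hab : polar Q a b = 0 := ha ▸ hb ▸ (perp2 q12).1
  have hac : polar Q a c = 0 := ha ▸ hc ▸ (perp2 q13).1
  have hbc : polar Q b c = 0 := hb ▸ hc ▸ (perp2 q23).1
  obtain ⟨A, hA, rA, uA⟩ := exists_cliffGen (Q := Q) (v := a) (by rw [qa]; exact one_ne_zero)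
  obtain ⟨B, hB, rB, uB⟩ := exists_cliffGen (Q := Q) (v := b) (by rw [qb]; exact one_ne_zero)
  obtain ⟨C, hC, rC, uC⟩ := exists_cliffGen (Q := Q) (v := c) (by rw [qc]; exact one_ne_zero)
  obtain ⟨X, hX⟩ : ∃ X : cliff Q, X = ⟨A * B, mul_mem (Subgroup.subset_closure hA) (Subgroup.subset_closure hB)⟩ :=
    ⟨_, rfl⟩
  obtain ⟨Y, hY⟩ : ∃ Y : cliff Q, Y = ⟨A * C, mul_mem (Subgroup.subset_closure hA) (Subgroup.subset_closure hC)⟩ :=
    ⟨_, rfl⟩
  have hXo : cliffProj Q X ∈ commutator (oGroup Q) := by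
    rw [hX]
    exact refl_mul_mem hQ (by omega) h3 (ha ▸ (perp2 q13).2.2) (hb ▸ (perp2 q23).2.2)
      (by rw [qa]; exact one_ne_zero) (by rw [qa, qb]) rA rB
  have hYo : cliffProj Q Y ∈ commutator (oGroup Q) := by
    rw [hY]
    exact refl_mul_mem hQ (by omega) h2' (ha ▸ (perp2 q12).2.2) (hc ▸ (perp2 q23).2.1)
      (by rw [qa]; exact one_ne_zero) (by rw [qa, qc]) rA rC
  have hz : ⁅X, Y⁆ ∈ spinSub Q := spinSub_perfect hQ hn ▸ comm_mem_spinSub hQ hn hXo hYo
  -- the two values anticommute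
  have hxy : ((X * Y).1.2 : CliffordAlgebra Q) = -((Y * X).1.2 : CliffordAlgebra Q) := by
    rw [hX, hY]
    show (A.2 : CliffordAlgebra Q) * B.2 * ((A.2 : CliffordAlgebra Q) * C.2) =
      -((A.2 : CliffordAlgebra Q) * C.2 * ((A.2 : CliffordAlgebra Q) * B.2))
    rw [uA, uB, uC]
    have sw : ∀ {x y : V}, polar Q x y = 0 → CliffordAlgebra.ι Q x * CliffordAlgebra.ι Q y =
        -(CliffordAlgebra.ι Q y * CliffordAlgebra.ι Q x) := fun {x y} h => by
      rw [CliffordAlgebra.ι_mul_ι_comm, h, map_zero, zero_sub]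
    have ba : polar Q b a = 0 := by rw [b_comm, hab]
    have ca : polar Q c a = 0 := by rw [b_comm, hac]
    rw [← mul_assoc, ← mul_assoc, mul_assoc (CliffordAlgebra.ι Q a) (CliffordAlgebra.ι Q b), sw ba,
      mul_assoc (CliffordAlgebra.ι Q a) (CliffordAlgebra.ι Q c), sw ca, mul_neg, mul_neg, neg_mul, neg_mul,
      ← mul_assoc, ← mul_assoc, CliffordAlgebra.ι_sq_scalar, qa, map_one, one_mul, one_mul, sw hbc]
  refine ⟨⟨⁅X, Y⁆, hz⟩, ?_, fun h => ?_⟩
  · obtain ⟨y1, y2⟩ : cliffProj Q X * cliffProj Q Y = cliffProj Q Y * cliffProj Q X ∧ True := by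
      refine ⟨?_, trivial⟩
      have comm : ∀ {r s : oGroup Q} {x y : V}, IsRefl r.1 Q x → IsRefl s.1 Q y → polar Q x y = 0 →
          Commute r s := fun {r s x y} hr hs hxy => Subtype.ext (LinearEquiv.ext fun w => by
        rw [Subgroup.coe_mul, Subgroup.coe_mul, LinearEquiv.mul_apply, LinearEquiv.mul_apply, hs.2, hr.2, hr.2 w,
          hs.2, b_sub_left, b_sub_left, b_smul_left, b_smul_left, hxy, b_comm y x, hxy, mul_zero, sub_zero,
          mul_zero, sub_zero]
        abel)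
      rw [hX, hY]
      show A.1 * B.1 * (A.1 * C.1) = A.1 * C.1 * (A.1 * B.1)
      exact ((((Commute.refl A.1).mul_right (comm rA rC hac))).mul_left
        ((comm rA rB hab).symm.mul_right (comm rB rC hbc))).eq
    show cliffProj Q ⁅X, Y⁆ = 1
    rw [map_commutatorElement, commutatorElement_eq_one_iff_mul_comm]
    exact y1
  · have h0 : X * Y = Y * X := commutatorElement_eq_one_iff_mul_comm.1 (congrArg Subtype.val h)
    rw [h0] at hxy
    have hne : (((Y * X).1.2 : (CliffordAlgebra Q)ˣ) : CliffordAlgebra Q) + ((Y * X).1.2 : CliffordAlgebra Q) = 0 := by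
      conv_lhs => arg 1; rw [hxy]
      exact neg_add_cancel _
    rw [← two_smul F, smul_eq_zero] at hne
    haveI := clifford_nontrivial (Q := Q)
    rcases hne with h' | h'
    · exact h2 h'
    · exact (Y * X).1.2.ne_zero h'

end Finite

end Cfsg.Agent.OmegaMult
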