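import Cfsg.Agent.Lib.OmegaMult.Mult

/-!
Preimages of the scalar `-1` in a perfect central extension, and their squares.
-/

set_option autoImplicit false
set_option linter.unusedSectionVars false
set_option linter.unusedSimpArgs false
set_option linter.unusedVariables false

namespace Cfsg.Agent.OmegaMult

open QuadraticMap Module Cfsg.Agent.Orth Cfsg.Agent.TwoGenOrth
open scoped commutatorElement

variable {F V : Type*} [Field F] [AddCommGroup V] [Module F V] {Q : QuadraticForm F V}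

theorem hyp_quad {m : ℕ} {e f : ℕ → V} (H : Hyp Q m e f) {i j : ℕ} (hi : i < m) (hj : j < m) (h : i ≠ j) :
    Quad Q (e i) (f i) (e j) (f j) :=
  ⟨⟨H.qe i hi, H.qf i hi, by rw [H.ef i hi i hi, if_pos rfl]⟩,
    ⟨H.qe j hj, H.qf j hj, by rw [H.ef j hj j hj, if_pos rfl]⟩, H.ee i hi j hj,
    by rw [H.ef i hi j hj, if_neg h], by rw [b_comm, H.ef j hj i hi, if_neg (Ne.symm h)], H.ff i hi j hj⟩

variable [FiniteDimensional F V] [Fintype F] {E : Type*} [Group E] {π : E →* oGroup Q}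
variable (hπ : IsCov π) (hchi : Chi π)
include hπ hchi

theorem hL_commute (z : E) {a a' b b' : V} (h : Quad Q a a' b b') (h1 : (π z).1 a = a) (h2 : (π z).1 a' = a')
    (h3 : (π z).1 b = b) (h4 : (π z).1 b' = b') (s : F) : Commute z (hL π a a' b b' s) := by
  have hw : ∀ t, Commute z (wL π a a' b b' t) := fun t => by
    have := wL_conj hπ hchi z h t
    rw [h1, h2, h3, h4, mul_inv_eq_iff_eq_mul] at this
    exact this
  exact (hw s).mul_right (hw (-1))

/-- The lift negating the first `2 * k` pairs. -/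
noncomputable def negPairs (π : E →* oGroup Q) (e f : ℕ → V) : ℕ → E
  | 0 => 1
  | k + 1 => negPairs π e f k * hL π (e (2 * k)) (f (2 * k)) (e (2 * k + 1)) (f (2 * k + 1)) (-1)

theorem negPairs_spec {m : ℕ} {e f : ℕ → V} (H : Hyp Q m e f) :
    ∀ k, 2 * k ≤ m →
      (∀ j < 2 * k, (π (negPairs π e f k)).1 (e j) = -e j ∧ (π (negPairs π e f k)).1 (f j) = -f j) ∧
      (∀ x, (∀ j < 2 * k, polar Q x (e j) = 0 ∧ polar Q x (f j) = 0) → (π (negPairs π e f k)).1 x = x) ∧
      (∀ z : E, (∀ j < 2 * k, (π z).1 (e j) = e j ∧ (π z).1 (f j) = f j) → Commute z (negPairs π e f k)) ∧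
      negPairs π e f k * negPairs π e f k = 1
  | 0, _ => by
    simp only [negPairs, map_one, mul_one, mul_zero, Nat.not_lt_zero, IsEmpty.forall_iff, implies_true, true_and]
    exact ⟨fun _ _ => rfl, fun z _ => Commute.one_right z, trivial⟩
  | k + 1, hk => by
    obtain ⟨ih1, ih2, ih3, ih4⟩ := negPairs_spec H k (by omega)
    have q : Quad Q (e (2 * k)) (f (2 * k)) (e (2 * k + 1)) (f (2 * k + 1)) :=
      hyp_quad H (by omega) (by omega) (by omega)
    have hn : (-1 : F) ≠ 0 := neg_ne_zero.2 one_ne_zero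
    obtain ⟨a1, a2, a3, a4, a5⟩ := hL_apply hπ hchi q hn
    simp only [inv_neg, inv_one, neg_one_smul] at a1 a2 a3 a4
    have perp : ∀ i < m, ∀ j < m, i ≠ j →
        (polar Q (e i) (e j) = 0 ∧ polar Q (e i) (f j) = 0) ∧ polar Q (f i) (e j) = 0 ∧ polar Q (f i) (f j) = 0 :=
      fun i hi j hj hij => ⟨⟨H.ee i hi j hj, by rw [H.ef i hi j hj, if_neg hij]⟩,
        by rw [b_comm, H.ef j hj i hi, if_neg (Ne.symm hij)], H.ff i hi j hj⟩
    have low : ∀ j < 2 * k, (π (hL π (e (2 * k)) (f (2 * k)) (e (2 * k + 1)) (f (2 * k + 1)) (-1))).1 (e j) = e j ∧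
        (π (hL π (e (2 * k)) (f (2 * k)) (e (2 * k + 1)) (f (2 * k + 1)) (-1))).1 (f j) = f j := by
      intro j hj
      obtain ⟨⟨p1, p2⟩, p3, p4⟩ := perp j (by omega) (2 * k) (by omega) (by omega)
      obtain ⟨⟨r1, r2⟩, r3, r4⟩ := perp j (by omega) (2 * k + 1) (by omega) (by omega)
      exact ⟨a5 _ p1 p2 r1 r2, a5 _ p3 p4 r3 r4⟩
    have high : ∀ j, 2 * k ≤ j → j < m →
        (π (negPairs π e f k)).1 (e j) = e j ∧ (π (negPairs π e f k)).1 (f j) = f j := by
      intro j hj hjm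
      refine ⟨ih2 _ fun i hi => ?_, ih2 _ fun i hi => ?_⟩
      · exact (perp j hjm i (by omega) (by omega)).1
      · exact (perp j hjm i (by omega) (by omega)).2
    refine ⟨fun j hj => ?_, fun x hx => ?_, fun z hz => ?_, ?_⟩
    · simp only [negPairs, map_mul, Subgroup.coe_mul, LinearEquiv.mul_apply]
      rcases Nat.lt_or_ge j (2 * k) with hlt | hge
      · rw [(low j hlt).1, (low j hlt).2]
        exact ih1 j hlt
      · obtain rfl | rfl : j = 2 * k ∨ j = 2 * k + 1 := by omega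
        · rw [a1, a3, map_neg, map_neg, (high _ hge (by omega)).1, (high _ hge (by omega)).2]
          exact ⟨rfl, rfl⟩
        · rw [a2, a4, map_neg, map_neg, (high _ hge (by omega)).1, (high _ hge (by omega)).2]
          exact ⟨rfl, rfl⟩
    · simp only [negPairs, map_mul, Subgroup.coe_mul, LinearEquiv.mul_apply]
      rw [a5 x (hx _ (by omega)).1 (hx _ (by omega)).2 (hx _ (by omega)).1 (hx _ (by omega)).2]
      exact ih2 x fun j hj => hx j (by omega)
    · exact (ih3 z fun j hj => hz j (by omega)).mul_right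
        (hL_commute hπ hchi z q (hz _ (by omega)).1 (hz _ (by omega)).2 (hz _ (by omega)).1 (hz _ (by omega)).2 _)
    · have hh : hL π (e (2 * k)) (f (2 * k)) (e (2 * k + 1)) (f (2 * k + 1)) (-1) *
          hL π (e (2 * k)) (f (2 * k)) (e (2 * k + 1)) (f (2 * k + 1)) (-1) = 1 := by
        rw [← (hL_props hπ hchi q).1 _ _ hn hn, neg_one_mul, _root_.neg_neg, hL_one hπ hchi q]
      have hc := ih3 _ low
      simp only [negPairs]
      rw [hc.mul_mul_mul_comm, ih4, hh, one_mul]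

omit hπ hchi in
/-- Negation is checked on a hyperbolic system and on its orthogonal. -/
theorem neg_of_hyp (g : oGroup Q) {m : ℕ} {e f : ℕ → V} (H : Hyp Q m e f)
    (he : ∀ j < m, g.1 (e j) = -e j ∧ g.1 (f j) = -f j) (hW : ∀ w, InW Q m e f w → g.1 w = -w) :
    ∀ x, g.1 x = -x := by
  intro x
  obtain ⟨T, hT⟩ : ∃ T : V →ₗ[F] V, T = g.1.toLinearMap + LinearMap.id := ⟨_, rfl⟩
  suffices hTx : T x = 0 by
    rw [hT] at hTx
    exact eq_neg_of_add_eq_zero_left hTx
  obtain ⟨w, hw⟩ : ∃ w, x - ∑ i ∈ Finset.range m, (polar Q x (f i) • e i + polar Q x (e i) • f i) = w := ⟨_, rfl⟩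
  have hwW : InW Q m e f w := by
    intro j hj
    rw [← hw]
    have hj' : j ∈ Finset.range m := Finset.mem_range.2 hj
    have key : ∀ y : V, polar Q (∑ i ∈ Finset.range m, (polar Q x (f i) • e i + polar Q x (e i) • f i)) y =
        ∑ i ∈ Finset.range m, (polar Q x (f i) * polar Q (e i) y + polar Q x (e i) * polar Q (f i) y) := fun y => by
      rw [← polarBilin_apply_apply, map_sum, LinearMap.sum_apply]
      refine Finset.sum_congr rfl fun i _ => ?_
      rw [polarBilin_apply_apply, b_add_left, b_smul_left, b_smul_left]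
    constructor <;> rw [b_sub_left, key]
    · rw [Finset.sum_eq_single_of_mem j hj' fun i hi hij => by
        rw [H.ee i (Finset.mem_range.1 hi) j hj, b_comm (f i), H.ef j hj i (Finset.mem_range.1 hi),
          if_neg (Ne.symm hij)]; ring]
      rw [H.ee j hj j hj, b_comm (f j), H.ef j hj j hj, if_pos rfl]; ring
    · rw [Finset.sum_eq_single_of_mem j hj' fun i hi hij => by
        rw [H.ff i (Finset.mem_range.1 hi) j hj, H.ef i (Finset.mem_range.1 hi) j hj, if_neg hij]; ring]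
      rw [H.ff j hj j hj, H.ef j hj j hj, if_pos rfl]; ring
  rw [sub_eq_iff_eq_add.1 hw, map_add, show T w = 0 by rw [hT]; simp [hW w hwW], zero_add, map_sum]
  refine Finset.sum_eq_zero fun i hi => ?_
  obtain ⟨p1, p2⟩ := he i (Finset.mem_range.1 hi)
  rw [map_add, map_smul, map_smul, hT]
  simp [p1, p2]

/-- The imaginary torus element squares to the torus element of the frame. -/
theorem itorus {a a' b b' : V} (h : Quad Q a a' b b') {i : F} (hi : i * i = -1) :
    let T := hL π a a' b b' i * hL π a a' b' b i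
    (π T).1 a = -a ∧ (π T).1 a' = -a' ∧ (π T).1 b = b ∧ (π T).1 b' = b' ∧
      (∀ x, polar Q x a = 0 → polar Q x a' = 0 → polar Q x b = 0 → polar Q x b' = 0 → (π T).1 x = x) ∧
      T * T = hL π a a' b b' (-1) * hL π a a' b' b (-1) := by
  intro T
  have hi0 : i ≠ 0 := fun h0 => by simp [h0] at hi
  have hq2 : Quad Q a a' b' b := ⟨h.pa, h.pb.symm, h.ab', h.ab, h.a'b', h.a'b⟩
  obtain ⟨a1, a2, a3, a4, a5⟩ := hL_apply hπ hchi h hi0
  obtain ⟨c1, c2, c3, c4, c5⟩ := hL_apply hπ hchi hq2 hi0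
  have hinv : i⁻¹ * i⁻¹ = -1 := by rw [← mul_inv, hi, inv_neg, inv_one]
  simp only [T, map_mul, Subgroup.coe_mul, LinearEquiv.mul_apply]
  refine ⟨?_, ?_, ?_, ?_, fun x x1 x2 x3 x4 => by rw [c5 x x1 x2 x4 x3, a5 x x1 x2 x3 x4], ?_⟩
  · rw [c1, map_smul, a1, smul_smul, hi, neg_one_smul]
  · rw [c3, map_smul, a3, smul_smul, hinv, neg_one_smul]
  · rw [c4, map_smul, a2, smul_smul, inv_mul_cancel₀ hi0, one_smul]
  · rw [c2, map_smul, a4, smul_smul, mul_inv_cancel₀ hi0, one_smul]
  · have hc : Commute (hL π a a' b' b i) (hL π a a' b b' i) :=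
      (((wL_pair hπ hchi h i i).mul_left (wL_pair hπ hchi h (-1) i)).mul_right
        ((wL_pair hπ hchi h i (-1)).mul_left (wL_pair hπ hchi h (-1) (-1)))).symm
    rw [hc.mul_mul_mul_comm, ← (hL_props hπ hchi h).1 _ _ hi0 hi0, ← (hL_props hπ hchi hq2).1 _ _ hi0 hi0, hi]

/-- Two Weyl elements of orthogonal vectors of equal norm. -/
theorem wtorus {e f u v x y : V} (h : Quad Q e f u v) (hx : x ∈ pp Q e f) (hy : y ∈ pp Q e f) (hq : Q x ≠ 0)
    (hxy : Q y = Q x) (hb : polar Q x y = 0) :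
    let T := Wk π e f x * Wk π e f y
    (π T).1 e = e ∧ (π T).1 f = f ∧ (π T).1 x = -x ∧ (π T).1 y = -y ∧
      (∀ z ∈ pp Q e f, polar Q z x = 0 → polar Q z y = 0 → (π T).1 z = z) ∧
      T * T = hL π e f u v (-1) * hL π e f v u (-1) := by
  intro T
  have hqy : Q y ≠ 0 := by rw [hxy]; exact hq
  have hp : Pair Q e f := h.pa
  have piW : ∀ w ∈ pp Q e f, π (Wk π e f w) = wO Q e f w := fun w hw => by
    have h1 : polar Q e w = 0 := by rw [b_comm]; exact hw.1
    have h2 : polar Q f ((Q w)⁻¹ • w) = 0 := by rw [b_smul_right, b_comm f w, hw.2, mul_zero]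
    rw [Wk, map_mul, map_mul, pi_kappa hπ hchi hp.qa h1, pi_kappa hπ hchi hp.qa' h2]
    rfl
  obtain ⟨x1, x2, x3⟩ := wO_apply hp hx hq
  obtain ⟨y1, y2, y3⟩ := wO_apply hp hy hqy
  simp only [T, map_mul, Subgroup.coe_mul, LinearEquiv.mul_apply, piW x hx, piW y hy]
  refine ⟨?_, ?_, ?_, ?_, fun z hz z1 z2 => ?_, ?_⟩
  · rw [y1, map_smul, x2, smul_smul, hxy, neg_mul_neg, inv_mul_cancel₀ hq, one_smul]
  · rw [y2, map_smul, x1, smul_smul, hxy, neg_mul_neg, mul_inv_cancel₀ hq, one_smul]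
  · rw [y3 x hx, hb, zero_mul, zero_smul, sub_zero, x3 x hx, b_self, mul_assoc, mul_inv_cancel₀ hq, mul_one,
      two_smul]
    abel
  · rw [y3 y hy, b_self, mul_assoc, mul_inv_cancel₀ hqy, mul_one, two_smul, sub_add_cancel_left, map_neg,
      x3 y hy, b_comm, hb, zero_mul, zero_smul, sub_zero]
  · rw [y3 z hz, z2, zero_mul, zero_smul, sub_zero, x3 z hz, z1, zero_mul, zero_smul, sub_zero]
  · -- conjugating one element by the other inverts it
    have self : Wk π e f (-x) = Wk π ((-(Q x)⁻¹) • f) ((-Q x) • e) x := by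
      have hc := Wk_conj hπ hchi (Wk π e f (-x)) hp ((pp Q e f).neg_mem hx)
      obtain ⟨n1, n2, n3⟩ := wO_apply hp ((pp Q e f).neg_mem hx) (by rwa [QuadraticMap.map_neg])
      rw [mul_inv_cancel_right, piW _ ((pp Q e f).neg_mem hx), n1, n2, n3 _ ((pp Q e f).neg_mem hx),
        QuadraticMap.map_neg] at hc
      rw [hc]
      congr 1
      rw [b_self, QuadraticMap.map_neg, mul_assoc, mul_inv_cancel₀ hq, mul_one, two_smul]
      abel
    have inv : Wk π e f y * Wk π e f x * (Wk π e f y)⁻¹ = (Wk π e f x)⁻¹ := by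
      rw [Wk_conj hπ hchi _ hp hx, piW y hy, y1, y2, y3 x hx, hb, zero_mul, zero_smul, sub_zero, hxy, ← self,
        Wk_neg hπ hchi hp hx]
    have sq : Wk π e f y * Wk π e f y = hL π e f u v (-1) * hL π e f v u (-1) := by
      have := Wk_scale hπ hchi h ((pp Q e f).neg_mem hy) (by rwa [QuadraticMap.map_neg])
        (neg_ne_zero.2 (one_ne_zero : (1 : F) ≠ 0))
      rwa [neg_one_smul, _root_.neg_neg] at this
    rw [show Wk π e f x * Wk π e f y * (Wk π e f x * Wk π e f y) =
      Wk π e f x * (Wk π e f y * Wk π e f x * (Wk π e f y)⁻¹) * (Wk π e f y * Wk π e f y) by group, inv,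
      mul_inv_cancel, one_mul, sq]

end Cfsg.Agent.OmegaMult
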