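import Cfsg.Agent.Lib.OmegaMult.Kappa
import Cfsg.Agent.Lib.SL2Pres.Universal

/-!
Lifts of Weyl and torus elements of long roots, and of the Weyl elements of anisotropic vectors.
-/

set_option autoImplicit false
set_option linter.unusedSectionVars false
set_option linter.unusedSimpArgs false
set_option linter.unusedVariables false

namespace Cfsg.Agent.OmegaMult

open QuadraticMap Module Cfsg.Agent.Orth Cfsg.Agent.TwoGenOrth
open scoped commutatorElement

section Matrices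

open Matrix Cfsg.Agent.SL2Pres

variable {F : Type*} [Field F]

theorem sl_mul_val (x y : SpecialLinearGroup (Fin 2) F) : (x * y).1 = x.1 * y.1 := rfl

theorem up_val' (t : F) : (up t).1 = !![1, t; 0, 1] := rfl

theorem low_val' (t : F) : (low t).1 = !![1, 0; t, 1] := rfl

/-- The diagonal matrix. -/
def diagSL (s : Fˣ) : SpecialLinearGroup (Fin 2) F :=
  ⟨!![(s : F), 0; 0, ((s⁻¹ : Fˣ) : F)], by simp [Matrix.det_fin_two]⟩

theorem diagSL_mul (s t : Fˣ) : diagSL (s * t) = diagSL s * diagSL t := by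
  apply Subtype.ext
  rw [sl_mul_val]
  simp [diagSL, Matrix.mul_fin_two, mul_comm]

theorem weyl_val {t : F} (ht : t ≠ 0) :
    (up t * low (-t⁻¹) * up t).1 = !![0, t; -t⁻¹, 0] := by
  simp only [sl_mul_val, up_val', low_val', Matrix.mul_fin_two]
  ext i j
  fin_cases i <;> fin_cases j <;> simp <;> field_simp <;> first | ring1 | simp | tauto

theorem weyl_mul {t u : F} (ht : t ≠ 0) (hu : u ≠ 0) :
    (up t * low (-t⁻¹) * up t) * (up u * low (-u⁻¹) * up u) =
      diagSL (Units.mk0 (-(t / u)) (neg_ne_zero.2 (div_ne_zero ht hu))) := by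
  apply Subtype.ext
  rw [sl_mul_val, weyl_val ht, weyl_val hu]
  simp only [diagSL, Matrix.mul_fin_two]
  ext i j
  fin_cases i <;> fin_cases j <;> simp <;> field_simp <;> first | ring1 | simp | tauto

theorem weyl_sym {t : F} (ht : t ≠ 0) :
    low (-t⁻¹) * up t * low (-t⁻¹) = up t * low (-t⁻¹) * up t := by
  apply Subtype.ext
  rw [weyl_val ht]
  simp only [sl_mul_val, up_val', low_val', Matrix.mul_fin_two]
  ext i j
  fin_cases i <;> fin_cases j <;> simp <;> field_simp <;> first | ring1 | simp | tauto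

end Matrices

variable {F V : Type*} [Field F] [AddCommGroup V] [Module F V] {Q : QuadraticForm F V}
  [FiniteDimensional F V] [Fintype F] {E : Type*} [Group E] {π : E →* oGroup Q}

/-- The lift of a Weyl element of a long root. -/
noncomputable def wL (π : E →* oGroup Q) (a a' b b' : V) (t : F) : E :=
  r π a (t • b) * r π a' (t⁻¹ • b') * r π a (t • b)

/-- The lift of a torus element of a long root. -/
noncomputable def hL (π : E →* oGroup Q) (a a' b b' : V) (s : F) : E :=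
  wL π a a' b b' s * wL π a a' b b' (-1)

/-- The lift of the Weyl element of an anisotropic vector orthogonal to a hyperbolic pair. -/
noncomputable def Wk (π : E →* oGroup Q) (e f x : V) : E :=
  kappa π e x * kappa π f ((Q x)⁻¹ • x) * kappa π e x

variable (hπ : IsCov π) (hchi : Chi π)
include hπ hchi

theorem r_neg {a b : V} (h : Tot Q a b) : r π a (-b) = (r π a b)⁻¹ := by
  rw [eq_inv_iff_mul_eq_one]
  have := r_smul_add hπ hchi h (-1 : F) 1
  rw [neg_add_cancel, zero_smul, r_zero_right, neg_one_smul, one_smul] at this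
  exact this.symm

theorem r_rev {a b : V} (h : Tot Q a b) (k : F) : r π b (k • a) = r π a (-(k • b)) := by
  rw [← r_smul_left hπ hchi h.symm, r_inv hπ hchi (h.smul_right k), r_neg hπ hchi (h.smul_right k)]

theorem r_add_left {a b : V} (h : Tot Q a b) (s : F) : r π (a + s • b) b = r π a b := by
  have hbb : polar Q b b = 0 := by rw [b_self, h.qb, mul_zero]
  have hs : Tot Q b (s • b) :=
    ⟨h.qb, by rw [q_smul, h.qb, mul_zero], by rw [b_smul_right, hbb, mul_zero]⟩
  have h' : Tot Q b (a + s • b) := h.symm.add hs (by rw [b_smul_right, h.ab, mul_zero])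
  rw [r_inv hπ hchi h', r_add_self hπ hchi h.symm, ← r_inv hπ hchi h.symm]

variable {a a' b b' : V}

theorem tot_q (h : Quad Q a a' b b') (s : F) : Tot Q a (s • b) :=
  (Tot.mk h.pa.qa h.pb.qa h.ab).smul_right s

theorem tot_q' (h : Quad Q a a' b b') (s : F) : Tot Q a' (s • b') :=
  (Tot.mk h.pa.qa' h.pb.qa' h.a'b').smul_right s

theorem pi_wL (h : Quad Q a a' b b') (t : F) : π (wL π a a' b b' t) = wS Q a a' b b' t := by
  simp only [wL, wS, map_mul, pi_r hπ hchi (tot_q hπ hchi h _), pi_r hπ hchi (tot_q' hπ hchi h _)]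

theorem wL_apply (h : Quad Q a a' b b') {t : F} (ht : t ≠ 0) :
    (π (wL π a a' b b' t)).1 a = t⁻¹ • b' ∧ (π (wL π a a' b b' t)).1 b = -(t⁻¹ • a') ∧
      (π (wL π a a' b b' t)).1 a' = t • b ∧ (π (wL π a a' b b' t)).1 b' = -(t • a) ∧
      ∀ x, polar Q x a = 0 → polar Q x a' = 0 → polar Q x b = 0 → polar Q x b' = 0 →
        (π (wL π a a' b b' t)).1 x = x := by
  rw [pi_wL hπ hchi h]
  exact wS_apply h ht

theorem exists_sl2 (h : Quad Q a a' b b') :
    ∃ ψ : Matrix.SpecialLinearGroup (Fin 2) F →* E, (∀ t, ψ (SL2Pres.up t) = r π a (t • b)) ∧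
      ∀ t, ψ (SL2Pres.low t) = r π a' ((-t) • b') := by
  have hab : Tot Q a b := ⟨h.pa.qa, h.pb.qa, h.ab⟩
  have hab' : Tot Q a' b' := ⟨h.pa.qa', h.pb.qa', h.a'b'⟩
  refine SL2Pres.exists_hom
    { X := fun t => r π a (t • b)
      Y := fun t => r π a' ((-t) • b')
      addX := fun t u => (r_smul_add hπ hchi hab t u).symm
      addY := fun t u => by rw [neg_add, r_smul_add hπ hchi hab']
      relX := ?_
      relY := ?_ }
  · intro t u ht
    have e : r π a (t • b) * r π a' ((- -t⁻¹) • b') * r π a (t • b) = wL π a a' b b' t := by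
      rw [_root_.neg_neg]; rfl
    obtain ⟨h1, h2, -, -, -⟩ := wL_apply hπ hchi h ht
    rw [e, r_conj hπ hchi _ (hab.smul_right u), h1, map_smul, h2, r_smul_left hπ hchi
      ⟨h.pb.qa', by rw [q_smul, QuadraticMap.map_neg, q_smul, h.pa.qa']; ring,
        by rw [b_smul_right, b_neg_right, b_smul_right, b_comm, h.a'b']; ring⟩,
      show t⁻¹ • u • -(t⁻¹ • a') = (-(t⁻¹ ^ 2 * u)) • a' by match_scalars; ring, r_rev hπ hchi hab']
    congr 1
    module
  · intro t u ht
    have hq : Quad Q a' a b' b := ⟨h.pa.symm, h.pb.symm, h.a'b', h.a'b, h.ab', h.ab⟩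
    have e : r π a' ((-t) • b') * r π a ((-t⁻¹) • b) * r π a' ((-t) • b') = wL π a' a b' b (-t) := by
      rw [wL, inv_neg]
    obtain ⟨h1, h2, -, -, -⟩ := wL_apply hπ hchi hq (neg_ne_zero.2 ht)
    rw [e, r_conj hπ hchi _ (hab'.smul_right (-u)), h1, map_smul, h2, r_smul_left hπ hchi
      ⟨h.pb.qa, by rw [q_smul, QuadraticMap.map_neg, q_smul, h.pa.qa]; ring,
        by rw [b_smul_right, b_neg_right, b_smul_right, b_comm, h.ab]; ring⟩,
      show (-t)⁻¹ • (-u) • -((-t)⁻¹ • a) = ((t⁻¹ ^ 2 * u)) • a by match_scalars; field_simp,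
      r_rev hπ hchi hab]
    congr 1
    module

theorem hL_props (h : Quad Q a a' b b') :
    (∀ s t, s ≠ 0 → t ≠ 0 → hL π a a' b b' (s * t) = hL π a a' b b' s * hL π a a' b b' t) ∧
    (∀ t u, t ≠ 0 → u ≠ 0 → wL π a a' b b' t * wL π a a' b b' u = hL π a a' b b' (-(t / u))) ∧
    (∀ t, t ≠ 0 → wL π a a' b b' t = r π a' (t⁻¹ • b') * r π a (t • b) * r π a' (t⁻¹ • b')) := by
  obtain ⟨ψ, h1, h2⟩ := exists_sl2 hπ hchi h
  have hw : ∀ t : F, ψ (SL2Pres.up t * SL2Pres.low (-t⁻¹) * SL2Pres.up t) = wL π a a' b b' t := fun t => by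
    rw [map_mul, map_mul, h1, h2, _root_.neg_neg]; rfl
  have hh : ∀ s (hs : s ≠ 0), hL π a a' b b' s = ψ (diagSL (Units.mk0 s hs)) := fun s hs => by
    rw [hL, ← hw, ← hw, ← map_mul, weyl_mul hs (neg_ne_zero.2 one_ne_zero)]
    congr 3
    field_simp
  refine ⟨fun s t hs ht => ?_, fun t u ht hu => ?_, fun t ht => ?_⟩
  · rw [hh _ (mul_ne_zero hs ht), hh s hs, hh t ht, ← map_mul, ← diagSL_mul]
    congr 2
    exact Units.ext rfl
  · rw [← hw, ← hw, ← map_mul, weyl_mul ht hu, hh]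
  · rw [← hw, ← weyl_sym ht, map_mul, map_mul, h1, h2, _root_.neg_neg]

theorem hL_one (h : Quad Q a a' b b') : hL π a a' b b' 1 = 1 := by
  have := (hL_props hπ hchi h).1 1 1 one_ne_zero one_ne_zero
  rw [mul_one] at this
  exact left_eq_mul.1 this

theorem hL_apply (h : Quad Q a a' b b') {s : F} (hs : s ≠ 0) :
    (π (hL π a a' b b' s)).1 a = s • a ∧ (π (hL π a a' b b' s)).1 b = s • b ∧
      (π (hL π a a' b b' s)).1 a' = s⁻¹ • a' ∧ (π (hL π a a' b b' s)).1 b' = s⁻¹ • b' ∧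
      ∀ x, polar Q x a = 0 → polar Q x a' = 0 → polar Q x b = 0 → polar Q x b' = 0 →
        (π (hL π a a' b b' s)).1 x = x := by
  obtain ⟨p1, p2, p3, p4, p5⟩ := wL_apply hπ hchi h hs
  obtain ⟨n1, n2, n3, n4, n5⟩ := wL_apply hπ hchi h (neg_ne_zero.2 (one_ne_zero : (1 : F) ≠ 0))
  simp only [hL, map_mul, Subgroup.coe_mul, LinearEquiv.mul_apply]
  refine ⟨?_, ?_, ?_, ?_, fun x x1 x2 x3 x4 => by rw [n5 x x1 x2 x3 x4, p5 x x1 x2 x3 x4]⟩
  · rw [n1, map_smul, p4]; simp
  · rw [n2, map_neg, map_smul, p3]; simp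
  · rw [n3, map_smul, p2]; simp
  · rw [n4, map_neg, map_smul, p1]; simp

/-- Weyl elements transported by conjugation. -/
theorem wL_conj (z : E) (h : Quad Q a a' b b') (t : F) :
    z * wL π a a' b b' t * z⁻¹ = wL π ((π z).1 a) ((π z).1 a') ((π z).1 b) ((π z).1 b') t := by
  rw [wL, wL, show z * (r π a (t • b) * r π a' (t⁻¹ • b') * r π a (t • b)) * z⁻¹ =
    (z * r π a (t • b) * z⁻¹) * (z * r π a' (t⁻¹ • b') * z⁻¹) * (z * r π a (t • b) * z⁻¹) by group,
    r_conj hπ hchi z (tot_q hπ hchi h t), r_conj hπ hchi z (tot_q' hπ hchi h _), map_smul, map_smul]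

/-- The two roots at a vertex. -/
theorem wL_pair (h : Quad Q a a' b b') :
    ∀ s t : F, Commute (wL π a a' b b' s) (wL π a a' b' b t) := by
  intro s t
  have hq : Quad Q a a' b' b := ⟨h.pa, h.pb.symm, h.ab', h.ab, h.a'b', h.a'b⟩
  have c0 : ∀ s t : F, Commute (r π a (s • b)) (r π a (t • b')) := fun s t =>
    r_commute hπ hchi (tot_q hπ hchi h s) (tot_q hπ hchi hq t)
  have c1 : ∀ s t : F, Commute (r π a' (s • b')) (r π a' (t • b)) := fun s t =>
    r_commute hπ hchi (tot_q' hπ hchi h s) (tot_q' hπ hchi hq t)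
  have fixed : ∀ {a a' b b' : V}, Quad Q a a' b b' → ∀ s t : F, Commute (r π a (s • b)) (r π a' (t • b)) := by
    intro a a' b b' h s t
    have hsb : Tot Q a (s • b) := tot_q hπ hchi h s
    have ht : Tot Q a' b := ⟨h.pa.qa', h.pb.qa, h.a'b⟩
    have hbb := h.pb.aa
    have h1 : (π (r π a (s • b))).1 b = b := by
      rw [pi_r hπ hchi hsb, sg_fix h.pa.qa hsb.ab (by rw [b_comm, h.ab]) (by rw [b_smul_right, hbb, mul_zero])]
    have h2 : (π (r π a (s • b))).1 a' = a' + s • b := by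
      rw [pi_r hπ hchi hsb, sg_apply h.pa.qa hsb.ab, h.pa.b', hsb.qb, b_smul_right, h.a'b]
      module
    refine mul_inv_eq_iff_eq_mul.1 ?_
    rw [r_conj hπ hchi _ (ht.smul_right t), map_smul, h1, h2]
    rcases eq_or_ne t 0 with rfl | ht0
    · rw [zero_smul, r_zero_right, r_zero_right]
    rw [show a' + s • b = a' + (s / t) • t • b by rw [smul_smul, div_mul_cancel₀ _ ht0],
      r_add_left hπ hchi (ht.smul_right t)]
  have g0 : Commute (r π a (s • b)) (wL π a a' b' b t) :=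
    ((c0 s t).mul_right (fixed h s _)).mul_right (c0 s t)
  have g1 : Commute (r π a' (s⁻¹ • b')) (wL π a a' b' b t) :=
    ((fixed hq t s⁻¹).symm.mul_right (c1 _ _)).mul_right (fixed hq t s⁻¹).symm
  exact (g0.mul_left g1).mul_left g0

variable {e f : V}

theorem kappa_split (h : Quad Q a a' b b') (s t : F) :
    kappa π a (s • b + t • b') = r π a (s • b) * r π a (t • b') := by
  have hq : Quad Q a a' b' b := ⟨h.pa, h.pb.symm, h.ab', h.ab, h.a'b', h.a'b⟩
  rw [kappa_add hπ hchi h.pa.qa (tot_q hπ hchi h s).ab (tot_q hπ hchi hq t).ab,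
    kappa_eq_r hπ hchi (tot_q hπ hchi h s), kappa_eq_r hπ hchi (tot_q hπ hchi hq t)]

/-- The Weyl element of a vector in a hyperbolic plane. -/
theorem Wk_split {u v : V} (h : Quad Q e f u v) {p q : F} (hp : p ≠ 0) (hq : q ≠ 0) :
    Wk π e f (p • u + q • v) = wL π e f u v p * wL π e f v u q := by
  have hQ : Q (p • u + q • v) = p * q := by
    rw [q_add, q_smul, q_smul, h.pb.qa, h.pb.qa', b_smul_left, b_smul_right, h.pb.b]; ring
  have hfe : Quad Q f e v u := ⟨h.pa.symm, h.pb.symm, h.a'b', h.a'b, h.ab', h.ab⟩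
  have he' : Quad Q e f v u := ⟨h.pa, h.pb.symm, h.ab', h.ab, h.a'b', h.a'b⟩
  have hfu : Quad Q f e u v := ⟨h.pa.symm, h.pb, h.a'b, h.a'b', h.ab, h.ab'⟩
  rw [Wk, hQ, show (p * q)⁻¹ • (p • u + q • v) = q⁻¹ • u + p⁻¹ • v by match_scalars <;> field_simp,
    kappa_split hπ hchi h, kappa_split hπ hchi hfu]
  have A1 := r_commute hπ hchi (tot_q hπ hchi h p) (tot_q hπ hchi he' q)
  have A2 := r_commute hπ hchi (tot_q hπ hchi hfu q⁻¹) (tot_q hπ hchi hfe p⁻¹)
  have cross : ∀ {e f u v : V}, Quad Q e f u v → ∀ p q : F, Commute (r π e (p • u)) (r π f (q • u)) := by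
    intro a a' b b' h s t
    have hsb : Tot Q a (s • b) := tot_q hπ hchi h s
    have ht : Tot Q a' b := ⟨h.pa.qa', h.pb.qa, h.a'b⟩
    refine mul_inv_eq_iff_eq_mul.1 ?_
    have h1 : (π (r π a (s • b))).1 b = b := by
      rw [pi_r hπ hchi hsb, sg_fix h.pa.qa hsb.ab (by rw [b_comm, h.ab]) (by rw [b_smul_right, h.pb.aa, mul_zero])]
    have h2 : (π (r π a (s • b))).1 a' = a' + s • b := by
      rw [pi_r hπ hchi hsb, sg_apply h.pa.qa hsb.ab, h.pa.b', hsb.qb, b_smul_right, h.a'b]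
      module
    rw [r_conj hπ hchi _ (ht.smul_right t), map_smul, h1, h2]
    rcases eq_or_ne t 0 with rfl | ht0
    · rw [zero_smul, r_zero_right, r_zero_right]
    rw [show a' + s • b = a' + (s / t) • t • b by rw [smul_smul, div_mul_cancel₀ _ ht0],
      r_add_left hπ hchi (ht.smul_right t)]
  have A3 : Commute (r π e (p • u)) (r π f (q⁻¹ • u)) := cross h p q⁻¹
  have A4 : Commute (r π e (q • v)) (r π f (p⁻¹ • v)) := cross he' q p⁻¹
  obtain ⟨xu, hxu⟩ : ∃ z, r π e (p • u) = z := ⟨_, rfl⟩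
  obtain ⟨xv, hxv⟩ : ∃ z, r π e (q • v) = z := ⟨_, rfl⟩
  obtain ⟨yu, hyu⟩ : ∃ z, r π f (q⁻¹ • u) = z := ⟨_, rfl⟩
  obtain ⟨yv, hyv⟩ : ∃ z, r π f (p⁻¹ • v) = z := ⟨_, rfl⟩
  simp only [wL, hxu, hxv, hyu, hyv] at A1 A2 A3 A4 ⊢
  calc xu * xv * (yu * yv) * (xu * xv) = xu * (xv * (yu * yv)) * (xu * xv) := by group
    _ = xu * (xv * (yv * yu)) * (xu * xv) := by rw [A2]
    _ = xu * ((xv * yv) * yu) * (xu * xv) := by group
    _ = xu * ((yv * xv) * yu) * (xu * xv) := by rw [A4.eq]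
    _ = xu * yv * xv * (yu * xu) * xv := by group
    _ = xu * yv * xv * (xu * yu) * xv := by rw [A3.eq]
    _ = xu * yv * (xv * xu) * yu * xv := by group
    _ = xu * yv * (xu * xv) * yu * xv := by rw [A1]
    _ = xu * yv * xu * (xv * yu * xv) := by group

theorem Wk_conj (z : E) (h : Pair Q e f) {x : V} (hx : x ∈ pp Q e f) :
    z * Wk π e f x * z⁻¹ = Wk π ((π z).1 e) ((π z).1 f) ((π z).1 x) := by
  have h1 : polar Q e x = 0 := by rw [b_comm]; exact hx.1
  have h2 : polar Q f ((Q x)⁻¹ • x) = 0 := by rw [b_smul_right, b_comm f x, hx.2, mul_zero]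
  rw [Wk, Wk, show z * (kappa π e x * kappa π f ((Q x)⁻¹ • x) * kappa π e x) * z⁻¹ =
    (z * kappa π e x * z⁻¹) * (z * kappa π f ((Q x)⁻¹ • x) * z⁻¹) * (z * kappa π e x * z⁻¹) by group,
    kappa_conj hπ hchi z h.qa h1, kappa_conj hπ hchi z h.qa' h2, map_smul, (π z).2]

end Cfsg.Agent.OmegaMult
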